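import Cfsg.Agent.Mat.M22A
import Cfsg.Agent.Mat.Model
import Cfsg.Agent.Local.Sub

/-! Homomorphisms from presentations of double covers. -/

set_option autoImplicit false

namespace Cfsg.Agent.Mat

open Subgroup MulAction Cfsg.Agent.M11 Cfsg.Agent.Local

theorem exists_hom_words2 {M G : Type*} [Group M] [Group G] [Finite M] [Finite G] {ms : List M} {gs : List G}
    (hl : ms.length = gs.length) {rels : List (List ℕ)} {N : ℕ}
    (hP : ∀ l : List (M × G), l.length = gs.length → (∀ r ∈ rels, ev l r = 1) → Nat.card (cl l) ≤ N)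
    (hN : N ≤ 2 * Nat.card (cl ms)) (hM : ∀ r ∈ rels, ev ms r = 1) (hG : ∀ r ∈ rels, ev gs r = 1)
    (hz : ∀ g : G, g * g = 1 → (∀ y ∈ gs, Commute g y) → g = 1) :
    ∃ f : cl ms →* G, ∀ w, f (el ms w) = ev gs w := by
  refine exists_hom_of_rel hl fun w hw => ?_
  obtain ⟨l, rfl, rfl⟩ : ∃ l : List (M × G), ms = l.map Prod.fst ∧ gs = l.map Prod.snd :=
    ⟨ms.zip gs, (List.map_fst_zip hl.le).symm, (List.map_snd_zip hl.ge).symm⟩
  have e1 : ∀ w, (ev l w).1 = ev (l.map Prod.fst) w := map_ev (MonoidHom.fst M G) l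
  have e2 : ∀ w, (ev l w).2 = ev (l.map Prod.snd) w := map_ev (MonoidHom.snd M G) l
  have h := (hP l (by simp) fun r hr => Prod.ext ((e1 r).trans (hM r hr)) ((e2 r).trans (hG r hr))).trans hN
  let π : cl l →* cl (l.map Prod.fst) := ((MonoidHom.fst M G).comp (cl l).subtype).codRestrict _
    fun x => by obtain ⟨w, rfl⟩ := el_surj x; exact (e1 w).symm.subst (motive := (· ∈ cl _)) (ev_mem_cl _ w)
  have h3 : ∀ w, π (el l w) = el _ w := fun w => Subtype.ext (e1 w)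
  have h4 := card_eq_card_quotient_mul_card_subgroup π.ker
  rw [Nat.card_congr (QuotientGroup.quotientKerEquivOfSurjective π fun y => by
    obtain ⟨w, rfl⟩ := el_surj y; exact ⟨_, h3 w⟩).toEquiv] at h4
  have h5 : Nat.card π.ker ≤ 2 := Nat.le_of_mul_le_mul_left (by rw [← h4, mul_comm]; exact h) Nat.card_pos
  have h6 : el l w ∈ π.ker := (h3 w).trans (Subtype.ext hw)
  rw [← e2]
  by_cases h7 : el l w = 1
  · exact congrArg (fun x : cl l => x.1.2) h7
  have h8 : ∀ y ∈ π.ker, y = 1 ∨ y = el l w := fun y hy => (Set.eq_of_subset_of_ncard_le (s := {1, el l w})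
    (t := π.ker) (by rintro _ (rfl | rfl); exacts [one_mem _, h6])
    (by rw [ncard_coe, Set.ncard_pair (Ne.symm h7)]; exact h5)).ge hy
  refine hz _ (congrArg (fun x : cl l => x.1.2) ((h8 _ (mul_mem h6 h6)).resolve_right fun e => h7 (mul_eq_left.mp e)))
    fun y hy => ?_
  obtain ⟨p, hp, rfl⟩ := List.mem_map.mp hy
  exact (congrArg (fun x : cl l => x.1.2) (mul_inv_eq_iff_eq_mul.mp ((h8 _ (π.normal_ker.conj_mem _ h6
    ⟨p, mem_cl hp⟩)).resolve_left fun e => h7 (conj_eq_one_iff.mp e)))).symm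

theorem eq_bot_of_spec {M : Type*} [Group M] [Finite M] {S : Finset ℕ} (hk : ∀ g : M, orderOf g ∈ S) {K : Subgroup M}
    [hK : K.Normal] {n : ℕ} (h : Nat.card K ∣ n) (h0 : n ≠ 0) (hp : ∀ p, p.Prime → p ∣ n →
      ¬ p ^ 2 ∣ Nat.card M ∧ n * p < Nat.card M ∧ ∀ q, q * p ∈ S → q = 1 ∨ q = p) : K = ⊥ := by
  by_contra h1
  obtain ⟨p, h2, h3⟩ := Nat.exists_prime_and_dvd (mt (eq_bot_of_card_eq K) h1)
  obtain ⟨g, hg, e⟩ := exists_mem_orderOf_eq_of_dvd_card h2 h3
  obtain ⟨h4, h5, h6⟩ := hp p h2 (h3.trans h)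
  have h7 : cc g ≤ p ^ 1 := le_of_not_gt fun h7 => by
    obtain ⟨q, q1, q2, q3⟩ := exists_mul_ord hk h2 e h7 h4
    exact (h6 q q3).elim q1.one_lt.ne' q2
  have h8 := Set.ncard_le_ncard (s := {w | IsConj g w}) (t := K) fun w hw => by
    obtain ⟨c, rfl⟩ := isConj_iff.mp hw
    exact hK.conj_mem g hg c
  have h9 := cc_mul g
  have h10 := Nat.le_of_dvd (Nat.pos_of_ne_zero h0) h
  rw [ncard_coe] at h8
  rw [pow_one] at h7
  nlinarith [Nat.mul_le_mul h7 (h8.trans h10)]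

theorem card_ker_dvd {M G : Type*} [Group M] [Group G] [Finite M] (F : M →* G) {H : Subgroup G} (h : H ≤ F.range)
    {a b : ℕ} (hH : Nat.card H = a) (hM : Nat.card M = a * b) (ha : 0 < a) : Nat.card F.ker ∣ b := by
  have h4 := card_eq_card_quotient_mul_card_subgroup F.ker
  obtain ⟨m, hm⟩ := card_dvd_of_le h
  rw [Nat.card_congr (QuotientGroup.quotientKerEquivRange F).toEquiv, hM, hm, hH, mul_assoc,
    Nat.mul_right_inj ha.ne'] at h4
  exact Dvd.intro_left m h4.symm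

end Cfsg.Agent.Mat
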