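import Cfsg.Agent.Mat.M12H
import Cfsg.Agent.Mat.Data12

/-! The commuting graph on the 2-central involutions. -/

set_option autoImplicit false
set_option linter.unusedSectionVars false
set_option maxRecDepth 100000

namespace Cfsg.Agent.Mat

open Subgroup MulAction Cfsg.Agent.M11

variable {G : Type*} [Group G] [Finite G]

/-- The 2-central involutions. -/
def KK (t : G) : Prop := orderOf t = 2 ∧ cc t = 192

theorem KK.conj {t : G} (h : KK t) (c : G) : KK (c * t * c⁻¹) :=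
  ⟨(orderOf_conj' c t).trans h.1, (cc_conj c t).trans h.2⟩

/-- Adjacent involutions. -/
def Adj (a b : G) : Prop := KK a ∧ KK b ∧ a ≠ b ∧ Commute a b ∧ ∃ c, Commute c a ∧ Commute c b ∧ c * c ≠ 1

theorem Adj.symm {a b : G} (h : Adj a b) : Adj b a :=
  let ⟨h1, h2, h3, h4, c, h5, h6, h7⟩ := h
  ⟨h2, h1, h3.symm, h4.symm, c, h6, h5, h7⟩

/-- A model of the centralizer of a 2-central involution. -/
structure Hol (f : cl ms8 →* G) : Prop where
  inj : Function.Injective f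
  range : f.range = centralizer {f z8}
  kz : KK (f z8)
  kt : KK (f t8)
  kr : KK (f (el ms8 [0, 7]))
  kn : ¬ KK (f (el ms8 [2, 7]))

theorem notR : ¬ isR z8 ∧ ∀ u, isT u → ¬ isR u ∧ u ≠ z8 := by decide +kernel

theorem exists_R : ∃ r, isR r ∧ r * t8 ≠ t8 * r ∧ (r * t8) ^ 2 = el ms8 [5, 0, 7, 4] := by decide +kernel

namespace Hol

variable {f : cl ms8 →* G} (h : Hol f)
include h

theorem conj (c : G) : Hol ((MulAut.conj c).toMonoidHom.comp f) where
  inj := (MulAut.conj c).injective.comp h.inj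
  range := by
    ext x
    obtain ⟨x, rfl⟩ := (MulAut.conj c).surjective x
    have e : x ∈ f.range ↔ _ := h.range ▸ mem_centralizer_singleton_iff
    rw [mem_centralizer_singleton_iff, MonoidHom.range_comp]
    refine (mem_map_iff_mem (f := (MulAut.conj c).toMonoidHom) (MulAut.conj c).injective).trans (e.trans ?_)
    simp
  kz := h.kz.conj c
  kt := h.kt.conj c
  kr := h.kr.conj c
  kn := fun e => h.kn (by simpa [mul_assoc] using e.conj c⁻¹)

theorem mem {c : G} (hc : Commute c (f z8)) : ∃ u, f u = c := h.range.ge (mem_centralizer_singleton_iff.mpr hc)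

theorem comm (u : cl ms8) : Commute (f u) (f z8) := by rw [Commute, SemiconjBy, ← map_mul, z8_comm, map_mul]

theorem comm_iff {u v : cl ms8} : Commute (f u) (f v) ↔ u * v = v * u := by
  rw [Commute, SemiconjBy, ← map_mul, ← map_mul, h.inj.eq_iff]

theorem kk_R {u : cl ms8} (hu : isR u) : KK (f u) := by
  obtain ⟨c, rfl⟩ := isR_conj u hu
  simpa using h.kr.conj (f c)

theorem sq {u : cl ms8} (hu : KK (f u)) : u * u = 1 := h.inj (by rw [map_mul, sq_of_two hu.1, map_one])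

theorem cases {u : cl ms8} (hu : KK (f u)) : u = z8 ∨ isR u ∨ isT u := by
  rcases inv8 u (h.sq hu) with rfl | e | e | e | ⟨c, rfl⟩
  · have := hu.1; rw [map_one, orderOf_one] at this; omega
  exacts [.inl e, .inr (.inl e), .inr (.inr e), absurd (by simpa [mul_assoc] using hu.conj (f c)⁻¹) h.kn]

theorem cent_T {u : cl ms8} (hu : isT u) {c : G} (h1 : Commute c (f z8)) (h2 : Commute c (f u)) : c * c = 1 := by
  obtain ⟨c, rfl⟩ := h.mem h1
  obtain ⟨d, rfl⟩ := hu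
  have h3 := cent_t8 (d⁻¹ * c * d⁻¹⁻¹) (by
    calc _ = d⁻¹ * (c * (d * t8 * d⁻¹)) * d := by group
      _ = _ := by rw [h.comm_iff.mp h2]; group)
  rw [conj_mul, conj_eq_one_iff] at h3
  rw [← map_mul, h3, map_one]

theorem adj_iff {u : cl ms8} : Adj (f z8) (f u) ↔ isR u := by
  refine ⟨fun ⟨_, h1, h2, _, c, h3, h4, h5⟩ => ?_, fun hu => ?_⟩
  · rcases h.cases h1 with rfl | e | e
    exacts [absurd rfl h2, e, absurd (h.cent_T e h3 h4) h5]
  · obtain ⟨-, -, h1, c, h2, h3⟩ := isR_cent u hu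
    exact ⟨h.kz, h.kk_R hu, fun e => h1 (h.inj e).symm, (h.comm u).symm, f c, h.comm c, h.comm_iff.mpr h2,
      fun e => h3 (h.inj (by rw [map_mul, e, map_one]))⟩

theorem of_adj {b : G} (hb : Adj (f z8) b) : ∃ u, isR u ∧ f u = b := by
  obtain ⟨u, rfl⟩ := h.mem hb.2.2.2.1.symm
  exact ⟨u, h.adj_iff.mp hb, rfl⟩

theorem of_not_adj {b : G} (h1 : KK b) (h2 : Commute b (f z8)) (h3 : b ≠ f z8) (h4 : ¬ Adj (f z8) b) :
    ∃ u, isT u ∧ f u = b := by
  obtain ⟨u, rfl⟩ := h.mem h2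
  rcases h.cases h1 with rfl | e | e
  exacts [absurd rfl h3, absurd (h.adj_iff.mpr e) h4, ⟨u, e, rfl⟩]

end Hol

theorem lemX (H : ∀ k : G, KK k → ∃ f : cl ms8 →* G, Hol f ∧ f z8 = k) {a b r : G} (h1 : Adj a r) (hb : KK b)
    (h2 : Commute b a) (h3 : ¬ Adj a b) (h4 : ¬ Commute r b) : Adj a ((r * b) ^ 2) ∧ ¬ Adj b ((r * b) ^ 2) := by
  obtain ⟨f, hf, rfl⟩ := H a h1.1
  obtain ⟨r, hr, rfl⟩ := hf.of_adj h1
  obtain ⟨b, hb', rfl⟩ := hf.of_not_adj hb h2 (fun e => h4 (e ▸ hf.comm r)) h3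
  obtain ⟨h5, h6⟩ := lemX1 r hr b (hf.sq hb) (fun e => h4 (hf.comm_iff.mpr e)) hb'
  have h7 := hf.adj_iff.mpr h5
  have h8 := hf.comm_iff.mpr h6
  rw [map_pow, map_mul] at h7 h8
  refine ⟨h7, fun h9 => ?_⟩
  obtain ⟨g, hg, e⟩ := H _ h7.2.1
  rw [← e] at h7 h8 h9
  obtain ⟨a', ha', e1⟩ := hg.of_adj h7.symm
  obtain ⟨b', hb'', e2⟩ := hg.of_adj h9.symm
  obtain ⟨r', e3⟩ := hg.mem h8
  have h10 := h1.2.1
  rw [← e3] at h10
  refine lemX2 a' ha' b' hb'' r' (hg.sq h10) (hg.comm_iff.mp (e1 ▸ e3 ▸ hf.comm r)) (hg.inj ?_) (hg.cases h10)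
  rw [map_mul, map_mul, map_mul, e, e2, e3, pow_two]
  simp only [mul_assoc, sq_of_two hb.1, mul_one]

theorem Hol.braid (H : ∀ k : G, KK k → ∃ f : cl ms8 →* G, Hol f ∧ f z8 = k) {f : cl ms8 →* G} (hf : Hol f) {y : G}
    (hy : orderOf y = 3) (h1 : Commute y (f t8)) (h2 : f z8 * y * (f z8)⁻¹ = y⁻¹) :
    (y * f z8 * y⁻¹ * f (el ms8 [0, 2, 7, 6, 8])) ^ 3 = 1 := by
  have hT : isT t8 := ⟨1, by simp⟩
  have n1 : ¬ Adj (f z8) (f t8) := fun e => (notR.2 _ hT).1 (hf.adj_iff.mp e)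
  have n2 : f t8 ≠ f z8 := fun e => (notR.2 _ hT).2 (hf.inj e)
  obtain ⟨g, hg, e⟩ := H _ hf.kt
  obtain ⟨t, ht, e1⟩ := hg.of_not_adj hf.kz (e ▸ (hf.comm t8).symm) (e ▸ n2.symm) (e ▸ fun e => n1 e.symm)
  obtain ⟨r, hr, h3, h4⟩ := lemX3 t ht
  obtain ⟨y, rfl⟩ := hg.mem (e ▸ h1)
  have h5 := congrArg g (h4 y (hg.inj (by rw [map_pow, ← hy, pow_orderOf_eq_one, map_one]))
    (by rintro rfl; simp at hy) (hg.inj (by simp [e1, h2])))
  simp only [map_pow, map_mul, map_inv, map_one, e1] at h5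
  obtain ⟨h6, h7⟩ := lemX H (e ▸ hg.adj_iff.mpr hr) hf.kz (hf.comm t8).symm (fun e => n1 e.symm)
    fun e2 => h3 (hg.comm_iff.mp (e1 ▸ e2))
  have hz2 := sq_of_two hf.kz.1
  obtain ⟨c, e2⟩ := hf.mem (c := (g r * f z8) ^ 2) (by
    show _ * _ = _ * _
    nth_rw 2 [← inv_of_two h6.2.1.1]
    simp only [pow_two, mul_inv_rev, inv_of_two hf.kz.1, inv_of_two (hg.kk_R hr).1, mul_assoc, hz2, mul_one]
    rw [← mul_assoc (f z8) (f z8), hz2, one_mul])
  rw [← e2] at h5 h6 h7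
  have n3 : ∀ u, Adj (f t8) (f (t8 * u)) → KK (f u) → u ≠ t8 → Adj (f t8) (f u) := by
    rintro u ⟨k1, -, -, k2, c, k3, k4, k5⟩ k6 k7
    rw [map_mul] at k2 k4
    exact ⟨k1, k6, fun e => k7 (hf.inj e).symm, by simpa using (Commute.refl (f t8)).inv_right.mul_right k2,
      c, k3, by simpa using k3.inv_right.mul_right k4, k5⟩
  rcases cent_t8' c (hf.comm_iff.mp h6.2.2.2.1.symm) with rfl | rfl | rfl | rfl | e3 | rfl | rfl
  · have := h6.2.1.1; rw [map_one, orderOf_one] at this; omega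
  · exact absurd h6.symm n1
  · exact absurd rfl h6.2.2.1
  · exact absurd (n3 z8 (z8_comm t8 ▸ h6) hf.kz fun e => n2 (congrArg f e.symm)).symm n1
  · exact absurd (hf.adj_iff.mpr e3) h7
  · obtain ⟨s, k1, k2, k3⟩ := exists_R
    have k4 := (lemX H (hf.adj_iff.mpr k1) hf.kt (hf.comm t8) n1 fun e => k2 (hf.comm_iff.mp e)).2
    rw [← map_mul, ← map_pow, k3] at k4
    exact absurd (n3 _ h6 (hf.kk_R (by decide +kernel)) (by decide +kernel)) k4
  · rwa [← map_mul, show z8 * (z8 * t8 * el ms8 [5, 0, 7, 4]) = el ms8 [0, 2, 7, 6, 8] by decide +kernel] at h5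

theorem N12.exists_hol (h : N12 G) : ∃ (gs : List G) (y r : G) (ψ : cl ms9 →* G) (f : cl ms8 →* G), gs.length = 7 ∧
    orderOf y = 3 ∧ (∀ w, ψ (el ms9 w) = ev (gs ++ [y]) w) ∧ (∀ w, f (el ms8 w) = ev (gs ++ [r, r⁻¹]) w) ∧ Hol f := by
  obtain ⟨y, y2, hy⟩ := h.exists_t12
  obtain ⟨gs, φ, ψ, hl, i1, hφ, i2, hψ⟩ := hy.exists_hom
  have e1 : ∀ w : List ℕ, w.all (Nat.blt · 7) = true → φ (el ms7 w) = ψ (el ms9 w) := fun w hw => by
    rw [hφ, hψ, ← ev_take (gs := gs ++ [y]) hw, List.take_left' hl]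
  have o : ∀ (p : ℕ) [Fact p.Prime] (u : cl ms9), u ^ p = 1 → u ≠ 1 → orderOf (ψ u) = p := fun p _ u h1 h2 => by
    rw [orderOf_injective ψ i2, orderOf_eq_prime h1 h2]
  have cm : ∀ u v : cl ms9, u * v = v * u → Commute (ψ u) (ψ v) := fun u v e => by
    rw [Commute, SemiconjBy, ← map_mul, e, map_mul]
  have oz := o 2 (el ms9 [0, 0]) (by decide +kernel) (by decide +kernel)
  have ox := o 3 (el ms9 [4]) (by decide +kernel) (by decide +kernel)
  have cx := h.cen_of_inv ox oz (o 3 (el ms9 [7]) (by decide +kernel) (by decide +kernel))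
    (cm _ _ (by decide +kernel)) (cm _ _ (by decide +kernel))
    (by rw [← map_inv, ← map_mul, ← map_mul, ← map_inv]; exact congrArg ψ (by decide +kernel))
  have h1 := h.cc_of_cen ox cx oz (cm _ _ (by decide +kernel))
  have h2 := h.card_CC ox cx oz (cm _ _ (by decide +kernel))
  have ey : ψ (el ms9 [7]) = y := by simp [hψ, ev, hl]
  have ot := o 2 (el ms9 [6]) (by decide +kernel) (by decide +kernel)
  have h3 := (h.cc_of_cen hy.ord hy.cen ot (ey ▸ cm _ _ (by decide +kernel))).1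
  rw [← e1 _ rfl] at h1 oz h3 ot
  rw [← e1 _ rfl, ← e1 _ rfl] at h2
  have hK : ∀ v : G, orderOf v = 2 → 32 ∣ cc v → KK v := fun v h4 h5 => ⟨h4, by have := h.cc_two h4; omega⟩
  obtain ⟨r, f, i3, hf, h4⟩ := (GL12.mk i1 h1.1 h1.2 h2).exists_hol
    (fun v h4 h5 => h.conj_of_192 oz h1.1 h4 (hK v h4 h5).2) hl hφ
  have e2 : ∀ w : List ℕ, w.all (Nat.blt · 7) = true → φ (el ms7 w) = f (el ms8 w) := fun w hw => by
    rw [hφ, hf, ← ev_take (gs := gs ++ _) hw, List.take_left' hl]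
  rw [z7, e2 _ rfl] at h4
  rw [e2 _ rfl] at h1 oz h3 ot
  have kr : KK (f (el ms8 [0, 7])) := by
    refine hK _ (by rw [orderOf_injective f i3]; exact orderOf_eq_prime (by decide +kernel) (by decide +kernel)) ?_
    have h5 := card_dvd_cc (g := f (el ms8 [0, 7])) (R := (centralizer {el ms8 [0, 7]}).map f) (by
      rintro _ ⟨u, hu, rfl⟩
      rw [← map_mul, mem_centralizer_singleton_iff.mp hu, map_mul])
    rwa [card_map_of_injective i3, ← ncard_coe, show ((centralizer {el ms8 [0, 7]} : Subgroup _) : Set (cl ms8)) =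
      {c | c * el ms8 [0, 7] = el ms8 [0, 7] * c} from Set.ext fun _ => mem_centralizer_singleton_iff, ncard_isR] at h5
  refine ⟨gs, y, r, ψ, f, hl, hy.ord, hψ, hf, i3, h4, ⟨oz, h1.1⟩, ⟨ot, h3⟩, kr, fun kn => ?_⟩
  obtain ⟨t, ht, ht'⟩ := h.two_classes.2
  obtain ⟨S, hS⟩ := exists_sylow_le_cent (p := 2) (k := 6) (m := 1485) (g := f z8) h.card (by decide)
    (by rw [z8, h1.1]; decide)
  obtain ⟨T, hT⟩ := exists_sylow_mem ht
  obtain ⟨g, rfl⟩ := exists_smul_eq G T S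
  obtain ⟨u, e⟩ := h4.ge (mem_centralizer_singleton_iff.mpr (hS _ (conj_mem_smul g hT)))
  rw [← cc_conj g, ← e] at ht'
  rw [← orderOf_conj' g, ← e] at ht
  have k : ∀ c v, KK (f v) → cc (f (c * v * c⁻¹)) = 192 := fun c v hv => by simpa using (hv.conj (f c)).2
  rcases inv8 u (i3 (by rw [map_mul, sq_of_two ht, map_one])) with rfl | rfl | e3 | ⟨c, rfl⟩ | ⟨c, rfl⟩
  · simp at ht
  · rw [z8, h1.1] at ht'; omega
  · obtain ⟨c, rfl⟩ := isR_conj u e3
    rw [k c _ kr] at ht'; omega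
  · rw [k c t8 ⟨ot, h3⟩] at ht'; omega
  · rw [k c _ kn] at ht'; omega

theorem N12.nonempty_equiv (h : N12 G) : Nonempty (G ≃* cl ms12) := by
  obtain ⟨gs, y, r, ψ, f, hl, hy, hψ, hf, hH⟩ := h.exists_hol
  have e1 : ∀ w : List ℕ, w.all (Nat.blt · 7) = true → f (el ms8 w) = ψ (el ms9 w) := fun w hw => by
    rw [hf, hψ, ← ev_take (gs := gs ++ [y]) hw, ← ev_take (gs := gs ++ _) hw, List.take_left' hl, List.take_left' hl]
  have ey : ψ (el ms9 [7]) = y := by simp [hψ, ev, hl]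
  have H : ∀ k : G, KK k → ∃ f : cl ms8 →* G, Hol f ∧ f z8 = k := fun k hk => by
    obtain ⟨c, rfl⟩ := isConj_iff.mp (h.conj_of_192 hH.kz.1 hH.kz.2 hk.1 hk.2)
    exact ⟨_, hH.conj c, rfl⟩
  have h1 := hH.braid H hy (by
    rw [t8, e1 _ rfl, ← ey, Commute, SemiconjBy, ← map_mul, ← map_mul]; exact congrArg ψ (by decide +kernel)) (by
    rw [z8, e1 _ rfl, ← ey, ← map_inv, ← map_inv, ← map_mul, ← map_mul]; exact congrArg ψ (by decide +kernel))
  rw [z8, e1 _ rfl, ← ey, ← map_inv, ← map_mul, ← map_mul,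
    show el ms9 [7] * el ms9 [0, 0] * (el ms9 [7])⁻¹ = el ms9 [7, 0, 0, 7, 7] by decide +kernel] at h1
  let l := [f (el ms8 [0]), f (el ms8 [1]), f (el ms8 [2]), f (el ms8 [3]), ψ (el ms9 [7, 0, 0, 7, 7]),
    f (el ms8 [0, 2, 7, 6, 8]), f (el ms8 [5, 6]), f (el ms8 [6])]
  obtain ⟨F, hF⟩ := exists_hom_words (ms := ms12) (gs := l) rfl (fun l hl' => pres12 l hl') card_cl12.ge rels12_ms12
    fun w hw => by
      rcases (by decide +kernel : ∀ w ∈ rels12, ((∀ a ∈ w, a < 8 ∧ a ≠ 5) ∧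
        ev ([[0], [1], [2], [3], [7, 0, 0, 7, 7], [], [5, 6], [6]].map (el ms9)) w = 1) ∨ ((∀ a ∈ w, a < 8 ∧ a ≠ 4) ∧
        ev ([[0], [1], [2], [3], [], [0, 2, 7, 6, 8], [5, 6], [6]].map (el ms8)) w = 1) ∨ w = [4, 5, 4, 5, 4, 5]) w hw
        with ⟨e2, e3⟩ | ⟨e2, e3⟩ | rfl
      · rw [← map_one ψ, ← e3, map_ev]
        refine ev_congr fun a ha => ?_
        obtain ⟨e4, e5⟩ := e2 a ha
        interval_cases a <;> first | exact e1 _ rfl | rfl | exact absurd rfl e5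
      · rw [← map_one f, ← e3, map_ev]
        refine ev_congr fun a ha => ?_
        obtain ⟨e4, e5⟩ := e2 a ha
        interval_cases a <;> first | rfl | exact absurd rfl e5
      · rw [← h1]
        simp [ev, l, pow_succ, mul_assoc]
  have h2 : f.range ≤ F.range := by
    rw [range_eq_cl hF, range_eq_cl hf]
    refine cl_le fun x hx => ?_
    obtain ⟨a, ha, rfl⟩ := List.getElem_of_mem hx
    obtain ⟨w, -, e2, e3⟩ := (by decide +kernel : ∀ a < 9, ∃ w ∈ [[0], [1], [2], [3], [7, 6], [6, 7], [7],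
      [1, 5, 6, 5, 7, 6, 5], [0, 5, 6, 5, 7, 6, 5]], (∀ a ∈ w, a < 8 ∧ a ≠ 4) ∧
      ev ([[0], [1], [2], [3], [], [0, 2, 7, 6, 8], [5, 6], [6]].map (el ms8)) w = el ms8 [a]) a (by simpa [hl] using ha)
    rw [← List.getD_eq_getElem _ 1, ← mul_one (List.getD _ _ _), show _ * (1 : G) = ev _ [a] from rfl, ← hf, ← e3,
      map_ev, ev_congr (gs' := l) fun a ha => by
        obtain ⟨e4, e5⟩ := e2 a ha
        interval_cases a <;> first | rfl | exact absurd rfl e5]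
    exact ev_mem_cl l w
  have h3 := card_dvd_of_le h2
  have h4 := card_eq_card_quotient_mul_card_subgroup F.ker
  rw [Nat.card_congr (QuotientGroup.quotientKerEquivRange F).toEquiv, card_cl12] at h4
  rw [← Nat.card_congr (f.ofInjective hH.inj).toEquiv, card8] at h3
  obtain ⟨m, hm⟩ := h3
  have h5 : Nat.card F.ker ∣ 495 := ⟨m, by rw [hm] at h4; nlinarith⟩
  have hM := n12_of_nse card_cl12 nse12
  have h6 : Function.Injective F := F.ker_eq_bot_iff.mp <| (eq_bot_iff_forall _).mpr fun g hg => by_contra fun hg1 => by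
    have h6 := (orderOf_dvd_natCard _ hg).trans h5
    have h7 := hM.spec g
    have h8 := Set.ncard_le_ncard (s := {w | IsConj g w}) (t := F.ker) fun w hw => by
      obtain ⟨c, rfl⟩ := isConj_iff.mp hw
      exact F.normal_ker.conj_mem g hg c
    have h9 := cc_mul g
    have h10 := Nat.le_of_dvd (by decide) h5
    rw [ncard_coe] at h8
    rw [hM.card] at h9
    rw [← orderOf_eq_one_iff] at hg1
    have h11 : cc g ≤ 54 := by
      simp only [Finset.mem_insert, Finset.mem_singleton] at h7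
      rcases h7 with e | e | e | e | e | e | e | e | e <;> rw [e] at h6 <;> try omega
      · by_cases h12 : 27 ∣ cc g
        · rw [(hM.cen54 e h12).1]
        · rw [(hM.nc36 e h12).1]; omega
      · rw [hM.c5 g e]; omega
      · rw [hM.c11 g e]; omega
    nlinarith
  exact ⟨(MulEquiv.ofBijective F ((Nat.bijective_iff_injective_and_card F).mpr
    ⟨h6, card_cl12.trans h.card.symm⟩)).symm⟩

end Cfsg.Agent.Mat
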