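import Cfsg.Agent.Mat.Golay

/-! Upper bounds for the orders of the large Mathieu groups. -/

set_option autoImplicit false
set_option maxRecDepth 100000

namespace Cfsg.Agent.Mat

open Subgroup MulAction Cfsg.Agent.M11
open scoped Pointwise

/-- The octads. -/
def octs : List ℕ := [5279, 10558, 15777, 18147, 21116, 31554, 36294, 39257, 42232, 45159, 52005, 57883, 63108, 69395, 72588, 75309, 78514, 84464, 90318, 95313, 99029, 104010, 115766, 118953, 126216, 133817, 138790, 140167, 145176, 150618, 153797, 157028, 168928, 175681, 180636, 185603, 190626, 198058, 201013, 208020, 210955, 213833, 231532, 237906, 252432, 262637, 267634, 272595, 277580, 280334, 283537, 290352, 298027, 301236, 304405, 307594, 314056, 334433, 337856, 346141, 351362, 352547, 361272, 371206, 381252, 396116, 402026, 416040, 418953, 421910, 427666, 430605, 442481, 459847, 463064, 475812, 493953, 504864, 525274, 530245, 535268, 542009, 545190, 551943, 555160, 560668, 563843, 567074, 580704, 582081, 593097, 596054, 602472, 608810, 615188, 622863, 628112,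 632881, 657763, 663645, 668866, 675712, 684577, 689317, 692282, 702724, 705094, 722544, 737427, 742412, 762504, 786999, 792232, 797449, 804052, 806987, 832080, 837906, 843820, 855332, 861210, 864389, 884962, 902657, 919694, 924689, 926128, 951624, 987906, 1009728, 1050548, 1053483, 1060490, 1063445, 1065303, 1070536, 1075305, 1084018, 1090380, 1100945, 1103886, 1110320, 1116327, 1121336, 1122713, 1127686, 1134148, 1148257, 1161408, 1164162, 1182989, 1186194, 1188915, 1192108, 1204944, 1212619, 1217620, 1230376, 1245726, 1250945, 1256224, 1265762, 1302533, 1312345, 1315526, 1327290, 1332261, 1337732, 1351424, 1352353, 1369154, 1378634, 1384564, 1405448, 1410188, 1413139, 1445088, 1454401, 1460739, 1474854, 1484824, 1525008, 1573998, 1577201, 1584464, 1589901, 1594898, 1608104, 1613974, 1618953, 1647171, 1661185, 1664160, 1675812, 1687640, 1710664, 1722420, 1728778, 1737489, 1769924, 1805314, 1836419, 1839388, 1849378, 1852256, 1869893, 1903248, 1975812, 2019456, 2031657, 2101096, 2106966, 2110153, 2115979, 2120980, 2121909,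 2126890, 2130606, 2135601, 2141072, 2147405, 2150610, 2162811, 2168036, 2173253, 2180760, 2183687, 2201890, 2204803, 2207772, 2220640, 2229713, 2232654, 2242672, 2245426, 2255372, 2263063, 2268296, 2269481, 2296514, 2313249, 2322816, 2328324, 2363013, 2365978, 2372388, 2377830, 2384216, 2392899, 2409888, 2422785, 2425238, 2430217, 2435240, 2460752, 2491452, 2494627, 2501890, 2512448, 2531524, 2564625, 2605066, 2624690, 2627629, 2631052, 2634003, 2640465, 2654580, 2664522, 2675464, 2687905, 2702848, 2704706, 2738308, 2754059, 2757268, 2769128, 2810896, 2820376, 2826278, 2854977, 2890176, 2892897, 2908802, 2916505, 2921478, 2949708, 2969648, 3031301, 3050016, 3147996, 3152963, 3154402, 3168928, 3172097, 3179802, 3182981, 3189796, 3216208, 3227948, 3237906, 3246601, 3277413, 3294342, 3297305, 3322370, 3328320, 3351624, 3375280, 3410225, 3416079, 3421328, 3444840, 3457556, 3474978, 3489985, 3539848, 3610628, 3672838, 3678776, 3698756, 3704512, 3719203, 3736597, 3739786, 3806496, 3811457, 3951624, 4038912, 4063314, 4196943,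 4202192, 4203377, 4213932, 4216883, 4220306, 4223245, 4229001, 4231958, 4241960, 4243818, 4253780, 4261212, 4264387, 4271202, 4282144, 4287105, 4294810, 4299781, 4301220, 4325622, 4330601, 4336072, 4343317, 4346506, 4361520, 4367374, 4370577, 4403780, 4409606, 4415544, 4424227, 4441280, 4459426, 4465308, 4470275, 4476225, 4485344, 4490852, 4505735, 4510744, 4523185, 4526126, 4536592, 4538962, 4563017, 4587803, 4593028, 4597797, 4626498, 4645632, 4656648, 4721045, 4726026, 4726955, 4731956, 4744776, 4752467, 4755660, 4768432, 4785798, 4788761, 4800613, 4819776, 4845570, 4850476, 4860434, 4870480, 4900873, 4921504, 4924673, 4982904, 4989254, 5003780, 5017889, 5024896, 5063048, 5112513, 5129250, 5210132, 5249380, 5252293, 5255258, 5262104, 5268006, 5275709, 5280930, 5286147, 5296705, 5309160, 5325835, 5329044, 5350928, 5375810, 5390753, 5405696, 5409412, 5441617, 5476616, 5508118, 5511305, 5514536, 5538256, 5571333, 5621792, 5640752, 5652556, 5709954, 5770785, 5780352, 5785794, 5817604, 5833010, 5842956, 5899416, 5902343,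 5939296, 6053905, 6062602, 6100032, 6292775, 6295992, 6302745, 6305926, 6308804, 6326497, 6337856, 6344194, 6359604, 6365962, 6379592, 6406417, 6429441, 6432416, 6447171, 6455896, 6475812, 6488205, 6493202, 6554826, 6557781, 6570537, 6588684, 6594610, 6644740, 6656640, 6703248, 6750560, 6820450, 6832158, 6837377, 6842656, 6857221, 6889680, 6915112, 6949956, 6979970, 7079696, 7145475, 7221256, 7340691, 7345676, 7357552, 7397512, 7409024, 7417889, 7438406, 7473194, 7479572, 7612992, 7622914, 7767041, 7864649, 7903248, 8077824, 8126628, 8391797, 8394986, 8398155, 8401364, 8407702, 8412681, 8414120, 8421811, 8426796, 8431757, 8436754, 8439632, 8455014, 8464984, 8471941, 8474906, 8484900, 8490656, 8499969, 8505411, 8521420, 8524371, 8536111, 8541360, 8546577, 8555274, 8561204, 8581192, 8592704, 8593633, 8611330, 8619033, 8622214, 8654232, 8657159, 8660134, 8663097, 8675909, 8683614, 8688833, 8694112, 8704546, 8716939, 8721940, 8733800, 8773776, 8783649, 8796800, 8798658, 8834052, 8849458, 8855820, 8919856, 8922769, 8925710,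 8931660, 8937586, 8946281, 8963210, 8966165, 8978620, 8983587, 8989058, 8999616, 9020484, 9045270, 9048457, 9055272, 9078992, 9112069, 9158944, 9178690, 9193633, 9204992, 9208708, 9240913, 9279496, 9310308, 9323032, 9347075, 9440193, 9451104, 9456930, 9462812, 9465987, 9471495, 9474712, 9486564, 9503954, 9506893, 9519665, 9537812, 9543722, 9568632, 9578566, 9589508, 9607201, 9610624, 9652360, 9701932, 9708306, 9721936, 9748745, 9769376, 9776129, 9830549, 9835530, 9929280, 9963547, 9968772, 9969957, 9998658, 10021376, 10028808, 10093218, 10110017, 10170384, 10232008, 10257456, 10305542, 10486557, 10491778, 10496547, 10506593, 10513600, 10525252, 10537016, 10543366, 10554382, 10557585, 10560816, 10584520, 10619300, 10625178, 10630149, 10650722, 10666625, 10687016, 10698836, 10748656, 10765331, 10768524, 10790408, 10825794, 10832640, 10846245, 10881097, 10916112, 11010247, 11015256, 11028004, 11046145, 11055264, 11100169, 11108882, 11150144, 11163650, 11272490, 11282452, 11469952, 11535529, 11538486, 11548936, 11551306,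 11575377, 11608708, 11654144, 11669008, 11731203, 11797828, 11831426, 11952160, 12075408, 12126304, 12222476, 12325377, 12584506, 12587685, 12594948, 12599513, 12604486, 12624578, 12638592, 12641313, 12650793, 12656663, 12661896, 12685424, 12698124, 12717187, 12720156, 12726562, 12733024, 12747077, 12780432, 12849992, 12861748, 12871690, 12880401, 12912836, 12944642, 12985424, 13009064, 13062145, 13108704, 13121601, 13124355, 13142054, 13148440, 13192208, 13262980, 13276672, 13303882, 13370381, 13373586, 13443616, 13631886, 13636881, 13641904, 13667400, 13703682, 13721920, 13771273, 13811730, 13829156, 13893731, 13911680, 13938692, 14156372, 14176296, 14254209, 14551296, 14682450, 14688364, 14709264, 14714004, 14716939, 14747201, 14762146, 14828808, 14919680, 14949408, 14950785, 15073798, 15207048, 15274244, 15335473, 15515712, 15747077, 15762208, 15864000, 16056344, 16262146]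

/-- The weight. -/
def wt (m : ℕ) : ℕ := (List.range 24).countP m.testBit

theorem wt_eq (m : ℕ) : wt m = (Finset.univ.filter fun x : GolayPt => m.testBit (idx x)).card := by
  rw [wt, List.countP_eq_length_filter, ← List.toFinset_card_of_nodup (List.nodup_range.filter _)]
  refine (Finset.card_bij (fun x _ => idx x) (fun x hx => ?_) (fun x _ y _ => idx_inj) fun i hi => ?_).symm
  · simpa using ⟨(eG x).2, (Finset.mem_filter.mp hx).2⟩
  · simp only [List.toFinset_filter, Finset.mem_filter, List.mem_toFinset, List.mem_range] at hi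
    have e : idx (pt i) = i := congrArg Fin.val (eG.apply_symm_apply ⟨i, hi.1⟩)
    exact ⟨pt i, by simpa [e] using hi.2, e⟩

theorem oct_chk : allSpan (fun m => wt m != 8 || memN m octs) (bas.map Prod.fst) 0 = true := by
  decide +kernel

theorem oct_step {g : Equiv.Perm GolayPt} (hg : g ∈ M24) {m : ℕ} (h1 : red bas m = 0) (h2 : wt m = 8) :
    ∃ m' ∈ octs, ∀ x, m'.testBit (idx (g x)) = m.testBit (idx x) := by
  obtain ⟨m', hm', e⟩ := mem_golay.mp (comp_mem_of_mem hg (mem_golay.mpr ⟨m, inSpan_of_red h1, rfl⟩))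
  have h3 : ∀ x, m'.testBit (idx (g x)) = m.testBit (idx x) := fun x =>
    testBit_eq_of_wOf (by rw [← e]; simp)
  refine ⟨m', ?_, h3⟩
  have h4 : wt m' = 8 := by
    rw [← h2, wt_eq, wt_eq]
    exact (Finset.card_equiv g fun x => by simp [h3]).symm
  simpa [h4, memN_iff] using allSpan_spec oct_chk hm'

/-- One step of a stabilizer chain. -/
def stepO (F : List ℕ) (u : ℕ) (L ms : List ℕ) : Bool :=
  Nat.blt u 24 && !memN u F && allL (fun m => Nat.beq (red bas m) 0 && Nat.beq (wt m) 8) ms &&
    allN (fun i => memN i L || memN i F || anyL (fun m => allL (fun m' =>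
      m'.testBit i != m.testBit u || anyL (fun f => m'.testBit f != m.testBit f) F) octs) ms) 24

/-- The whole chain of steps. -/
def chainO : List ℕ → List (ℕ × List ℕ × List ℕ) → Bool
  | F, [] => allN (fun i => memN i F) 24
  | F, s :: r => stepO F s.1 s.2.1 s.2.2 && chainO (s.1 :: F) r

theorem idx_pt {i : ℕ} (hi : i < 24) : idx (pt i) = i := congrArg Fin.val (eG.apply_symm_apply ⟨i, hi⟩)

theorem pt_idx (x : GolayPt) : pt (idx x) = x := eG.symm_apply_apply x

theorem card_le_chainO (r : List (ℕ × List ℕ × List ℕ)) : ∀ (F : List ℕ) (K : Subgroup (Equiv.Perm GolayPt)),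
    K ≤ M24 → (∀ f ∈ F, f < 24) → (∀ g ∈ K, ∀ f ∈ F, g (pt f) = pt f) → chainO F r = true →
      Nat.card K ≤ (r.map fun s => s.2.1.length).prod := by
  induction r with
  | nil =>
    intro F K _ _ h3 h
    rw [(eq_bot_iff_forall K).mpr fun g hg => Equiv.ext fun x => by
      have := h3 g hg _ (memN_iff.mp (allN_spec h (idx x) (eG x).2))
      rwa [pt_idx] at this, card_bot]
    rfl
  | cons s r ih =>
    intro F K h1 h2 h3 h
    unfold chainO stepO at h
    simp only [Bool.and_eq_true, Nat.blt_eq, allL_iff, Nat.beq_eq, Bool.not_eq_true', ← Bool.not_eq_true,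
      memN_iff] at h
    obtain ⟨⟨⟨⟨h4, h5⟩, h6⟩, h7⟩, h8⟩ := h
    rw [List.map_cons, List.prod_cons, ← List.length_map pt]
    refine (card_le_step (b := pt s.1) (s.2.1.map pt) fun g hg => ?_).trans (Nat.mul_le_mul_left _ (ih _ _
      (inf_le_left.trans h1) (List.forall_mem_cons.mpr ⟨h4, h2⟩) (fun g hg => List.forall_mem_cons.mpr
        ⟨(mem_inf.mp hg).2, h3 g (mem_inf.mp hg).1⟩) h8))
    have h9 := allN_spec h7 (idx (g (pt s.1))) (eG _).2
    simp only [Bool.or_eq_true, memN_iff, anyL_iff, allL_iff, bne_iff_ne] at h9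
    rcases h9 with (h9 | h9) | ⟨m, hm, h9⟩
    · exact List.mem_map.mpr ⟨_, h9, pt_idx _⟩
    · have e := h3 g hg _ h9
      rw [pt_idx] at e
      rw [g.injective e, idx_pt h4] at h9
      exact absurd h9 h5
    · obtain ⟨m', hm', e⟩ := oct_step (h1 hg) (h6 m hm).1 (h6 m hm).2
      rcases h9 m' hm' with h9 | ⟨f, hf, h9⟩
      · exact absurd (by rw [e, idx_pt h4]) h9
      · exact absurd (by rw [← idx_pt (h2 f hf), ← e, h3 g hg f hf]) h9

/-- The chain below five points. -/
def stepsO : List (ℕ × List ℕ × List ℕ) := [(5, [5, 14, 17], [8536111]), (4, [4, 6, 7, 8, 9, 10, 11, 12, 13, 15, 16, 18, 19, 20, 21, 22], [5279]), (6, [6], [2162811, 8391797]), (7, [7], [5279, 262637]), (8, [8], [262637, 10558]), (15, [15], [8421811]), (18, [18], [262637]), (9, [9], [99029, 18147]), (16, [16], [99029]), (19, [19], [525274]), (21, [21], [2130606]), (10, [10], [5279, 18147]), (11, [11], [36294]), (12, [12], [5279]), (13, [13], [10558]), (14, [14], [18147]), (17, [17], [133817]), (20, [20], [1050548]), (22, [22], [])]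

theorem stepsO_chk : chainO [3, 2, 1, 0, 23] stepsO = true := by decide +kernel

theorem card_map_eM (K : Subgroup (Equiv.Perm GolayPt)) : Nat.card (K.map eM.toMonoidHom) = Nat.card K :=
  (Nat.card_congr (K.equivMapOfInjective eM.toMonoidHom eM.injective).toEquiv).symm

/-- The coded `M24`. -/
noncomputable def X24 : Subgroup (CP 24) := M24.map eM.toMonoidHom

/-- The coded `M23`. -/
noncomputable def X23 : Subgroup (CP 24) := Spor.M23.map eM.toMonoidHom

/-- The coded `M22`. -/
noncomputable def X22 : Subgroup (CP 24) := Spor.M22.map eM.toMonoidHom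

/-- Test for membership in `M23`. -/
def in23 (c : ℕ) : Bool := in24 c && Nat.beq (lk c 23) 23

/-- Test for membership in `M22`. -/
def in22 (c : ℕ) : Bool := in23 c && Nat.beq (lk c 0) 0

theorem in24_spec' (x : CP 24) (h : in24 x.1 = true) : x ∈ X24 :=
  mem_map.mpr ⟨_, in24_spec h, eM.apply_symm_apply x⟩

theorem in23_spec (x : CP 24) (h : in23 x.1 = true) : x ∈ X23 := by
  rw [in23, Bool.and_eq_true, Nat.beq_eq] at h
  exact mem_map_equiv.mpr (mem_inf.mpr ⟨in24_spec h.1, idx_inj ((idx_eM x none).trans h.2)⟩)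

theorem in22_spec (x : CP 24) (h : in22 x.1 = true) : x ∈ X22 := by
  rw [in22, in23, Bool.and_eq_true, Bool.and_eq_true, Nat.beq_eq, Nat.beq_eq] at h
  exact mem_map_equiv.mpr (mem_inf.mpr ⟨mem_inf.mpr ⟨in24_spec h.1.1, idx_inj ((idx_eM x none).trans h.1.2)⟩,
    idx_inj ((idx_eM x (some 0)).trans h.2)⟩)

theorem card_X24_le : Nat.card X24 ≤ 244823040 := by
  rw [X24, card_map_eM]
  refine (card_le_chainO ([(23, [0, 1, 2, 3, 4, 5, 6, 7, 8, 9, 10, 11, 12, 13, 14, 15, 16, 17, 18, 19, 20, 21, 22, 23], []), (0, [0, 1, 2, 3, 4, 5, 6, 7, 8, 9, 10, 11, 12, 13, 14, 15, 16, 17, 18, 19, 20, 21, 22], []), (1, [1, 2, 3, 4, 5, 6, 7, 8, 9, 10, 11, 12, 13, 14, 15, 16, 17, 18, 19, 20, 21, 22], []), (2, [2, 3, 4, 5, 6, 7, 8, 9, 10, 11, 12, 13, 14, 15, 16, 17, 18, 19, 20, 21, 22], []), (3, [3, 4, 5, 6, 7, 8, 9, 10, 11, 12, 13, 14, 15, 16, 17, 18, 19, 20, 21, 22], [])] ++ stepsO) [] _ le_rfl (by simp) (by simp) ?_).trans (by decide +kernel)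
  simp only [List.cons_append, List.nil_append, chainO, stepsO_chk]
  decide +kernel

theorem card_X23_le : Nat.card X23 ≤ 10200960 := by
  rw [X23, card_map_eM]
  refine (card_le_chainO ([(0, [0, 1, 2, 3, 4, 5, 6, 7, 8, 9, 10, 11, 12, 13, 14, 15, 16, 17, 18, 19, 20, 21, 22], []), (1, [1, 2, 3, 4, 5, 6, 7, 8, 9, 10, 11, 12, 13, 14, 15, 16, 17, 18, 19, 20, 21, 22], []), (2, [2, 3, 4, 5, 6, 7, 8, 9, 10, 11, 12, 13, 14, 15, 16, 17, 18, 19, 20, 21, 22], []), (3, [3, 4, 5, 6, 7, 8, 9, 10, 11, 12, 13, 14, 15, 16, 17, 18, 19, 20, 21, 22], [])] ++ stepsO) [23] _ inf_le_left (by decide)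
    (fun g hg => List.forall_mem_singleton.mpr (mem_inf.mp hg).2) ?_).trans (by decide +kernel)
  simp only [List.cons_append, List.nil_append, chainO, stepsO_chk]
  decide +kernel

theorem card_X22_le : Nat.card X22 ≤ 443520 := by
  rw [X22, card_map_eM]
  refine (card_le_chainO ([(1, [1, 2, 3, 4, 5, 6, 7, 8, 9, 10, 11, 12, 13, 14, 15, 16, 17, 18, 19, 20, 21, 22], []), (2, [2, 3, 4, 5, 6, 7, 8, 9, 10, 11, 12, 13, 14, 15, 16, 17, 18, 19, 20, 21, 22], []), (3, [3, 4, 5, 6, 7, 8, 9, 10, 11, 12, 13, 14, 15, 16, 17, 18, 19, 20, 21, 22], [])] ++ stepsO) [0, 23] _ (inf_le_left.trans inf_le_left) (by decide)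
    (fun g hg => List.forall_mem_cons.mpr ⟨(mem_inf.mp hg).2, List.forall_mem_singleton.mpr
      (mem_inf.mp (mem_inf.mp hg).1).2⟩) ?_).trans (by decide +kernel)
  simp only [List.cons_append, List.nil_append, chainO, stepsO_chk]
  decide +kernel

end Cfsg.Agent.Mat
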