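import Cfsg.Agent.Mat.M23E
import Cfsg.Agent.Mat.Data16b
import Cfsg.Agent.Mat.Fin2
import Cfsg.Agent.Mat.Data23

/-! The identification of `M23`. -/

set_option autoImplicit false
set_option linter.unusedSectionVars false
set_option maxRecDepth 100000

namespace Cfsg.Agent.Mat

open Subgroup MulAction Cfsg.Agent.M11 Cfsg.Agent.Local
open scoped Pointwise

variable {G : Type*} [Group G] [Finite G]

/-- The configuration. -/
structure Cg (S : Sylow 3 G) (x u : G) (V A B : Subgroup G) (c g a : G) : Prop where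
  n : Nb S x u V A B
  cS : c • S = S
  gS : g • S = S
  lc : L9 x u c (0, 1) (2, 0)
  lg : L9 x u g (1, 2) (0, 2)
  cV : MulAut.conj c • V = A
  cA : MulAut.conj c • A = V
  gV : MulAut.conj g • V = B
  gt : Commute g (c * c)
  ha : a ∈ V
  a1 : a ≠ 1
  ta : Commute (c * c) a

theorem Fr.conj_PP' {x u c v g : G} (h : Fr x u c v) {i j k l : ℕ} (h1 : g * PP c v 1 * g⁻¹ = PP c v i)
    (h2 : g * PP c v 2 * g⁻¹ = PP c v j) (h3 : g * PP c v 4 * g⁻¹ = PP c v k) (h4 : g * PP c v 8 * g⁻¹ = PP c v l)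
    (p : ℕ) : g * PP c v p * g⁻¹ = PP c v (lin [i, j, k, l] p) := by
  refine h.conj_PP ?_ p
  simp only [List.map_cons, List.map_nil, ← h1, ← h2, ← h3, ← h4]
  simp [bs, PP, vv, mul_assoc]

theorem L9.congr {x u g : G} {a b a' b' : ZMod 3 × ZMod 3} (h : L9 x u g a b) (e : a = a' ∧ b = b' := by decide) :
    L9 x u g a' b' := e.1 ▸ e.2 ▸ h

/-- The generators of `A₇`. -/
def g7 (x u c k : G) : List G := [x, x⁻¹, u, u⁻¹, c, c⁻¹, k]

namespace N23

variable (h : N23 G) {S : Sylow 3 G} {x u c g a : G} {V A B : Subgroup G}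
include h

theorem exists_cg0 : ∃ (S : Sylow 3 G) (x u : G) (V A B : Subgroup G) (c g : G), Nb S x u V A B ∧ c • S = S ∧
    MulAut.conj c • V = A ∧ MulAut.conj c • A = V ∧ g • S = S ∧ MulAut.conj g • V = B ∧
    L9 x u c (0, 1) (2, 0) ∧ L9 x u g (1, 2) (0, 2) := by
  obtain ⟨S, x, V, k⟩ := h.exists_vx
  obtain ⟨u, A, B, n⟩ := h.exists_nb k
  obtain ⟨c, g, c1, c2, c3, g1, g2, g3, ⟨lc, lg⟩ | ⟨lc, lg⟩⟩ := h.swaps n
  · exact ⟨S, x, u, V, A, B, c, g, n, c1, c2, c3, g1, g2, lc, lg⟩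
  have b := n.swap.b
  refine ⟨S, x, _, V, B, A, g, c, n.swap, g1, g2, g3, c1, c2, b.l9 (by rw [lg.cx, n.b.ee_w, ee_u]) ?_, b.l9 ?_ ?_⟩
  · rw [b.ee_xi, ← n.b.ee_w, lg, ← n.b.ee_xi]; exact congrArg _ (by decide)
  · rw [b.ee_w, lc.cx, ee_u, mul_inv_rev, inv_inv, ← mul_assoc, (n.b.comm n.b.hx n.b.hu).eq, mul_inv_cancel_right]
  · rw [b.ee_ui, ← n.b.ee_w, lc, eq_inv_iff_mul_eq_one, ← n.b.ee_add]
    exact (congrArg _ (by decide)).trans (show ee x u 0 = 1 by simp [ee])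

theorem exists_cg : ∃ (S : Sylow 3 G) (x u : G) (V A B : Subgroup G) (c g a : G), Cg S x u V A B c g a := by
  obtain ⟨S, x, u, V, A, B, c, g, n, c1, c2, c3, g1, g2, lc, lg⟩ := h.exists_cg0
  have k := n.k
  have t1 := n.b.neg (lc.mul lc)
  have t2 := h.sq_neg t1
  have h1 : g * (c * c) * g⁻¹ * (c * c)⁻¹ ∈ S := h.mem_of_neg (fun p hp => by
    calc _ = g * (c * c * (g⁻¹ * p * g⁻¹⁻¹) * (c * c)⁻¹) * g⁻¹ := by group
      _ = _ := by rw [t1 _ (conj_mem_syl (inv_smul_eq_iff.mpr g1.symm) hp)]; group)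
    fun p hp => inv_inv_conj (t1 p hp)
  obtain ⟨a, ha, h2⟩ := exists_commute_of_not_dvd Nat.prime_two (y := c * c) (X := (V : Set G) \ {1})
    ((pow_two _).trans t2) (fun v hv => ⟨conj_mem_of_mem_normalizer (h.norm_of_neg k t1) hv.1,
      fun e => hv.2 (conj_eq_one_iff.mp e)⟩)
    (by rw [Set.ncard_sdiff_singleton_of_mem (one_mem _), ncard_coe, k.card]; decide)
  have h3 := t1 _ (inv_mem h1)
  have h4 := h.cube h1
  generalize hp : g * (c * c) * g⁻¹ * (c * c)⁻¹ = p at h1 h3 h4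
  have lp : L9 x u p (1, 0) (0, 1) := n.b.l9 (by rw [ee_x, (h.comm_syl h1 n.b.hx).eq, mul_inv_cancel_right])
    (by rw [ee_u, (h.comm_syl h1 n.b.hu).eq, mul_inv_cancel_right])
  have l2 : L9 x u (p * g) (1, 2) (0, 2) := (lp.mul lg).congr
  have e1 : (p * g) • S = S := by rw [mul_smul, g1, smul_eq_of_mem h1]
  have e2 : MulAut.conj (p * g) • V = B := by
    rw [← conj_smul_conj_smul, g2, mem_normalizer_iff_conj_smul_eq.mp (n.c.inv h1)]
  have e3 : Commute (p * g) (c * c) := mul_inv_eq_iff_eq_mul.mp (by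
    generalize c * c = t at hp h3
    calc _ = p * (g * t * g⁻¹ * t⁻¹) * (t * p⁻¹ * t⁻¹) * t := by group
      _ = _ := by rw [hp, h3, inv_inv, ← pow_three', h4, one_mul])
  exact ⟨S, x, u, V, A, B, c, p * g, a, n, c1, e1, lc, l2, c2, c3, e2, e3, ha.1, ha.2, h2⟩

variable (k : Cg S x u V A B c g a)
include k

theorem neg_t : ∀ p ∈ S, c * c * p * (c * c)⁻¹ = p⁻¹ := k.n.b.neg (k.lc.mul k.lc)

theorem eq_one {y : G} {a b : ZMod 3 × ZMod 3} (l : L9 x u y a b) (hc : Commute y (c * c))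
    (e : a = (1, 0) ∧ b = (0, 1) := by decide) : y = 1 := by
  have h1 := h.mem_of_l9 k.n l e
  have h2 := h.neg_t k y h1
  rw [← hc.eq, mul_inv_cancel_right] at h2
  exact eq_one_of_two_three (mul_eq_one_iff_eq_inv.mpr h2) (h.cube h1)

theorem gg : g * g = 1 := h.eq_one k (k.lg.mul k.lg) (k.gt.mul_left k.gt)

theorem gx : g * x * g⁻¹ = x * u⁻¹ := k.lg.cx.trans k.n.b.ee_w

theorem gu : g * u * g⁻¹ = u⁻¹ := k.lg.cu.trans k.n.b.ee_ui

theorem v_mem : u * a * u⁻¹ ∈ V := conj_mem_of_mem_normalizer (k.n.k.inv k.n.b.hu) k.ha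

theorem fr : Fr x u c (u * a * u⁻¹) := by
  have b := k.n.b
  have h3 := h.v_mem k
  have h4 : u * a * u⁻¹ ≠ 1 := fun e => k.a1 (conj_eq_one_iff.mp e)
  obtain ⟨h5, h6, -⟩ := h.rot k.n.k b h3 h4
  have h7 : ∀ y, u * (u * y * u⁻¹) * u⁻¹ = u⁻¹ * y * u := fun y =>
    calc _ = (u * u) * y * (u * u)⁻¹ := by group
      _ = _ := by rw [b.sq b.hu, inv_inv]
  refine ⟨?_, k.lc.cx.trans (ee_u x u), k.lc.cu.trans b.ee_xi, b.comm b.hx b.hu, h.sq k.n.k.toFour h3, h4,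
    (k.n.k.cen _ h3).symm, ?_, (h7 _).symm.trans h6, k.n.hA (k.cV ▸ conj_mem_conj_smul c h3) _ h3,
    h.comm k.n.k.toFour h3 h5⟩
  · rw [← h.sq_neg (h.neg_t k)]; simp only [pow_succ, pow_zero, one_mul, mul_assoc]
  · rw [h7]
    calc _ = (c * c * u * (c * c)⁻¹) * (c * c * a * (c * c)⁻¹) * (c * c * u * (c * c)⁻¹)⁻¹ := by
          rw [h.neg_t k u b.hu, k.ta.eq, mul_inv_cancel_right, inv_inv]
      _ = _ := by group

theorem PP4 : PP c (u * a * u⁻¹) 4 = u * (u * a * u⁻¹) * u⁻¹ := by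
  rw [(h.fr k).uv]; simp [PP, bs, vv]

theorem PP5 : PP c (u * a * u⁻¹) 5 = a := by
  rw [show 5 = 1 ^^^ 4 from rfl, (h.fr k).PP_xor, PP_one, h.PP4 k, ← (h.fr k).rot]; group

theorem card_U : Nat.card ↥(V ⊔ A) = 16 := h.card_sup k.n.k k.n.a k.n.b k.n.hA

theorem c_mem : c ∈ normalizer ((V ⊔ A : Subgroup G) : Set G) := by
  rw [mem_normalizer_iff_conj_smul_eq, smul_sup, k.cV, k.cA, sup_comm]

theorem PP_mem_U (p : ℕ) : PP c (u * a * u⁻¹) p ∈ V ⊔ A := PP_mem (mem_sup_left (h.v_mem k)) (h.c_mem k) p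

theorem exists_PP {y : G} (hy : y ∈ V ⊔ A) : ∃ p < 16, PP c (u * a * u⁻¹) p = y :=
  (h.fr k).exists_PP (h.card_U k) (mem_sup_left (h.v_mem k)) (h.c_mem k) hy

theorem cent_U {y : G} (hy : ∀ p < 16, Commute y (PP c (u * a * u⁻¹) p)) : y ∈ V ⊔ A := by
  obtain ⟨W, w⟩ := h.exists_W k.n.k
  have h1 := h.sup_le_cent k.n.k.toFour k.n.a.toFour k.n.hA
  have h2 : centralizer ((V ⊔ A : Subgroup G) : Set G) ≤ centralizer (V : Set G) :=
    centralizer_le (le_sup_left : V ≤ V ⊔ A)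
  have h3 : IsPGroup 2 (centralizer ((V ⊔ A : Subgroup G) : Set G)) := two_of_dvd (k := 6) (dvd_of_not 1
    Nat.prime_three (fun e => by
      obtain ⟨y, hy, h3⟩ := exists_mem_orderOf_eq_of_dvd_card Nat.prime_three e
      have := card_dvd_cc (R := V ⊔ A) hy
      rw [h.card_U k, h.cc3 h3] at this
      exact absurd this (by decide)) ((card_dvd_of_le h2).trans (by rw [← w.card, h.card_W k.n.k w]; decide)))
  have h4 := h.card_inv k.n.k.toFour h3 (normalizer_le_normalizer_centralizer _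
    (le_normalizer_sup k.n.k.inv k.n.a.inv k.n.b.hx)) (le_sup_left.trans h1)
  have h5 : Nat.card (centralizer ((V ⊔ A : Subgroup G) : Set G)) ≠ 64 := fun e => h.not_tri k.n
    (((w.max B k.n.c.two k.n.hB).trans (eq_of_le_of_card_ge (w.max _ h3 h2) (by rw [e, h.card_W k.n.k w])).ge).trans
      (centralizer_le (le_sup_right : A ≤ V ⊔ A)))
  refine (eq_of_le_of_card_ge h1 (by rw [h.card_U k]; omega)).ge fun b hb => ?_
  obtain ⟨p, hp, rfl⟩ := h.exists_PP k hb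
  exact (hy p hp).symm

theorem k_mem : g * a * g⁻¹ ∈ B := k.gV ▸ conj_mem_conj_smul g k.ha

theorem kk : g * a * g⁻¹ * (g * a * g⁻¹) = 1 := h.sq k.n.c.toFour (h.k_mem k)

theorem kt : Commute (g * a * g⁻¹) (c * c) := (k.gt.mul_left k.ta.symm).mul_left k.gt.inv_left

theorem act_k : Act c (u * a * u⁻¹) k16 (g * a * g⁻¹) := by
  have f := h.fr k
  have h1 := h.k_mem k
  have h2 := h.kk k
  have h3 := h.kt k
  have h0 : g * a * g⁻¹ ≠ 1 := fun e => k.a1 (conj_eq_one_iff.mp e)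
  generalize g * a * g⁻¹ = y at h1 h2 h3 h0
  obtain ⟨j, hj, e⟩ := h.exists_PP k (conj_mem_of_mem_normalizer (h.norm_E k.n.k k.n.a k.n.b k.n.hA k.n.c.two k.n.hB h1)
    (h.PP_mem_U k 2))
  have h4 : ∀ w ∈ V, y * w * y⁻¹ = w := fun w hw => by rw [← k.n.hB h1 w hw, mul_inv_cancel_right]
  have h5 := f.act_c.mul f.act_c
  have h6 := f.conj_PP' (g := y) (i := 1) (k := 4) (l := lk (c16 * c16).1 j) (by rw [PP_one, h4 _ (h.v_mem k)]) e.symm
    (h4 _ (h.PP4 k ▸ conj_mem_of_mem_normalizer (k.n.k.inv k.n.b.hu) (h.v_mem k))) (by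
      rw [← h5 j hj, e, ← show lk (c16 * c16).1 2 = 8 by decide +kernel, ← h5 2 (by decide)]
      generalize c * c = t at h3
      calc _ = (y * t) * PP c (u * a * u⁻¹) 2 * (y * t)⁻¹ := by group
        _ = _ := by rw [h3.eq]; group)
  have h7 : ∀ p, lin [1, j, 4, lk (c16 * c16).1 j] p < 16 := fun p => by
    have := lk_lt (c16 * c16) hj
    simp only [lin]
    refine Nat.xor_lt_two_pow (n := 4) ?_ (Nat.xor_lt_two_pow ?_ (Nat.xor_lt_two_pow ?_ (Nat.xor_lt_two_pow ?_ ?_))) <;>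
      first | omega | (split_ifs <;> omega)
  intro p hp
  rw [h6, cases_k16 j hj (f.PP_inj (h7 j) (by decide) ?_) (fun e' => ?_) (fun p hp => f.PP_inj (h7 _)
    (lk_lt _ (h7 p)) ?_) p hp]
  · rw [← h6, e]
    calc _ = (y * y) * PP c (u * a * u⁻¹) 2 * (y * y)⁻¹ := by group
      _ = _ := by rw [h2]; group
  · refine h.not_tri k.n (h.V_le k.n.c (k.n.a.inv.trans (normalizer_le_normalizer_centralizer _)) h1 h0 fun w hw => ?_)
    obtain ⟨p, hp, rfl⟩ := h.exists_PP k (mem_sup_right hw)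
    have := h6 p
    rw [e', (by decide +kernel : ∀ p < 16, lin [1, 2, 4, lk (c16 * c16).1 2] p = p) p hp] at this
    exact (mul_inv_eq_iff_eq_mul.mp this).symm
  · have h8 := f.act_x.mul f.act_u.inv
    rw [← h6, ← h8 p hp, ← h8 _ (h7 p), ← h6]
    calc _ = (y * (x * u⁻¹)) * PP c (u * a * u⁻¹) p * (y * (x * u⁻¹))⁻¹ := by group
      _ = _ := by rw [(k.n.c.cen y h1).eq]; group

theorem act7 : List.Forall₂ (Act c (u * a * u⁻¹)) n7 (g7 x u c (g * a * g⁻¹)) :=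
  have f := h.fr k
  .cons f.act_x (.cons f.act_x.inv (.cons f.act_u (.cons f.act_u.inv (.cons f.act_c (.cons f.act_c.inv
    (.cons (h.act_k k) .nil))))))

theorem pow_fpf {y : G} {m : CP 16} (ha : Act c (u * a * u⁻¹) m y) (n : ℕ) (h1 : m ^ n = 1)
    (h2 : ∀ p < 16, lk m.1 p = p → p = 0) : y ^ n = 1 := by
  obtain ⟨p, hp, e⟩ := h.exists_PP k (h.cent_U k fun p hp => (h1 ▸ ha.pow n).comm hp)
  have h3 := ha p hp
  rw [e, (Commute.self_pow y n).eq, mul_inv_cancel_right, ← e] at h3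
  rw [← e, h2 p hp ((h.fr k).PP_inj hp (lk_lt m hp) h3).symm, PP_zero]

theorem rels7 : ∀ r ∈ relsA7, ev (g7 x u c (g * a * g⁻¹)) r = 1 := fun w hw => by
  have f := h.fr k
  have b := k.n.b
  have h1 := h.pow_fpf k (Act.ev (h.act7 k) [4, 6]) 6 (by decide +kernel) (by decide +kernel)
  have h2 := h.pow_fpf k (Act.ev (h.act7 k) [0, 2, 4, 6, 4, 6, 4, 6]) 5 (by decide +kernel) (by decide +kernel)
  have h3 : (u * (g * a * g⁻¹)) ^ 3 = 1 := by
    obtain ⟨h3, h4, -⟩ := h.rot k.n.k b.inv k.ha k.a1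
    rw [← inv_inv u, ← h.gu k, conj_inv, conj_mul, conj_pow, conj_eq_one_iff]
    calc _ = u⁻¹ * a * u⁻¹⁻¹ * (u⁻¹ * (u⁻¹ * a * u⁻¹⁻¹) * u⁻¹⁻¹) * u⁻¹ ^ 3 * a := by
          simp only [pow_succ, pow_zero, one_mul]; group
      _ = _ := by
        rw [h4, b.cube _ (inv_mem b.hu), mul_one, (h.comm k.n.k.toFour k.ha h3).eq, ← mul_assoc,
          h.sq k.n.k.toFour h3, one_mul, h.sq k.n.k.toFour k.ha]
  have h4 := h.kk k
  have h5 := h.kt k
  have h6 := k.n.c.cen _ (h.k_mem k)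
  generalize g * a * g⁻¹ = y at h1 h2 h3 h4 h5 h6
  simp only [relsA7, List.mem_cons, List.not_mem_nil, or_false] at hw
  rcases hw with rfl | rfl | rfl | rfl | rfl | rfl | rfl | rfl | rfl | rfl | rfl | rfl | rfl | rfl | rfl | rfl | rfl |
    rfl | rfl
  all_goals simp only [ev, g7, List.getD_cons_succ, List.getD_cons_zero, mul_one, mul_inv_cancel, inv_mul_cancel,
    pow_succ, pow_zero, one_mul, ← mul_assoc] at h1 h2 h3 ⊢
  · exact h4
  · rw [← pow_three', b.cube x b.hx]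
  · rw [← pow_three', b.cube u b.hu]
  · rw [f.xu.eq]; group
  · rw [← f.cx]; group
  · rw [mul_assoc, mul_assoc, ← mul_assoc c, f.cu, mul_inv_cancel]
  · rw [← f.c4]; simp only [pow_succ, pow_zero, one_mul]
  · rw [← h6.eq, mul_assoc y, mul_assoc y, mul_assoc x, f.xu.inv_inv.symm.eq]
    simpa [mul_assoc] using h4
  · calc _ = (c * c) * (y * (c * c)) * y := by simp only [mul_assoc]
      _ = (c * c * (c * c)) * (y * y) := by rw [h5.eq]; simp only [mul_assoc]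
      _ = 1 := by rw [h.sq_neg (h.neg_t k), h4, mul_one]
  · exact h3
  · exact h1
  · exact h2

theorem exists_hom23 : ∃ f : cl n23 →* G, Function.Injective f ∧
    ∀ w, f (el n23 w) = ev (g7 x u c (g * a * g⁻¹) ++ [a]) w := by
  have f := h.fr k
  obtain ⟨F, hF⟩ := exists_hom_words (ms := n7) (gs := g7 x u c (g * a * g⁻¹)) rfl presA7 card_n7
    (by decide +kernel) (h.rels7 k)
  have h1 : ∀ y ∈ cl (g7 x u c (g * a * g⁻¹)), (∀ p < 16, Commute y (PP c (u * a * u⁻¹) p)) → y = 1 := fun y hy hc => by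
    obtain ⟨w, rfl⟩ := exists_word hy
    rw [← hF, ← map_one F]
    refine congrArg F (Subtype.ext (eq_of_smul_eq_smul (α := Fin 16) fun p => Fin.ext (f.PP_inj (Fin.isLt _)
      (Fin.isLt _) ?_)))
    rw [CP.smul_val, ← Act.ev (h.act7 k) w p p.2, (hc p p.2).eq, mul_inv_cancel_right]
    exact congrArg (fun q : Fin 16 => PP c (u * a * u⁻¹) q) (one_smul (CP 16) p).symm
  have m : ∀ {y}, y ∈ g7 x u c (g * a * g⁻¹) → y ∈ cl (g7 x u c (g * a * g⁻¹)) := mem_cl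
  refine f.exists_hom (h.PP_mem_U k) (K := cl (g7 x u c (g * a * g⁻¹))) (cl_le fun y hy => ?_) (fun y hy hU => h1 y hy
    fun p _ => (h.sup_le_cent k.n.k.toFour k.n.a.toFour k.n.hA hU _ (h.PP_mem_U k p)).symm) h1
    (.cons (.inl ⟨m (by simp [g7]), f.act_x⟩) (.cons (.inl ⟨m (by simp [g7]), f.act_x.inv⟩)
    (.cons (.inl ⟨m (by simp [g7]), f.act_u⟩) (.cons (.inl ⟨m (by simp [g7]), f.act_u.inv⟩)
    (.cons (.inl ⟨m (by simp [g7]), f.act_c⟩) (.cons (.inl ⟨m (by simp [g7]), f.act_c.inv⟩)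
    (.cons (.inl ⟨m (by simp [g7]), h.act_k k⟩) (.cons (.inr ⟨5, (h.PP5 k).symm, by decide +kernel⟩) .nil))))))))
  have hS := le_normalizer_sup k.n.k.inv k.n.a.inv
  simp only [g7, List.mem_cons, List.not_mem_nil, or_false] at hy
  rcases hy with rfl | rfl | rfl | rfl | rfl | rfl | rfl
  exacts [hS k.n.b.hx, inv_mem (hS k.n.b.hx), hS k.n.b.hu, inv_mem (hS k.n.b.hu), h.c_mem k, inv_mem (h.c_mem k),
    h.norm_E k.n.k k.n.a k.n.b k.n.hA k.n.c.two k.n.hB (h.k_mem k)]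

theorem cube_g : (g * (c * (g * a * g⁻¹) * c⁻¹)) ^ 3 = 1 := by
  have b := k.n.b
  have a1 := k.n.c.conj k.cS
  have h1 := conj_mem_conj_smul c (h.k_mem k)
  have h2 : Commute g (c * (x * u⁻¹) * c⁻¹) := mul_inv_eq_iff_eq_mul.mp (by
    rw [← b.ee_w, k.lc, k.lg]; exact congrArg _ (by decide))
  have h3 : Commute (c * (g * a * g⁻¹) * c⁻¹) (c * c) := by
    have := commute_conj c (h.kt k)
    rwa [show c * (c * c) * c⁻¹ = c * c by group] at this
  have h0 : c * (g * a * g⁻¹) * c⁻¹ ≠ 1 := fun e => k.a1 (conj_eq_one_iff.mp (conj_eq_one_iff.mp e))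
  generalize c * (g * a * g⁻¹) * c⁻¹ = y at h1 h3 h0
  generalize c * (x * u⁻¹) * c⁻¹ = r at a1 h2
  generalize MulAut.conj c • B = Y at a1 h1
  have h4 := h2.mul_left (a1.cen y h1)
  have h5 : ((g * y) ^ 3) ^ 2 = 1 := by_contra fun e => by
    have := Fact.mk Nat.prime_five
    have h5 := h.cc5 (orderOf_eq_prime (x := ((g * y) ^ 3) ^ 2) (by
      rw [← pow_mul, ← pow_mul, h.pow30 a1.ox h4]) e)
    have h6 : orderOf (c * c) = 2 := orderOf_eq_prime ((pow_two _).trans (h.sq_neg (h.neg_t k))) fun e =>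
      ne_inv_of_three b.ox (by simpa [e] using h.neg_t k x b.hx)
    exact absurd ((h6 ▸ orderOf_dvd_cc (((k.gt.mul_left h3).pow_left 3).pow_left 2).symm).trans h5) (by decide)
  have h6 : ∀ t, t * (g * y) * t⁻¹ = (g * y)⁻¹ → Commute t ((g * y) ^ 3) := fun t e => mul_inv_eq_iff_eq_mul.mp (by
    rw [← conj_pow, e, inv_pow]
    exact inv_eq_of_mul_eq_one_right ((pow_two _).symm.trans h5))
  have e1 := inv_eq_of_mul_eq_one_right (h.gg k)
  have e2 := inv_eq_of_mul_eq_one_right (h.sq a1.toFour h1)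
  by_contra h7
  have h8 := h.mem_V a1.toFour h1 h0 (h4.pow_left 3) (h6 y (by
    rw [mul_inv_rev, e2, e1, mul_assoc, mul_assoc, h.sq a1.toFour h1, mul_one])).symm
    ((pow_two _).symm.trans h5)
  have h9 := h.mem_V a1.toFour h8 h7 h2 (h6 g (by rw [mul_inv_rev, e2, ← mul_assoc, h.gg k, one_mul])) (h.gg k)
  have h10 := h.gx k
  rw [(h.comm_syl (h.memS a1 k.gS h2 (le_normalizer h9)) b.hx).eq, mul_inv_cancel_right] at h10
  exact b.u1 (inv_eq_one.mp (left_eq_mul.mp h10))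

theorem rels {f : cl n23 →* G} (hf : ∀ w, f (el n23 w) = ev (g7 x u c (g * a * g⁻¹) ++ [a]) w) :
    ∀ r ∈ rels23, ev (g7 x u c (g * a * g⁻¹) ++ [a] ++ [g]) r = 1 := fun w hw => by
  have e1 := inv_eq_of_mul_eq_one_right (h.gg k)
  have hc : Commute c (c * c) := (Commute.refl c).mul_right (Commute.refl c)
  have h1 := k.lg.mul k.lc
  have h2 := k.gt.mul_left hc
  rcases (by decide +kernel : ∀ w ∈ rels23, (w.all (Nat.blt · 8) = true ∧ ev n23 w = 1) ∨ w = [8, 8] ∨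
    w = [8, 0, 8, 2, 1] ∨ w = [8, 2, 8, 2] ∨ w = [8, 4, 8, 4, 8, 4, 8, 4, 4, 4] ∨ w = [4, 8, 4, 8, 4, 8, 5, 8] ∨
    w = [8, 7, 8, 6] ∨ w = [8, 4, 6, 5, 8, 4, 6, 5, 8, 4, 6, 5]) w hw
    with ⟨e4, e5⟩ | rfl | rfl | rfl | rfl | rfl | rfl | rfl
  · rw [← ev_take e4, List.take_left' (show (g7 x u c (g * a * g⁻¹) ++ [a]).length = 8 from rfl), ← hf,
      show el n23 w = 1 from Subtype.ext e5, map_one]
  all_goals simp only [ev, g7, List.cons_append, List.nil_append, List.getD_cons_succ, List.getD_cons_zero, mul_one]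
  · exact h.gg k
  · rw [← mul_assoc, ← mul_assoc]; nth_rw 2 [← e1]; rw [h.gx k]; group
  · rw [← mul_assoc, ← mul_assoc]; nth_rw 2 [← e1]; rw [h.gu k]; group
  · simpa only [mul_assoc] using h.eq_one k ((((h1.mul h1).mul h1).mul h1).mul (k.lc.mul k.lc))
      ((((h2.mul_left h2).mul_left h2).mul_left h2).mul_left (hc.mul_left hc))
  · simpa only [mul_assoc] using h.eq_one k (((((k.lc.mul h1).mul h1).mul k.lg).mul (k.lc.inv (0, 2) (1, 0))).mul k.lg)
      (((((hc.mul_left h2).mul_left h2).mul_left k.gt).mul_left hc.inv_left).mul_left k.gt)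
  · rw [← h.kk k]; nth_rw 2 [← e1]; simp only [mul_assoc]
  · simpa only [mul_assoc, pow_succ, pow_zero, one_mul] using h.cube_g k

omit k in
theorem cc_le {p : ℕ} {y : G} (hp : p.Prime) (hy : orderOf y = p) : cc y ≤ 2944 := by
  have h1 := h.spec y
  have k : ∀ {q a : ℕ} (j : ℕ), q.Prime → q.Coprime p → q * p ∉ ({1, 2, 3, 4, 5, 6, 7, 8, 11, 14, 15, 23} : Finset ℕ) →
      cc y ∣ a * q ^ j → cc y ∣ a := fun j hq h1 h2 => dvd_of_not j hq (h.not_dvd hq (hy ▸ h1) (hy ▸ h2))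
  have h2 := (cc_dvd y).trans h.card.dvd
  rw [hy] at h1
  rcases (by decide : ∀ n ∈ ({1, 2, 3, 4, 5, 6, 7, 8, 11, 14, 15, 23} : Finset ℕ), n.Prime →
    n = 2 ∨ n = 3 ∨ n = 5 ∨ n = 7 ∨ n = 11 ∨ n = 23) p h1 hp with rfl | rfl | rfl | rfl | rfl | rfl
  · rw [h.cc2 hy]; decide
  · rw [h.cc3 hy]; decide
  · exact (Nat.le_of_dvd (by decide) (h.cc5 hy)).trans (by decide)
  · exact (Nat.le_of_dvd (by decide) (k (a := 896) (q := 3) 2 (by decide) (by decide) (by decide) (k (q := 5) 1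
      (by decide) (by decide) (by decide) (k (q := 11) 1 (by decide) (by decide) (by decide)
      (k (q := 23) 1 (by decide) (by decide) (by decide) h2))))).trans (by decide)
  · exact (Nat.le_of_dvd (by decide) (k (a := 1408) (q := 3) 2 (by decide) (by decide) (by decide) (k (q := 5) 1
      (by decide) (by decide) (by decide) (k (q := 7) 1 (by decide) (by decide) (by decide)
      (k (q := 23) 1 (by decide) (by decide) (by decide) h2))))).trans (by decide)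
  · exact Nat.le_of_dvd (by decide) (k (a := 2944) (q := 3) 2 (by decide) (by decide) (by decide) (k (q := 5) 1
      (by decide) (by decide) (by decide) (k (q := 7) 1 (by decide) (by decide) (by decide)
      (k (q := 11) 1 (by decide) (by decide) (by decide) h2))))

omit k in
theorem eq_bot {K : Subgroup G} [hK : K.Normal] (h1 : Nat.card K ≤ 253) : K = ⊥ := by
  by_contra h2
  obtain ⟨p, h3, h4⟩ := Nat.exists_prime_and_dvd (mt (eq_bot_of_card_eq K) h2)
  obtain ⟨y, hy, e⟩ := exists_mem_orderOf_eq_of_dvd_card h3 h4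
  have h8 := Set.ncard_le_ncard (s := {w | IsConj y w}) (t := K) fun w hw => by
    obtain ⟨c, rfl⟩ := isConj_iff.mp hw
    exact hK.conj_mem y hy c
  have h9 := cc_mul y
  have h10 := Nat.mul_le_mul (h.cc_le h3 e) (h8.trans h1)
  rw [h9, h.card] at h10
  omega

omit k in
theorem nonempty_equiv : Nonempty (G ≃* cl ms23) := by
  obtain ⟨S, x, u, V, A, B, c, g, a, k⟩ := h.exists_cg
  obtain ⟨f, hi, hf⟩ := h.exists_hom23 k
  obtain ⟨F, hF⟩ := exists_hom_words (ms := ms23) (gs := g7 x u c (g * a * g⁻¹) ++ [a] ++ [g]) rfl pres23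
    card_cl23.ge rels23_ms23 (h.rels k hf)
  have h1 := card_le_of_le (show f.range ≤ F.range by
    rw [range_eq_cl hf, range_eq_cl hF]
    exact cl_le fun y hy => mem_cl (List.mem_append_left _ hy))
  have h2 := card_n23.trans (Nat.card_congr (MonoidHom.ofInjective hi).toEquiv).le
  have h3 := card_eq_card_quotient_mul_card_subgroup F.ker
  rw [Nat.card_congr (QuotientGroup.quotientKerEquivRange F).toEquiv, card_cl23] at h3
  have h5 := (n23_of_nse card_cl23 nse23).eq_bot (K := F.ker) (by by_contra; nlinarith)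
  exact ⟨(MulEquiv.ofBijective F ((Nat.bijective_iff_injective_and_card F).mpr
    ⟨F.ker_eq_bot_iff.mp h5, card_cl23.trans h.card.symm⟩)).symm⟩

end N23

end Cfsg.Agent.Mat
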