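import Cfsg.Agent.Mat.M24J
import Cfsg.Agent.Mat.Data24

/-! The identification of `M24`. -/

set_option autoImplicit false
set_option linter.unusedSectionVars false
set_option maxRecDepth 100000

namespace Cfsg.Agent.Mat

open Subgroup MulAction Cfsg.Agent.M11 Cfsg.Agent.Local
open scoped Pointwise

variable {G : Type*} [Group G] [Finite G]

namespace N24

variable (h : N24 G) {x u c g τ a : G} {V W : Subgroup G} (k : C4 x u c g τ a V W)
include h k

omit h in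
theorem l_t : L9 x u (c * c) (2, 0) (0, 2) := (k.lc.mul k.lc).congr

omit h in
theorem neg_t : ∀ p ∈ EE x u, c * c * p * (c * c)⁻¹ = p⁻¹ := k.k.neg (l_t k)

theorem eq_one' {y : G} {a b : ZMod 3 × ZMod 3} (l : L9 x u y a b) (hc : Commute y (c * c))
    (e : a = (1, 0) ∧ b = (0, 1) := by decide) : y = 1 := h.eq_one k.k (l_t k) l hc e

theorem tt : c * c * (c * c) = 1 :=
  h.eq_one' k ((l_t k).mul (l_t k)) ((Commute.refl _).mul_left (Commute.refl _))

theorem gg : g * g = 1 := h.eq_one' k (k.lg.mul k.lg) (k.gt.mul_left k.gt)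

omit h in
theorem gx : g * x * g⁻¹ = x * u⁻¹ := k.lg.cx.trans k.k.ee_w

omit h in
theorem gu : g * u * g⁻¹ = u⁻¹ := k.lg.cu.trans k.k.ee_ui

omit h in
theorem v_mem : u * a * u⁻¹ ∈ V := conj_mem_of_mem_normalizer (k.v.inv (right_mem_EE x u)) k.ha

theorem fr : Fr x u c (u * a * u⁻¹) := by
  have b := k.k.toB9
  have hu := right_mem_EE x u
  have h3 := v_mem k
  have h4 : u * a * u⁻¹ ≠ 1 := fun e => k.a1 (conj_eq_one_iff.mp e)
  obtain ⟨⟨-, -, h5, h6⟩, -⟩ := h.rot k.k k.v b hu h3 h4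
  have h7 : ∀ y, u * (u * y * u⁻¹) * u⁻¹ = u⁻¹ * y * u := fun y =>
    calc _ = (u * u) * y * (u * u)⁻¹ := by group
      _ = _ := by rw [b.sq hu, inv_inv]
  refine ⟨?_, k.lc.cx.trans (ee_u x u), k.lc.cu.trans b.ee_xi, b.comm, h.sqV k.k k.v h3, h4,
    (k.v.cen _ h3).symm, ?_, (h7 _).symm.trans h6, k.w.cen (mem_inf.mp ((h.cV k).le (conj_mem_conj_smul c h3))).1 _ h3,
    h5⟩
  · rw [← h.tt k]; simp only [pow_succ, pow_zero, one_mul, mul_assoc]
  · rw [h7]
    calc _ = (c * c * u * (c * c)⁻¹) * (c * c * a * (c * c)⁻¹) * (c * c * u * (c * c)⁻¹)⁻¹ := by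
          rw [neg_t k u hu, k.ta.eq, mul_inv_cancel_right, inv_inv]
      _ = _ := by group

theorem PP4 : PP c (u * a * u⁻¹) 4 = u * (u * a * u⁻¹) * u⁻¹ := by
  rw [(h.fr k).uv]; simp [PP, bs, vv]

theorem PP5 : PP c (u * a * u⁻¹) 5 = a := by
  rw [show 5 = 1 ^^^ 4 from rfl, (h.fr k).PP_xor, PP_one, h.PP4 k, ← (h.fr k).rot]; group

theorem c_mem : c ∈ normalizer ((V ⊔ W ⊓ centralizer {u} : Subgroup G) : Set G) := by
  rw [mem_normalizer_iff_conj_smul_eq, smul_sup, ← h.cV k, conj_smul_conj_smul,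
    mem_normalizer_iff_conj_smul_eq.mp (k.dg _ _ _ (l_t k)), sup_comm]

theorem PP_mem_U (p : ℕ) : PP c (u * a * u⁻¹) p ∈ V ⊔ W ⊓ centralizer {u} :=
  PP_mem (mem_sup_left (v_mem k)) (h.c_mem k) p

theorem exists_PP {y : G} (hy : y ∈ V ⊔ W ⊓ centralizer {u}) : ∃ p < 16, PP c (u * a * u⁻¹) p = y :=
  (h.fr k).exists_PP (h.card_U k) (mem_sup_left (v_mem k)) (h.c_mem k) hy

theorem cent_PP {y : G} (hy : ∀ p < 16, Commute y (PP c (u * a * u⁻¹) p)) : y ∈ V ⊔ W ⊓ centralizer {u} :=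
  h.cent_U k fun b hb => by
    obtain ⟨p, hp, rfl⟩ := h.exists_PP k hb
    exact (hy p hp).symm

theorem k_mem : g * a * g⁻¹ ∈ W ⊓ centralizer {x * u⁻¹} := (h.gV k).le (conj_mem_conj_smul g k.ha)

theorem kk' : g * a * g⁻¹ * (g * a * g⁻¹) = 1 := h.sqV k.k (h.vyAB k).2 (h.k_mem k)

omit h in
theorem kt : Commute (g * a * g⁻¹) (c * c) := (k.gt.mul_left k.ta.symm).mul_left k.gt.inv_left

theorem act_k : Act c (u * a * u⁻¹) k16 (g * a * g⁻¹) := by
  have f := h.fr k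
  have h1 := h.k_mem k
  have h2 := h.kk' k
  have h3 := kt k
  have h0 : g * a * g⁻¹ ≠ 1 := fun e => k.a1 (conj_eq_one_iff.mp e)
  generalize g * a * g⁻¹ = y at h1 h2 h3 h0
  obtain ⟨j, hj, e⟩ := h.exists_PP k (conj_mem_of_mem_normalizer (h.norm_U k h1) (h.PP_mem_U k 2))
  have h4 : ∀ w ∈ V, y * w * y⁻¹ = w := fun w hw => by rw [← k.w.cen (mem_inf.mp h1).1 w hw, mul_inv_cancel_right]
  have h5 := f.act_c.mul f.act_c
  have h6 := f.conj_PP' (g := y) (i := 1) (k := 4) (l := lk (c16 * c16).1 j) (by rw [PP_one, h4 _ (v_mem k)]) e.symm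
    (h4 _ (h.PP4 k ▸ conj_mem_of_mem_normalizer (k.v.inv (right_mem_EE x u)) (v_mem k))) (by
      rw [← h5 j hj, e, ← show lk (c16 * c16).1 2 = 8 by decide +kernel, ← h5 2 (by decide)]
      generalize c * c = t at h3
      calc _ = (y * t) * PP c (u * a * u⁻¹) 2 * (y * t)⁻¹ := by group
        _ = _ := by rw [h3.eq]; group)
  have h7 : ∀ p, lin [1, j, 4, lk (c16 * c16).1 j] p < 16 := fun p => by
    have := lk_lt (c16 * c16) hj
    simp only [lin]
    refine Nat.xor_lt_two_pow (n := 4) ?_ (Nat.xor_lt_two_pow ?_ (Nat.xor_lt_two_pow ?_ (Nat.xor_lt_two_pow ?_ ?_))) <;>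
      first | omega | (split_ifs <;> omega)
  intro p hp
  rw [h6, cases_k16 j hj (f.PP_inj (h7 j) (by decide) ?_) (fun e' => ?_) (fun p hp => f.PP_inj (h7 _)
    (lk_lt _ (h7 p)) ?_) p hp]
  · rw [← h6, e]
    calc _ = (y * y) * PP c (u * a * u⁻¹) 2 * (y * y)⁻¹ := by group
      _ = _ := by rw [h2]; group
  · refine h.not_tri k (le_centralizer_iff.mp (h.V_le k.k (h.vyAB k).2 ((h.vyAB k).1.inv.trans
      (normalizer_le_normalizer_centralizer _)) h1 h0 fun w hw => ?_))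
    obtain ⟨p, hp, rfl⟩ := h.exists_PP k (mem_sup_right hw)
    have := h6 p
    rw [e', (by decide +kernel : ∀ p < 16, lin [1, 2, 4, lk (c16 * c16).1 2] p = p) p hp] at this
    exact (mul_inv_eq_iff_eq_mul.mp this).symm
  · have h8 := f.act_x.mul f.act_u.inv
    rw [← h6, ← h8 p hp, ← h8 _ (h7 p), ← h6]
    calc _ = (y * (x * u⁻¹)) * PP c (u * a * u⁻¹) p * (y * (x * u⁻¹))⁻¹ := by group
      _ = _ := by rw [((h.vyAB k).2.cen y h1).eq]; group

theorem act7 : List.Forall₂ (Act c (u * a * u⁻¹)) n7 (g7 x u c (g * a * g⁻¹)) :=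
  have f := h.fr k
  .cons f.act_x (.cons f.act_x.inv (.cons f.act_u (.cons f.act_u.inv (.cons f.act_c (.cons f.act_c.inv
    (.cons (h.act_k k) .nil))))))

theorem pow_fpf {y : G} {m : CP 16} (ha : Act c (u * a * u⁻¹) m y) (n : ℕ) (h1 : m ^ n = 1)
    (h2 : ∀ p < 16, lk m.1 p = p → p = 0) : y ^ n = 1 := by
  obtain ⟨p, hp, e⟩ := h.exists_PP k (h.cent_PP k fun p hp => (h1 ▸ ha.pow n).comm hp)
  have h3 := ha p hp
  rw [e, (Commute.self_pow y n).eq, mul_inv_cancel_right, ← e] at h3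
  rw [← e, h2 p hp ((h.fr k).PP_inj hp (lk_lt m hp) h3).symm, PP_zero]

theorem rels7 : ∀ r ∈ relsA7, ev (g7 x u c (g * a * g⁻¹)) r = 1 := fun w hw => by
  have f := h.fr k
  have b := k.k.toB9
  have hu := inv_mem (right_mem_EE x u)
  have h1 := h.pow_fpf k (Act.ev (h.act7 k) [4, 6]) 6 (by decide +kernel) (by decide +kernel)
  have h2 := h.pow_fpf k (Act.ev (h.act7 k) [0, 2, 4, 6, 4, 6, 4, 6]) 5 (by decide +kernel) (by decide +kernel)
  have h3 : (u * (g * a * g⁻¹)) ^ 3 = 1 := by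
    obtain ⟨⟨-, -, h3, h4⟩, -⟩ := h.rot k.k k.v b.inv hu k.ha k.a1
    rw [← inv_inv u, ← gu k, conj_inv, conj_mul, conj_pow, conj_eq_one_iff]
    calc _ = u⁻¹ * a * u⁻¹⁻¹ * (u⁻¹ * (u⁻¹ * a * u⁻¹⁻¹) * u⁻¹⁻¹) * u⁻¹ ^ 3 * a := by
          simp only [pow_succ, pow_zero, one_mul]; group
      _ = _ := by
        rw [h4, b.cube hu, mul_one, h3, ← mul_assoc, h.sqV k.k k.v (conj_mem_of_mem_normalizer (k.v.inv hu) k.ha),
          one_mul, h.sqV k.k k.v k.ha]
  have h4 := h.kk' k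
  have h5 := kt k
  have h6 := (h.vyAB k).2.cen _ (h.k_mem k)
  generalize g * a * g⁻¹ = y at h1 h2 h3 h4 h5 h6
  simp only [relsA7, List.mem_cons, List.not_mem_nil, or_false] at hw
  rcases hw with rfl | rfl | rfl | rfl | rfl | rfl | rfl | rfl | rfl | rfl | rfl | rfl | rfl | rfl | rfl | rfl | rfl |
    rfl | rfl
  all_goals simp only [ev, g7, List.getD_cons_succ, List.getD_cons_zero, mul_one, mul_inv_cancel, inv_mul_cancel,
    pow_succ, pow_zero, one_mul, ← mul_assoc] at h1 h2 h3 ⊢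
  · exact h4
  · rw [← pow_three', b.cx]
  · rw [← pow_three', b.cu]
  · rw [f.xu.eq]; group
  · rw [← f.cx]; group
  · rw [mul_assoc, mul_assoc, ← mul_assoc c, f.cu, mul_inv_cancel]
  · rw [← f.c4]; simp only [pow_succ, pow_zero, one_mul]
  · rw [← h6.eq, mul_assoc y, mul_assoc y, mul_assoc x, f.xu.inv_inv.symm.eq]
    simpa [mul_assoc] using h4
  · calc _ = (c * c) * (y * (c * c)) * y := by simp only [mul_assoc]
      _ = (c * c * (c * c)) * (y * y) := by rw [h5.eq]; simp only [mul_assoc]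
      _ = 1 := by rw [h.tt k, h4, mul_one]
  · exact h3
  · exact h1
  · exact h2

theorem exists_hom23 : ∃ f : cl n23 →* G, Function.Injective f ∧
    ∀ w, f (el n23 w) = ev (g7 x u c (g * a * g⁻¹) ++ [a]) w := by
  have f := h.fr k
  obtain ⟨F, hF⟩ := exists_hom_words (ms := n7) (gs := g7 x u c (g * a * g⁻¹)) rfl presA7 card_n7
    (by decide +kernel) (h.rels7 k)
  have h1 : ∀ y ∈ cl (g7 x u c (g * a * g⁻¹)), (∀ p < 16, Commute y (PP c (u * a * u⁻¹) p)) → y = 1 := fun y hy hc => by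
    obtain ⟨w, rfl⟩ := exists_word hy
    rw [← hF, ← map_one F]
    refine congrArg F (Subtype.ext (eq_of_smul_eq_smul (α := Fin 16) fun p => Fin.ext (f.PP_inj (Fin.isLt _)
      (Fin.isLt _) ?_)))
    rw [CP.smul_val, ← Act.ev (h.act7 k) w p p.2, (hc p p.2).eq, mul_inv_cancel_right]
    exact congrArg (fun q : Fin 16 => PP c (u * a * u⁻¹) q) (one_smul (CP 16) p).symm
  have m : ∀ {y}, y ∈ g7 x u c (g * a * g⁻¹) → y ∈ cl (g7 x u c (g * a * g⁻¹)) := mem_cl
  refine f.exists_hom (h.PP_mem_U k) (K := cl (g7 x u c (g * a * g⁻¹))) (cl_le fun y hy => ?_) (fun y hy hU => h1 y hy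
    fun p _ => (h.U_le k hU _ (h.PP_mem_U k p)).symm) h1
    (.cons (.inl ⟨m (by simp [g7]), f.act_x⟩) (.cons (.inl ⟨m (by simp [g7]), f.act_x.inv⟩)
    (.cons (.inl ⟨m (by simp [g7]), f.act_u⟩) (.cons (.inl ⟨m (by simp [g7]), f.act_u.inv⟩)
    (.cons (.inl ⟨m (by simp [g7]), f.act_c⟩) (.cons (.inl ⟨m (by simp [g7]), f.act_c.inv⟩)
    (.cons (.inl ⟨m (by simp [g7]), h.act_k k⟩) (.cons (.inr ⟨5, (h.PP5 k).symm, by decide +kernel⟩) .nil))))))))
  have hx := h.EU k (left_mem_EE x u)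
  have hu := h.EU k (right_mem_EE x u)
  simp only [g7, List.mem_cons, List.not_mem_nil, or_false] at hy
  rcases hy with rfl | rfl | rfl | rfl | rfl | rfl | rfl
  exacts [hx, inv_mem hx, hu, inv_mem hu, h.c_mem k, inv_mem (h.c_mem k), h.norm_U k (h.k_mem k)]

theorem cube_g : (g * (c * (g * a * g⁻¹) * c⁻¹)) ^ 3 = 1 := by
  have b := k.k.toB9
  have hu := right_mem_EE x u
  have l := k.lc.mul k.lg
  have a1 := k.v.conj (b.mem_norm l)
  have h1 := conj_mem_conj_smul (c * g) k.ha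
  rw [show c * g * a * (c * g)⁻¹ = c * (g * a * g⁻¹) * c⁻¹ by group] at h1
  rw [l.cx.trans ((congrArg _ (by decide)).trans b.ee_s)] at a1
  have h2 : Commute g (x * u) := mul_inv_eq_iff_eq_mul.mp (by
    rw [← b.ee_s, k.lg]; exact congrArg _ (by decide))
  have h3 : Commute (c * (g * a * g⁻¹) * c⁻¹) (c * c) := by
    have := commute_conj c (kt k)
    rwa [show c * (c * c) * c⁻¹ = c * c by group] at this
  have h0 : c * (g * a * g⁻¹) * c⁻¹ ≠ 1 := fun e => k.a1 (conj_eq_one_iff.mp (conj_eq_one_iff.mp e))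
  generalize c * (g * a * g⁻¹) * c⁻¹ = y at h1 h3 h0
  have b' : B9 (x * u) u := by simpa only [b.comm.eq] using b.swap.mul.swap
  have h4 : g * y * g⁻¹ ∉ MulAut.conj (c * g) • V := fun e => by
    obtain ⟨d, ld⟩ := k.k.gl (1, 0) (0, 2) (by decide)
    have a2 := a1.conj (b.mem_norm k.lg)
    have h4 := eq_of_le_of_card_ge (h.V_le k.k a1 a2.inv e (fun e => h0 (conj_eq_one_iff.mp e))
      (conj_mem_conj_smul g h1)) (a2.card.trans a1.card.symm).le
    rw [conj_smul_conj_smul, ← inv_smul_eq_iff_eq_smul_aux] at h4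
    exact absurd (h.not_uni k.k k.v (j := 2) (ld.mul ((l.inv (0, 1) (1, 2)).mul (k.lg.mul l))).congr
      (mul_mem (k.dg _ _ _ ld) h4)) (by decide)
  have h5 := conj_mem_of_mem_normalizer (a1.inv hu) h1
  rcases h.good_prod b' (k.k.cA _ a1.hr a1.r1) (h.rot k.k a1 b' hu h1 h0).1 (a1.cen y h1) (h.gg k) h2 (by
    rw [gu k, inv_mul_cancel]; exact one_mem _) with e | e | e | e | e
  · exact absurd (e.symm ▸ h1) h4
  · exact absurd (e.symm ▸ h5) h4
  · exact absurd (e.symm ▸ mul_mem h1 h5) h4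
  · exact h.cube' (by rw [show 27 = 9 * 3 from rfl, pow_mul, e, one_pow])
  · by_contra h6
    exact h.noinv5 (orderOf_eq_prime (by rw [← pow_mul, e]) h6) a1.ox ((h2.mul_left (a1.cen y h1)).pow_left 3).symm
      ((k.gt.mul_left h3).pow_left 3).symm (neg_t k _ a1.hr)

theorem rels {f : cl n23 →* G} (hf : ∀ w, f (el n23 w) = ev (g7 x u c (g * a * g⁻¹) ++ [a]) w) :
    ∀ r ∈ rels23, ev (g7 x u c (g * a * g⁻¹) ++ [a] ++ [g]) r = 1 := fun w hw => by
  have e1 := inv_eq_of_mul_eq_one_right (h.gg k)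
  have hc : Commute c (c * c) := (Commute.refl c).mul_right (Commute.refl c)
  have h1 := k.lg.mul k.lc
  have h2 := k.gt.mul_left hc
  rcases (by decide +kernel : ∀ w ∈ rels23, (w.all (Nat.blt · 8) = true ∧ ev n23 w = 1) ∨ w = [8, 8] ∨
    w = [8, 0, 8, 2, 1] ∨ w = [8, 2, 8, 2] ∨ w = [8, 4, 8, 4, 8, 4, 8, 4, 4, 4] ∨ w = [4, 8, 4, 8, 4, 8, 5, 8] ∨
    w = [8, 7, 8, 6] ∨ w = [8, 4, 6, 5, 8, 4, 6, 5, 8, 4, 6, 5]) w hw
    with ⟨e4, e5⟩ | rfl | rfl | rfl | rfl | rfl | rfl | rfl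
  · rw [← ev_take e4, List.take_left' (show (g7 x u c (g * a * g⁻¹) ++ [a]).length = 8 from rfl), ← hf,
      show el n23 w = 1 from Subtype.ext e5, map_one]
  all_goals simp only [ev, g7, List.cons_append, List.nil_append, List.getD_cons_succ, List.getD_cons_zero, mul_one]
  · exact h.gg k
  · rw [← mul_assoc, ← mul_assoc]; nth_rw 2 [← e1]; rw [gx k]; group
  · rw [← mul_assoc, ← mul_assoc]; nth_rw 2 [← e1]; rw [gu k]; group
  · simpa only [mul_assoc] using h.eq_one' k ((((h1.mul h1).mul h1).mul h1).mul (k.lc.mul k.lc))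
      ((((h2.mul_left h2).mul_left h2).mul_left h2).mul_left (hc.mul_left hc))
  · simpa only [mul_assoc] using h.eq_one' k (((((k.lc.mul h1).mul h1).mul k.lg).mul (k.lc.inv (0, 2) (1, 0))).mul k.lg)
      (((((hc.mul_left h2).mul_left h2).mul_left k.gt).mul_left hc.inv_left).mul_left k.gt)
  · rw [← h.kk' k]; nth_rw 2 [← e1]; simp only [mul_assoc]
  · simpa only [mul_assoc, pow_succ, pow_zero, one_mul] using h.cube_g k

theorem rels' {f : cl n23 →* G} (hf : ∀ w, f (el n23 w) = ev (g7 x u c (g * a * g⁻¹) ++ [a]) w) :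
    ∀ r ∈ rels24, ev (g7 x u c (g * a * g⁻¹) ++ [a] ++ [g] ++ [τ]) r = 1 := fun w hw => by
  rcases List.mem_append.mp hw with hw | hw
  · rw [← ev_take ((by decide +kernel : ∀ r ∈ rels23, r.all (Nat.blt · 9) = true) w hw),
      List.take_left' (show (g7 x u c (g * a * g⁻¹) ++ [a] ++ [g]).length = 9 from rfl), h.rels k hf w hw]
  have hc : Commute c (c * c) := (Commute.refl c).mul_right (Commute.refl c)
  have e0 := h.eq_one' k (k.lt.mul k.lt) (k.tt.mul_left k.tt)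
  have e1 := inv_eq_of_mul_eq_one_right e0
  have h1 := k.lt.mul k.lc
  have h2 := k.tt.mul_left hc
  have h3 := h1.mul k.lg
  have h4 := h2.mul_left k.gt
  have h5 := k.lg.mul k.lt
  have h6 := k.gt.mul_left k.tt
  simp only [relsT, List.mem_cons, List.not_mem_nil, or_false] at hw
  rcases hw with rfl | rfl | rfl | rfl | rfl | rfl | rfl
  all_goals simp only [ev, g7, List.cons_append, List.nil_append, List.getD_cons_succ, List.getD_cons_zero, mul_one]
  · exact e0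
  · rw [← mul_assoc a, k.tV a k.ha, mul_assoc, h.sqV k.k k.v k.ha, mul_one, e0]
  · simpa only [mul_assoc] using h.eq_one' k (h1.mul h1) (h2.mul_left h2)
  · simpa only [mul_assoc] using h.eq_one' k ((h3.mul h3).mul h3) ((h4.mul_left h4).mul_left h4)
  · simpa only [mul_assoc] using h.eq_one' k ((((l_t k).mul h5).mul h5).mul h5)
      ((((hc.mul_left hc).mul_left h6).mul_left h6).mul_left h6)
  · rw [← mul_assoc, ← mul_assoc]; nth_rw 2 [← e1]; rw [k.lt.cx, k.k.ee_xi, inv_mul_cancel]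
  · rw [← mul_assoc, ← mul_assoc]; nth_rw 2 [← e1]; rw [k.lt.cu, ee_u, mul_inv_cancel]

omit k in
theorem cc_le {p : ℕ} {y : G} (hp : p.Prime) (hy : orderOf y = p) : cc y ≤ 23552 := by
  have h1 := h.spec y
  have h2 := (cc_dvd y).trans h.card.dvd
  rw [hy] at h1
  rcases (by decide : ∀ n ∈ sp24, n.Prime → n = 2 ∨ n = 3 ∨ n = 5 ∨ n = 7 ∨ n = 11 ∨ n = 23) p h1 hp
    with rfl | rfl | rfl | rfl | rfl | rfl
  · by_cases h7 : 7 ∣ cc y
    exacts [(h.cc2_7 hy h7).le.trans (by decide), (h.five_or hy h7).2.trans (by decide)]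
  · rcases h.cc3 hy with e | e <;> rw [e] <;> decide
  · rw [h.cc5 hy]; decide
  · rw [h.cc7 hy]; decide
  · exact (Nat.le_of_dvd (by decide) (dvd_of_not (a := 11264) 3 Nat.prime_three (h.not_dvd hy) (dvd_of_not 1
      Nat.prime_five (h.not_dvd hy) (dvd_of_not 1 Nat.prime_seven (h.not_dvd hy) (dvd_of_not (p := 23) 1 (by decide)
        (h.not_dvd hy) h2))))).trans (by decide)
  · exact Nat.le_of_dvd (by decide) (dvd_of_not (a := 23552) 3 Nat.prime_three (h.not_dvd hy) (dvd_of_not 1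
      Nat.prime_five (h.not_dvd hy) (dvd_of_not 1 Nat.prime_seven (h.not_dvd hy) (dvd_of_not 1 Nat.prime_eleven
        (h.not_dvd hy) h2))))

omit k in
theorem eq_bot {K : Subgroup G} [hK : K.Normal] (h1 : Nat.card K ≤ 6072) : K = ⊥ := by
  by_contra h2
  obtain ⟨p, h3, h4⟩ := Nat.exists_prime_and_dvd (mt (eq_bot_of_card_eq K) h2)
  obtain ⟨y, hy, e⟩ := exists_mem_orderOf_eq_of_dvd_card h3 h4
  have h8 := Set.ncard_le_ncard (s := {w | IsConj y w}) (t := K) fun w hw => by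
    obtain ⟨c, rfl⟩ := isConj_iff.mp hw
    exact hK.conj_mem y hy c
  have h9 := cc_mul y
  have h10 := Nat.mul_le_mul (h.cc_le h3 e) (h8.trans h1)
  rw [h9, h.card] at h10
  omega

omit k in
theorem nonempty_equiv : Nonempty (G ≃* cl ms24) := by
  obtain ⟨x, u, c, g, τ, a, V, W, k⟩ := h.exists_c4
  obtain ⟨f, hi, hf⟩ := h.exists_hom23 k
  obtain ⟨F, hF⟩ := exists_hom_words (ms := ms24) (gs := g7 x u c (g * a * g⁻¹) ++ [a] ++ [g] ++ [τ]) rfl pres24
    card_cl24.ge rels24_ms24 (h.rels' k hf)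
  have h1 := card_le_of_le (show f.range ≤ F.range by
    rw [range_eq_cl hf, range_eq_cl hF]
    exact cl_le fun y hy => mem_cl (List.mem_append_left _ (List.mem_append_left _ hy)))
  have h2 := card_n23.trans (Nat.card_congr (MonoidHom.ofInjective hi).toEquiv).le
  have h3 := card_eq_card_quotient_mul_card_subgroup F.ker
  rw [Nat.card_congr (QuotientGroup.quotientKerEquivRange F).toEquiv, card_cl24] at h3
  have h5 := (n24_of_nse card_cl24 nse24).eq_bot (K := F.ker) (by by_contra; nlinarith)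
  exact ⟨(MulEquiv.ofBijective F ((Nat.bijective_iff_injective_and_card F).mpr
    ⟨F.ker_eq_bot_iff.mp h5, card_cl24.trans h.card.symm⟩)).symm⟩

end N24

end Cfsg.Agent.Mat
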