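import Cfsg.Agent.Mat.M22A
import Cfsg.Agent.Local.Sub

/-! Small lemmas on 2-subgroups. -/

set_option autoImplicit false
set_option linter.unusedSectionVars false

namespace Cfsg.Agent.Mat

open Subgroup MulAction Cfsg.Agent.M11 Cfsg.Agent.Local

variable {G : Type*} [Group G] [Finite G]

theorem card_dvd_sum_fixed {R : Subgroup G} {X : Set G} (hX : ∀ r ∈ R, ∀ u ∈ X, r * u * r⁻¹ ∈ X) :
    Nat.card R ∣ ∑ r ∈ (Set.toFinite (R : Set G)).toFinset, {u | u ∈ X ∧ Commute u r}.ncard := by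
  classical
  let _ : MulAction G G := MulAction.compHom G (MulAut.conj (G := G))
  let S : SubMulAction R G := ⟨X, fun r u hu => hX r r.2 u hu⟩
  have := Fintype.ofFinite R
  have := fun r : R => Fintype.ofFinite (fixedBy S r)
  have := Fintype.ofFinite (Quotient (orbitRel R S))
  have h := sum_card_fixedBy_eq_card_orbits_mul_card_group R S
  rw [Finset.sum_subtype (p := (· ∈ R)) _ (fun x => Set.Finite.mem_toFinset _), Finset.sum_congr rfl (g := fun r : R =>
    Fintype.card (fixedBy S r)) fun r _ => ?_, h, Nat.card_eq_fintype_card]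
  · exact dvd_mul_left _ _
  rw [← Nat.card_eq_fintype_card, Nat.card_coe_set_eq, ← Set.ncard_image_of_injective _ Subtype.val_injective]
  congr 1
  ext u
  constructor
  · intro hu
    exact ⟨⟨u, hu.1⟩, Subtype.ext (mul_inv_eq_iff_eq_mul.mpr hu.2.symm), rfl⟩
  · rintro ⟨v, hv, rfl⟩
    exact ⟨v.2, (show Commute r.1 v.1 from mul_inv_eq_iff_eq_mul.mp (congrArg Subtype.val hv)).symm⟩

theorem nine_dvd_count {R W : Subgroup G} (hR : Nat.card R = 9) (hX : R ≤ normalizer (W : Set G)) {p : G → Prop}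
    (h1 : ∀ r ∈ R, r ≠ 1 → p r → {u | u ∈ W ∧ Commute u r}.ncard = 4)
    (h2 : ∀ r ∈ R, r ≠ 1 → ¬ p r → {u | u ∈ W ∧ Commute u r}.ncard = 1) :
    9 ∣ Nat.card W + 8 + 3 * {r | r ∈ R ∧ r ≠ 1 ∧ p r}.ncard := by
  classical
  have h := card_dvd_sum_fixed (X := W) fun r hr u hu => conj_mem_of_mem_normalizer (hX hr) hu
  set T := (Set.toFinite (R : Set G)).toFinset with hT
  have hm : ∀ r, r ∈ T ↔ r ∈ R := fun x => Set.Finite.mem_toFinset _
  have hc : (T.erase 1).card = 8 := by
    rw [Finset.card_erase_of_mem ((hm 1).mpr (one_mem _)), ← Set.ncard_eq_toFinset_card _ _, ncard_coe, hR]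
  rw [hR, ← Finset.add_sum_erase _ _ ((hm 1).mpr (one_mem _)), Finset.sum_congr rfl
    (g := fun r => 1 + 3 * if p r then 1 else 0) fun r hr => by
      have h3 := Finset.mem_erase.mp hr
      split_ifs with h4
      exacts [h1 r ((hm r).mp h3.2) h3.1 h4, h2 r ((hm r).mp h3.2) h3.1 h4], Finset.sum_add_distrib,
    ← Finset.mul_sum, Finset.sum_boole, Finset.sum_const, hc] at h
  convert h using 1
  rw [add_assoc, ← Set.ncard_coe_finset]
  congr 1
  · exact congrArg Set.ncard (Set.ext fun u => by simp)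
  · congr 3
    ext r
    simp [hm, and_assoc, and_left_comm]

theorem norm_grow {A Q : Subgroup G} (h : A ≤ Q) {k : ℕ} (hA : Nat.card A = 2 ^ k) (hQ : 2 ^ (k + 1) ∣ Nat.card Q) :
    2 ^ (k + 1) ∣ Nat.card ↥(Q ⊓ normalizer (A : Set G)) := by
  obtain ⟨B, h1, h2, h3⟩ := Pres.exists_le_card_pow_succ h hA hQ
  have h4 := card_mul_relIndex h1
  rw [hA, h3, pow_succ, mul_right_inj' (by positivity)] at h4
  have := normal_of_index_eq_two (H := A.subgroupOf B) h4
  exact h3 ▸ card_dvd_of_le (le_inf h2 (le_normalizer_of_normal_subgroupOf h1))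

theorem mem_four {V : Subgroup G} (hV : Nat.card V = 4) {z v u : G} (hz : z ∈ V) (hv : v ∈ V) (h1 : z ≠ 1) (h2 : v ≠ 1)
    (h3 : v ≠ z) (h4 : z * z = 1) (hu : u ∈ V) : u = 1 ∨ u = z ∨ u = v ∨ u = z * v := by
  refine (Set.eq_of_subset_of_ncard_le (s := {1, z, v, z * v}) (t := V) ?_ ?_).ge hu
  · rintro _ (rfl | rfl | rfl | rfl)
    exacts [one_mem _, hz, hv, mul_mem hz hv]
  · have h5 : z * v ≠ 1 := fun e => h3 (mul_left_cancel (e.trans h4.symm))
    rw [ncard_coe, hV, Set.ncard_insert_of_notMem (by simp [h1.symm, h2.symm, h5.symm]),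
      Set.ncard_insert_of_notMem (by simp [h3.symm, h2]), Set.ncard_pair (by simp [h1])]

theorem exists_third {V : Subgroup G} (hV : 2 < Nat.card V) (z : G) : ∃ v ∈ V, v ≠ 1 ∧ v ≠ z := by
  by_contra! h
  have := Set.ncard_le_ncard (s := V) (t := {1, z}) fun v hv => by
    by_cases h1 : v = 1
    exacts [.inl h1, .inr (h v hv h1)]
  have h2 := Set.ncard_insert_le 1 ({z} : Set G)
  rw [Set.ncard_singleton] at h2
  rw [ncard_coe] at this
  omega

theorem card_le_two_mul {V R : Subgroup G} (hV : Nat.card V = 4) {z : G} (hz : z ∈ V) (h1 : z ≠ 1) (h4 : z * z = 1)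
    (hR : R ≤ normalizer (V : Set G)) (hz' : R ≤ centralizer {z}) :
    Nat.card R ≤ 2 * Nat.card ↥(R ⊓ centralizer (V : Set G)) := by
  obtain ⟨v, hv, h2, h3⟩ := exists_third (V := V) (by omega) z
  have h5 := card_inf_centralizer_mul R v
  have h6 := Set.ncard_le_ncard (s := {w | ∃ r ∈ R, r * v * r⁻¹ = w}) (t := {v, z * v}) (by
    rintro _ ⟨r, hr, rfl⟩
    rcases mem_four hV hz hv h1 h2 h3 h4 (conj_mem_of_mem_normalizer (hR hr) hv) with e | e | e | e
    · exact absurd (conj_eq_one_iff.mp e) h2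
    · rw [mul_inv_eq_iff_eq_mul, ← mem_centralizer_singleton_iff.mp (hz' hr), mul_right_inj] at e
      exact absurd e h3
    exacts [.inl e, .inr e])
  have h7 := Set.ncard_insert_le v ({z * v} : Set G)
  rw [Set.ncard_singleton] at h7
  have h8 : Nat.card ↥(R ⊓ centralizer {v}) ≤ Nat.card ↥(R ⊓ centralizer (V : Set G)) := card_le_of_le fun r hr => by
    refine mem_inf.mpr ⟨(mem_inf.mp hr).1, fun u hu => ?_⟩
    have c1 : Commute r z := mem_centralizer_singleton_iff.mp (hz' (mem_inf.mp hr).1)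
    have c2 : Commute r v := mem_centralizer_singleton_iff.mp (mem_inf.mp hr).2
    rcases mem_four hV hz hv h1 h2 h3 h4 hu with rfl | rfl | rfl | rfl
    exacts [by simp, c1.symm, c2.symm, (c1.mul_right c2).symm]
  nlinarith

end Cfsg.Agent.Mat
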