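import Cfsg.Agent.Mat.Fr16
import Cfsg.Agent.Mat.Two

/-! The complement `A₆` and its outer automorphisms. -/

set_option autoImplicit false
set_option linter.unusedSectionVars false
set_option maxRecDepth 100000

namespace Cfsg.Agent.Mat

open Subgroup MulAction Cfsg.Agent.M11 Cfsg.Agent.Local

variable {G : Type*} [Group G] [Finite G]

theorem ev_rep {gs : List G} (a j : ℕ) : ev gs (List.replicate j a) = gs.getD a 1 ^ j := by
  induction j with
  | zero => simp [ev]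
  | succ j ih => rw [List.replicate_succ, ev, ih, pow_succ']

theorem conj_eq_or {c g : G} (hc : orderOf c = 4) (hg : g ∈ normalizer (zpowers c : Set G)) :
    g * c * g⁻¹ = c ∨ g * c * g⁻¹ = c⁻¹ := by
  obtain ⟨k, e⟩ := mem_powers_iff_mem_zpowers.mpr (conj_mem_of_mem_normalizer hg (mem_zpowers c))
  have h1 := orderOf_conj' g c
  have h2 : c ^ 4 = 1 := hc ▸ pow_orderOf_eq_one c
  rw [← e, hc] at h1
  rw [← e]
  dsimp only at h1 ⊢
  rw [pow_eq_pow_mod k h2] at h1 ⊢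
  have h3 := Nat.mod_lt k (show 0 < 4 by decide)
  generalize k % 4 = j at h1 h3
  interval_cases j
  · simp at h1
  · simp
  · rw [orderOf_pow, hc] at h1; exact absurd h1 (by decide)
  · exact .inr (eq_inv_of_mul_eq_one_left ((pow_succ c 3).symm.trans h2))

theorem exists_norm_four {K : Subgroup G} {c : G} (hc : orderOf c = 4) (h : c ∈ K) (h8 : 8 ∣ Nat.card K) :
    ∃ g ∈ K, g ∉ zpowers c ∧ (g * c * g⁻¹ = c ∨ g * c * g⁻¹ = c⁻¹) := by
  have h1 := norm_grow (zpowers_le.mpr h) (k := 2) (by rw [Nat.card_zpowers, hc]; rfl) h8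
  by_contra! h2
  have h3 := card_dvd_of_le (show K ⊓ normalizer (zpowers c : Set G) ≤ zpowers c from fun g hg => by_contra fun h3 =>
    (conj_eq_or hc (mem_inf.mp hg).2).elim (h2 g (mem_inf.mp hg).1 h3).1 (h2 g (mem_inf.mp hg).1 h3).2)
  rw [Nat.card_zpowers, hc] at h3
  exact absurd (h1.trans h3) (by decide)

theorem le_card_of_words {n : ℕ} [Fact (n ≤ 256)] (ms : List (CP n)) (W : List (List ℕ)) {L : List (ℕ × List ℕ)}
    (h : lowChk n L (fun c => memN c (W.map fun w => (ev ms w).1)) = true) :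
    (L.map fun p => p.2.length).prod ≤ Nat.card (cl ms) :=
  lowChk_le (fun x hx => by
    obtain ⟨w, -, e⟩ := List.mem_map.mp (memN_iff.mp hx)
    exact Subtype.ext e ▸ ev_mem_cl ms w) h

theorem card_n8 : 5760 ≤ Nat.card (cl n8) :=
  le_card_of_words n8 [[], [0], [4], [6], [1], [2, 4], [4, 6, 0, 7], [3, 6, 0, 3, 7, 2, 5, 6], [5, 6], [7, 6], [4, 6], [7, 4], [7, 6, 0], [2, 7, 3, 6, 3, 7, 5], [0, 3, 5, 6, 0, 7], [1, 3, 7, 3, 4, 7, 3], [2], [4, 6, 7], [3], [4, 6, 7, 2], [5, 7, 6, 7, 3], [0, 3, 5, 6, 7], [4, 6, 7, 3], [0, 4, 7, 6, 7, 3], [0, 5, 6, 1, 3, 7, 2, 6], [2, 4, 6, 7, 2], [0, 3, 5, 6, 7, 2], [0, 2, 4, 7, 5], [4, 6, 3, 7, 6, 3, 7], [1, 2, 7, 3, 6, 3], [0, 3, 4, 4], [5, 7, 6, 7, 2], [0, 3, 4, 7, 2, 4, 7, 3, 6], [0, 5, 7, 6, 1, 7, 2], [4, 6, 1, 3, 7, 4, 7], [1, 2, 7, 3, 5, 7, 3], [2, 7, 2, 6, 3, 7, 3], [0, 4, 7, 6, 7], [4, 7, 6, 1, 7]]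
    (L := [(2, [0xf0e0d0c0b0a09080706050403020100, 0xd0c0706090803020f0e05040b0a0100, 0xf0d0b09070503010e0c0a0806040200, 0xf0804030205090e01060a0d0c0b0700, 0x7060f0e03020b0a0d0c050409080100, 0xb090e0c030106040f0d0a0807050200, 0xd03070906080c020a04000e010f0b05, 0xd0008050a070f02030e060b0409010c, 0xf040209010a0c070803050e060d0b00, 0xa0d010607000c0b04030f08090e0205, 0xf010806040a030d020c050b09070e00, 0xa080e0c020006040b090f0d03010705, 0x10604030c0b090e0a0d0f0807000205, 0x40a0e000f01050b030d09070806020c, 0xe03060b070a0f020805000d010c0904, 0xd0f080a05070002090b0c0e01030406]), (1, [0xf0e0d0c0b0a09080706050403020100, 0xb0f090d0e0a0c080307010506020400, 0xa040d03010f06080709000e0c020b05, 0xe0b0c090f0a0d080603040107020500, 0x10a060d040f03080c070b0009020e05, 0xb0e060300050d080c09010407020a0f, 0x8050e03010c070a060b000d0f020904, 0x40103060a0f0d08090c0e0b07020005, 0xc09030600050f0a0b0e04010702080d, 0xe04000a03090d07050f0b010802060c,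 0x40a0709050b06080d030e000c020f01, 0x108070e050c030a0f0609000b020d04, 0x1050b0f04000e0a0307090d06020c08, 0xa0f050c060309040e0b010802070d, 0xb09080a060405070d0f0e0c00020301]), (4, [0xf0e0d0c0b0a09080706050403020100, 0xc0d0e0f09080b0a0607040503020100, 0xe00030d0b0506080907040a0c02010f, 0x30e0d0004090a070805060b0f02010c, 0x30f0c00060a09050b0704080e02010d, 0xd0e030a07040905080b060f02010c, 0xe0c0f0d040605070a080b0900020103, 0xf03000c05090a0604080b070e02010d]), (0, [0xf0e0d0c0b0a09080706050403020100, 0xc0f030905060a070b08040e02010d, 0xd03000e06080b0507090a040c02010f])]) (by decide +kernel)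

/-- The generators of the affine group. -/
def g8 (x u c v s : G) : List G := [x, x⁻¹, u, u⁻¹, c, c⁻¹, s, PP c v 5]

theorem Fr.exists_hom8 {x u c v s : G} (h : Fr x u c v) {U K : Subgroup G} (hU : ∀ p, PP c v p ∈ U)
    (hK : K ≤ normalizer (U : Set G)) (h1 : ∀ g ∈ K, g ∈ U → g = 1)
    (h2 : ∀ g ∈ K, (∀ p < 16, Commute g (PP c v p)) → g = 1) (hx : x ∈ K) (hc : c ∈ K) (hs : s ∈ K)
    (h3 : Act c v s16 s) :
    ∃ f : cl n8 →* G, Function.Injective f ∧ ∀ w, f (el n8 w) = ev (g8 x u c v s) w := by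
  have hu : u ∈ K := h.cx ▸ mul_mem (mul_mem hc hx) (inv_mem hc)
  exact h.exists_hom hU hK h1 h2 (.cons (.inl ⟨hx, h.act_x⟩) (.cons (.inl ⟨inv_mem hx, h.act_x.inv⟩)
    (.cons (.inl ⟨hu, h.act_u⟩) (.cons (.inl ⟨inv_mem hu, h.act_u.inv⟩) (.cons (.inl ⟨hc, h.act_c⟩)
    (.cons (.inl ⟨inv_mem hc, h.act_c.inv⟩) (.cons (.inl ⟨hs, h3⟩) (.cons (.inr ⟨5, rfl, by decide +kernel⟩) .nil))))))))

section

variable {x u c v s q : G} {f : cl n8 →* G} (hi : Function.Injective f) (hf : ∀ w, f (el n8 w) = ev (g8 x u c v s) w)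
include hf

theorem rel8 {w : List ℕ} (h : ev n8 w = 1) : ev (g8 x u c v s) w = 1 := by
  rw [← hf, show el n8 w = 1 from Subtype.ext h, map_one]

theorem inv_c8 : s * c * s⁻¹ = c⁻¹ := by
  have h1 := rel8 hf (w := [6, 6]) (by decide +kernel)
  have h2 := rel8 hf (w := [6, 4, 6, 4]) (by decide +kernel)
  simp only [ev, g8, List.getD_cons_succ, List.getD_cons_zero, mul_one] at h1 h2
  rw [inv_eq_of_mul_eq_one_right h1]
  exact eq_inv_of_mul_eq_one_left (by rw [← h2]; group)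

include hi

theorem conj8 {wu : List ℕ} {wc j : ℕ} (h1 : q * x * q⁻¹ = x * u⁻¹) (h2 : q * u * q⁻¹ = ev (g8 x u c v s) wu)
    (h3 : q * c * q⁻¹ = (g8 x u c v s).getD wc 1) (h4 : q * s * q⁻¹ = s * c⁻¹ ^ j) (w : List ℕ) :
    q * ev [x, u⁻¹, c, s] w * q⁻¹ = f (ev [el n8 [0, 3], (el n8 wu)⁻¹, el n8 [wc], el n8 (6 :: List.replicate j 5)] w) := by
  rw [map_ev f]
  refine (map_ev (MulAut.conj q).toMonoidHom _ w).trans (congrArg (ev · w) ?_)
  simp only [List.map_cons, List.map_nil, map_inv, hf, ev, ev_rep, ← h2, ← h3]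
  simp [g8, h1, h4]

theorem conj_s8 {j : ℕ} (hj : j < 4) (h1 : q * x * q⁻¹ = x * u⁻¹) (h2 : q * u * q⁻¹ = (x * u)⁻¹)
    (h3 : q * c * q⁻¹ = c⁻¹) (h4 : q * s * q⁻¹ = s * c⁻¹ ^ j) : q * s * q⁻¹ * s * c = 1 := by
  have h5 := conj8 hi hf (wu := [3, 1]) (wc := 5) h1 (by simp [h2, g8, ev]) h3 h4 [0, 2, 3, 0, 3, 1, 3]
  rw [show ev [x, u⁻¹, c, s] [0, 2, 3, 0, 3, 1, 3] = 1 from rel8 hf (w := [0, 4, 6, 0, 6, 3, 6]) (by decide +kernel),
    mul_one, mul_inv_cancel, eq_comm, map_eq_one_iff f hi] at h5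
  obtain rfl := (by decide +kernel : ∀ j < 4, ev [el n8 [0, 3], (el n8 [3, 1])⁻¹, el n8 [5],
    el n8 (6 :: List.replicate j 5)] [0, 2, 3, 0, 3, 1, 3] = 1 → j = 3) j hj h5
  rw [h4]
  simpa [ev, g8, pow_succ, mul_assoc] using rel8 hf (w := [6, 5, 5, 5, 6, 4]) (by decide +kernel)

theorem conj_s8' {j : ℕ} (hj : j < 4) (h1 : q * x * q⁻¹ = x * u⁻¹) (h2 : q * u * q⁻¹ = x * u)
    (h3 : q * c * q⁻¹ = c) (h4 : q * s * q⁻¹ = s * c⁻¹ ^ j) (h5 : q * q = c) :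
    ∃ m, (x * s * q) ^ 2 = f m ∧ orderOf (f m) = 5 := by
  have h6 := conj8 hi hf (wu := [0, 2]) (wc := 4) h1 (by simp [h2, g8, ev]) h3 h4
  have h7 := h6 [0, 2, 3, 0, 3, 1, 3]
  rw [show ev [x, u⁻¹, c, s] [0, 2, 3, 0, 3, 1, 3] = 1 from rel8 hf (w := [0, 4, 6, 0, 6, 3, 6]) (by decide +kernel),
    mul_one, mul_inv_cancel, eq_comm, map_eq_one_iff f hi] at h7
  obtain rfl := (by decide +kernel : ∀ j < 4, ev [el n8 [0, 3], (el n8 [0, 2])⁻¹, el n8 [4],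
    el n8 (6 :: List.replicate j 5)] [0, 2, 3, 0, 3, 1, 3] = 1 → j = 1) j hj h7
  refine ⟨el n8 [0, 6] * ev [el n8 [0, 3], (el n8 [0, 2])⁻¹, el n8 [4], el n8 (6 :: List.replicate 1 5)] [0, 3] *
    el n8 [4], ?_, ?_⟩
  · rw [map_mul, map_mul, ← h6, hf, hf]
    simp [ev, g8, pow_two, ← h5, mul_assoc]
  · have := Fact.mk Nat.prime_five
    rw [orderOf_injective f hi]
    exact orderOf_eq_prime (by decide +kernel) (by decide +kernel)

end

end Cfsg.Agent.Mat
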