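import Cfsg.Agent.Mat.M22E
import Cfsg.Agent.Mat.Fr16b
import Cfsg.Agent.Mat.Fin2
import Cfsg.Agent.Mat.Data22

/-! The identification of `M22`. -/

set_option autoImplicit false
set_option linter.unusedSectionVars false
set_option maxRecDepth 100000

namespace Cfsg.Agent.Mat

open Subgroup MulAction Cfsg.Agent.M11 Cfsg.Agent.Local
open scoped Pointwise

variable {G : Type*} [Group G] [Finite G]

/-- The normalizer of the group of order 16. -/
abbrev NN (x u : G) : Subgroup G := normalizer ((VV x ⊔ VV u : Subgroup G) : Set G)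

/-- The intersection of the two normalizers. -/
def Sg (x u q : G) : Subgroup G := NN x u ⊓ MulAut.conj q • NN x u

theorem mem_Sg {x u q g : G} : g ∈ Sg x u q ↔ g ∈ NN x u ∧ q⁻¹ * g * q ∈ NN x u :=
  mem_inf.trans (and_congr_right' mem_conj_smul_iff)

/-- The configuration with the element swapping the two groups of order 16. -/
structure Cq (S : Sylow 3 G) (x u c v q : G) : Prop extends Cf S x u c v where
  qS : q • S = S
  qx : q * x * q⁻¹ = x * u⁻¹
  qu : q * u * q⁻¹ = (x * u)⁻¹ ∧ q * c * q⁻¹ = c⁻¹ ∧ q * q = c * c ∨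
      q * u * q⁻¹ = x * u ∧ q * c * q⁻¹ = c ∧ q * q = c

namespace N22

variable (h : N22 G) {S : Sylow 3 G} {x u c v q : G} (k : Cq S x u c v q)
include h k

theorem qq_mem : q * q ∈ NN x u := by
  rcases k.qu with ⟨-, -, e⟩ | ⟨-, -, e⟩ <;> rw [e]
  exacts [mul_mem (h.c_mem k.toCf) (h.c_mem k.toCf), h.c_mem k.toCf]

theorem qc : q⁻¹ * c * q = c ∨ q⁻¹ * c * q = c⁻¹ := by
  rcases k.qu with ⟨-, e, -⟩ | ⟨-, e, -⟩
  · exact .inr (by nth_rw 1 [← inv_inv c, ← e]; group)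
  · exact .inl (by nth_rw 1 [← e]; group)

theorem S_le_Sg : ↑S ≤ Sg x u q := fun p hp => mem_Sg.mpr ⟨h.S_le k.toCf hp, h.S_le k.toCf (by
  have := conj_mem_syl (inv_smul_eq_iff.mpr k.qS.symm) hp
  rwa [inv_inv] at this)⟩

theorem c_mem_Sg : c ∈ Sg x u q := mem_Sg.mpr ⟨h.c_mem k.toCf, by
  rcases h.qc k with e | e <;> rw [e]
  exacts [h.c_mem k.toCf, inv_mem (h.c_mem k.toCf)]⟩

theorem conj_Sg {g : G} (hg : g ∈ Sg x u q) : q * g * q⁻¹ ∈ Sg x u q := mem_Sg.mpr ⟨by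
  convert mul_mem (mul_mem (h.qq_mem k) (mem_Sg.mp hg).2) (inv_mem (h.qq_mem k)) using 1
  group, by simpa [mul_assoc] using (mem_Sg.mp hg).1⟩

theorem eq_one_Sg {g : G} (hg : g ∈ Sg x u q) (hU : g ∈ VV x ⊔ VV u) : g = 1 := by
  obtain ⟨p, hp, rfl⟩ := h.exists_PP k.toCf hU
  by_contra h1
  have h2 := k.fr.irr (le_normalizer (h.S_le_Sg k k.b.hx)) (le_normalizer (h.c_mem_Sg k)) hp
    (fun e => h1 (e ▸ PP_zero)) hg
  have h3 : MulAut.conj q • (VV x ⊔ VV u) = VV (x * u⁻¹) ⊔ VV (x * u) := by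
    rw [smul_sup, conj_smul_VV, conj_smul_VV, k.qx]
    rcases k.qu with ⟨e, -⟩ | ⟨e, -⟩ <;> simp only [e, VV_inv]
  have h4 : ∀ K ≤ Sg x u q, K ≤ normalizer ((VV (x * u⁻¹) ⊔ VV (x * u) : Subgroup G) : Set G) := fun K hK => by
    rw [← h3, normalizer_conj_smul]
    exact hK.trans inf_le_right
  have h5 := IsPGroup.of_card (p := 2) (n := 4) (h.card_U' k.toCf)
  have h6 := card_le_of_le (le_sup_left : VV x ⊔ VV u ≤ VV x ⊔ VV u ⊔ (VV (x * u⁻¹) ⊔ VV (x * u)))
  rw [h.card_U' k.toCf] at h6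
  exact h.not_all k.b (h5.to_sup_of_normal_right' (h3 ▸ h5.map _) (h4 _ fun a ha => by
      obtain ⟨p, -, rfl⟩ := h.exists_PP k.toCf ha
      exact h2 p)) (le_normalizer_sup (h.S_le k.toCf) (h4 _ (h.S_le_Sg k))) (by omega)
    (le_sup_left.trans le_sup_left) (le_sup_right.trans le_sup_left) (le_sup_right.trans le_sup_right)
    (le_sup_left.trans le_sup_right)

theorem eq_one_Sg' {g : G} (hg : g ∈ Sg x u q) (hc : ∀ p < 16, Commute g (PP c v p)) : g = 1 :=
  h.eq_one_Sg k hg (h.cent_U k.toCf hc)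

theorem ord_c : orderOf c = 4 := by
  refine orderOf_eq_prime_pow (p := 2) (n := 1) (fun e => ?_) k.fr.c4
  have := (h.inv_t k.b k.cS k.fr.cx k.fr.cu).1
  rw [← pow_two, show c ^ 2 = 1 from e, orderOf_one] at this
  omega

theorem card_Sg : Nat.card (Sg x u q) = 360 := by
  have h1 := card_inf_mul_relIndex (MulAut.conj q • NN x u) (NN x u)
  have h2 := relIndex_le_of_le_right (H := MulAut.conj q • NN x u) (le_top : NN x u ≤ ⊤)
    (by rw [relIndex_top_right]; exact index_ne_zero_of_finite)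
  have h3 := (MulAut.conj q • NN x u).card_mul_index
  rw [card_conj_smul, h.card_N k.toCf, h.card] at h3
  rw [relIndex_top_right, show index _ = 77 by omega] at h2
  rw [inf_comm, h.card_N k.toCf] at h1
  change Nat.card (Sg x u q) * _ = _ at h1
  have h0 : Sg x u q ≤ NN x u := inf_le_left
  have h4 := card_dvd_of_le (sup_le le_normalizer h0)
  rw [card_sup_of_disjoint h0 (disjoint_def.mpr fun h1 h2 => h.eq_one_Sg k h2 h1),
    h.card_U' k.toCf, h.card_N k.toCf] at h4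
  have h5 : 36 ∣ Nat.card ↥(normalizer ((S : Subgroup G) : Set G) ⊓ Sg x u q) :=
    Nat.Coprime.mul_dvd_of_dvd_of_dvd (m := 9) (n := 4) (by decide)
      (h.card_syl S ▸ card_dvd_of_le (le_inf le_normalizer (h.S_le_Sg k)))
      (h.ord_c k ▸ orderOf_dvd_natCard _ (mem_inf.mpr ⟨Sylow.smul_eq_iff_mem_normalizer.mp k.cS, h.c_mem_Sg k⟩))
  have h6 : Nat.card (Sg x u q) ≠ 180 := fun e => not_180 (h.S_le_Sg k) e h5 (by
    have h6 := card_inf_centralizer_mul (normalizer ((S : Subgroup G) : Set G) ⊓ Sg x u q) x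
    have h7 := card_le_of_le (show normalizer ((S : Subgroup G) : Set G) ⊓ Sg x u q ⊓ centralizer {x} ≤ S from
      fun g hg => h.mem_syl k.b.hx k.b.h1 (Sylow.smul_eq_iff_mem_normalizer.mpr (mem_inf.mp (mem_inf.mp hg).1).1)
        (mem_centralizer_singleton_iff.mp (mem_inf.mp hg).2))
    have h8 := Set.ncard_le_ncard (t := (S : Subgroup G)) (s := {w | ∃ r ∈ normalizer ((S : Subgroup G) : Set G) ⊓
      Sg x u q, r * x * r⁻¹ = w}) (by
        rintro _ ⟨r, hr, rfl⟩; exact conj_mem_of_mem_normalizer (mem_inf.mp hr).1 k.b.hx)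
    rw [ncard_coe, h.card_syl] at h8
    rw [h.card_syl] at h7
    nlinarith [Nat.mul_le_mul h7 h8])
  obtain ⟨m, hm⟩ := h5.trans (card_dvd_of_le inf_le_right)
  rw [hm] at h1 h4 h6 ⊢
  have h7 := Nat.le_of_dvd (by decide) h4
  have h8 : 3 ≤ m := by by_contra; nlinarith
  have h9 : m ≤ 10 := by omega
  interval_cases m <;> omega

theorem not_act {g : G} (hg : g ∈ Sg x u q) {m : CP 16} (ha : Act c v m g) (h1 : m * m = 1)
    (h2 : m * u16 * m⁻¹ * u16⁻¹ = 1) : ∀ p < 16, lk m.1 p = p := fun p hp => by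
  have hu := h.S_le_Sg k k.b.hu
  have h3 := h.eq_one_Sg' k (mul_mem hg hg) fun _ => (h1 ▸ ha.mul ha).comm
  have h4 := h.eq_one_Sg' k (mul_mem (mul_mem (mul_mem hg hu) (inv_mem hg)) (inv_mem hu))
    fun _ => (h2 ▸ ((ha.mul k.fr.act_u).mul ha.inv).mul k.fr.act_u.inv).comm
  obtain rfl := h.eq_one_Sg k hg (mem_sup_right ((h.mem_VV k.b.swap.ox).mpr ⟨(pow_two g).trans h3,
    mul_inv_eq_iff_eq_mul.mp (mul_inv_eq_one.mp h4)⟩))
  exact k.fr.PP_inj (lk_lt m hp) hp (by simpa using (ha p hp).symm)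

theorem act_s {g : G} (hg : g ∈ Sg x u q) (hc : g * c * g⁻¹ = c ∨ g * c * g⁻¹ = c⁻¹) :
    ∃ j < 4, g * c ^ j = 1 ∨ Act c v s16 (g * c ^ j) := by
  obtain ⟨p, hp, e⟩ := h.exists_PP k.toCf (conj_mem_of_mem_normalizer (mem_Sg.mp hg).1 (mem_sup_left k.hv))
  obtain ⟨j, hj, m, hm, ha⟩ := k.fr.cases hp e hc
  have h1 := mul_mem hg (pow_mem (h.c_mem_Sg k) j)
  refine ⟨j, hj, ?_⟩
  simp only [List.mem_cons, List.not_mem_nil, or_false] at hm
  rcases hm with rfl | rfl | rfl | rfl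
  · exact .inl (h.eq_one_Sg' k h1 fun _ => ha.comm)
  · exact .inr ha
  · have hx := h.S_le_Sg k k.b.hx
    have hu := h.S_le_Sg k k.b.hu
    exact absurd (h.not_act k (mul_mem (mul_mem (mul_mem (mul_mem (mul_mem (inv_mem (h.c_mem_Sg k)) h1) hx) h1)
      (inv_mem hu)) h1) (((((k.fr.act_c.inv.mul ha).mul k.fr.act_x).mul ha).mul k.fr.act_u.inv).mul ha)
      (by decide +kernel) (by decide +kernel)) (by decide +kernel)
  · exact absurd (h.not_act k h1 ha (by decide +kernel) (by decide +kernel)) (by decide +kernel)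

theorem exists_s : ∃ s ∈ Sg x u q, Act c v s16 s := by
  obtain ⟨g, hg, h1, h2⟩ := exists_norm_four (h.ord_c k) (h.c_mem_Sg k) (by rw [h.card_Sg k]; decide)
  obtain ⟨j, -, e | e⟩ := h.act_s k hg h2
  · exact absurd (eq_inv_of_mul_eq_one_left e ▸ inv_mem (pow_mem (mem_zpowers c) j)) h1
  · exact ⟨_, mul_mem hg (pow_mem (h.c_mem_Sg k) j), e⟩

variable {s : G} {f : cl n8 →* G} (hs : s ∈ Sg x u q) (ha : Act c v s16 s) (hi : Function.Injective f)
  (hf : ∀ w, f (el n8 w) = ev (g8 x u c v s) w)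
include hs ha hi hf

theorem conj_s : ∃ j < 4, q * s * q⁻¹ = s * c⁻¹ ^ j := by
  have h1 := inv_c8 hf
  have h2 : q * s * q⁻¹ * c * (q * s * q⁻¹)⁻¹ = c⁻¹ := by
    calc _ = q * (s * (q⁻¹ * c * q) * s⁻¹) * q⁻¹ := by group
      _ = q * (q⁻¹ * c * q)⁻¹ * q⁻¹ := by
        rcases h.qc k with e | e <;> rw [e]
        · rw [h1]
        · rw [← conj_inv, h1]
      _ = _ := by group
  obtain ⟨j, hj, e | e⟩ := h.act_s k (h.conj_Sg k hs) (.inr h2)
  · rw [eq_inv_of_mul_eq_one_left e, ((Commute.refl c).pow_left j).inv_left.eq, mul_inv_cancel_right] at h2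
    have := orderOf_dvd_of_pow_eq_one ((pow_two c).trans (mul_eq_one_iff_eq_inv.mpr h2))
    rw [h.ord_c k] at this
    exact absurd this (by decide)
  · refine ⟨j, hj, ?_⟩
    rw [inv_pow, ← mul_inv_eq_iff_eq_mul.mpr (inv_mul_eq_one.mp (h.eq_one_Sg' k
      (mul_mem (inv_mem hs) (mul_mem (h.conj_Sg k hs) (pow_mem (h.c_mem_Sg k) j)))
      fun _ => (inv_mul_cancel s16 ▸ ha.inv.mul e).comm))]

theorem f_mem (m : cl n8) : f m ∈ NN x u := by
  obtain ⟨w, rfl⟩ := el_surj m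
  have hx := h.S_le k.toCf k.b.hx
  have hu := h.S_le k.toCf k.b.hu
  have hc := h.c_mem k.toCf
  rw [hf]
  refine ev_mem (fun g hg => ?_) w
  simp only [g8, List.mem_cons, List.not_mem_nil, or_false] at hg
  rcases hg with rfl | rfl | rfl | rfl | rfl | rfl | rfl | rfl
  exacts [hx, inv_mem hx, hu, inv_mem hu, hc, inv_mem hc, (mem_Sg.mp hs).1, le_normalizer (h.PP_mem_U k.toCf 5)]

theorem case_q : q * u * q⁻¹ = (x * u)⁻¹ ∧ q * c * q⁻¹ = c⁻¹ ∧ q * q = c * c := k.qu.resolve_right fun ⟨e1, e2, e3⟩ => by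
  obtain ⟨j, hj, e⟩ := h.conj_s k hs ha hi hf
  obtain ⟨m, h1, h2⟩ := conj_s8' hi hf hj k.qx e1 e2 e e3
  have h3 := h.spec (x * s * q)
  rw [← h1, orderOf_pow] at h2
  have h4 : (x * s * q) ^ 5 = 1 := by
    rw [← pow_orderOf_eq_one (x * s * q)]
    generalize orderOf (x * s * q) = n at h2 h3
    rw [(by decide : ∀ n ∈ ({1, 2, 3, 4, 5, 6, 7, 8, 11} : Finset ℕ), n / n.gcd 2 = 5 → n = 5) n h3 h2]
  have h5 := pow_mem (h.f_mem k hs ha hi hf m) 3
  rw [← h1, ← pow_mul, pow_succ, h4, one_mul,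
    mul_mem_cancel_left (mul_mem (h.S_le k.toCf k.b.hx) (mem_Sg.mp hs).1)] at h5
  have h6 := le_normalizer (mem_sup_left k.hv : v ∈ VV x ⊔ VV u)
  exact k.fr.v1 (h.eq_one_Sg k (mem_Sg.mpr ⟨h6, mul_mem (mul_mem (inv_mem h5) h6) h5⟩) (mem_sup_left k.hv))

theorem sq_z : PP c v 15 * (q * PP c v 15 * q⁻¹) * (PP c v 15 * (q * PP c v 15 * q⁻¹)) = c * c := by
  have hle : cl nH ≤ cl n8 := cl_le fun m hm => by
    obtain ⟨w, -, rfl⟩ := List.mem_map.mp (nH_words ▸ hm)
    exact ev_mem_cl n8 w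
  have h1 : f (el n8 [7]) = PP c v 5 := by simp [hf, ev, g8]
  have h2 : orderOf (PP c v 5) = 2 := orderOf_eq_prime ((pow_two _).trans (k.fr.PP_sq 5))
    fun e => absurd (k.fr.PP_eq_one (by decide) e) (by decide)
  have h3 : (f.comp (inclusion hle)).range = centralizer {PP c v 5} := eq_of_le_of_card_ge (by
      rintro _ ⟨m, rfl⟩
      rw [mem_centralizer_singleton_iff, ← h1, MonoidHom.comp_apply, ← map_mul, ← map_mul]
      exact congrArg f (Subtype.ext ((by decide +kernel : ∀ m : cl nH, m.1 * ev n8 [7] = ev n8 [7] * m.1) m)))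
    (by rw [← cc, h.cc2 h2, ← Nat.card_congr (MonoidHom.ofInjective (f := f.comp (inclusion hle))
      (hi.comp (inclusion_injective hle))).toEquiv, card_nH])
  obtain ⟨g, e⟩ := isConj_iff.mp (h.conj2 (h.inv_t k.b k.cS k.fr.cx k.fr.cu).1 h2)
  have h4 : ∀ y, Commute y c → ∃ m : cl nH, f (inclusion hle m) = g * y * g⁻¹ := fun y hy =>
    h3.ge (mem_centralizer_singleton_iff.mpr (e ▸ commute_conj g (hy.mul_right hy)))
  have h5 : Commute (PP c v 15) c :=
    (mul_inv_eq_iff_eq_mul.mp ((k.fr.act_c 15 (by decide)).trans (congrArg _ (by decide +kernel)))).symm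
  have h6 : Commute (q * PP c v 15 * q⁻¹) c := by
    have := commute_conj q h5
    rwa [(h.case_q k hs ha hi hf).2.1, Commute.inv_right_iff] at this
  obtain ⟨m1, e1⟩ := h4 c (Commute.refl c)
  obtain ⟨m2, e2⟩ := h4 _ h5
  obtain ⟨m3, e3⟩ := h4 _ h6
  have k1 : ∀ {a b : cl n8}, f a = f b → a.1 = b.1 := fun e => congrArg Subtype.val (hi e)
  rcases sq_nH (c := m1) (g := m2) (h := m3)
    (k1 (a := inclusion hle m1 * inclusion hle m1) (b := el n8 [7]) (by rw [map_mul, e1, conj_mul, e, h1]) |>.trans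
      (by decide +kernel))
    (k1 (a := inclusion hle m2 * inclusion hle m2) (b := 1) (by
      rw [map_mul, e2, conj_mul, k.fr.PP_sq, map_one]; group))
    (k1 (a := inclusion hle m3 * inclusion hle m3) (b := 1) (by
      rw [map_mul, e3, conj_mul, conj_mul, k.fr.PP_sq, map_one]; group))
    (k1 (a := inclusion hle m2 * inclusion hle m1) (b := inclusion hle m1 * inclusion hle m2) (by
      rw [map_mul, map_mul, e1, e2, (commute_conj g h5).eq]))
    (k1 (a := inclusion hle m3 * inclusion hle m1) (b := inclusion hle m1 * inclusion hle m3) (by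
      rw [map_mul, map_mul, e1, e3, (commute_conj g h6).eq])) with e4 | e4
  · have h7 := congrArg f (Subtype.ext e4 : inclusion hle m2 * inclusion hle m3 * (inclusion hle m2 * inclusion hle m3)
      = 1)
    rw [map_mul, map_mul, e2, e3, conj_mul, conj_mul, map_one, conj_eq_one_iff] at h7
    have h8 := comm_of_sq ((pow_two _).trans (k.fr.PP_sq 15)) (by rw [conj_pow, pow_two, k.fr.PP_sq]; group)
      ((pow_two _).trans h7)
    have h9 := (k.fr.act_x.mul ha) 1 (by decide)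
    rw [PP_one, show lk (x16 * s16).1 1 = 15 by decide +kernel] at h9
    have h10 := mul_mem (h.S_le k.toCf k.b.hx) (mem_Sg.mp hs).1
    have h11 := h.cent_v k.toCf (mem_centralizer_singleton_iff.mpr (show Commute ((x * s)⁻¹ *
      (q * PP c v 15 * q⁻¹) * (x * s)⁻¹⁻¹) v by
        convert commute_conj (x * s)⁻¹ h8.symm using 1
        rw [← h9]; group))
    rw [mul_mem_cancel_right (inv_mem (inv_mem h10)), mul_mem_cancel_left (inv_mem h10)] at h11
    refine absurd (k.fr.PP_eq_one (by decide) (h.eq_one_Sg k (mem_Sg.mpr ⟨le_normalizer (h.PP_mem_U k.toCf 15), ?_⟩)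
      (h.PP_mem_U k.toCf 15))) (by decide)
    convert mul_mem (mul_mem (inv_mem (h.qq_mem k)) h11) (h.qq_mem k) using 1
    simp [mul_assoc]
  · have h7 := congrArg f (Subtype.ext (e4.trans (by decide +kernel)) :
      inclusion hle m2 * inclusion hle m3 * (inclusion hle m2 * inclusion hle m3) = el n8 [7])
    rwa [map_mul, map_mul, e2, e3, conj_mul, conj_mul, h1, ← e, mul_left_inj, mul_right_inj] at h7

theorem rels : ∀ r ∈ rels22, ev (g8 x u c v s ++ [q, q⁻¹]) r = 1 := fun w hw => by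
  obtain ⟨e1, e2, e3⟩ := h.case_q k hs ha hi hf
  obtain ⟨j, hj, e⟩ := h.conj_s k hs ha hi hf
  rcases (by decide +kernel : ∀ w ∈ rels22, (w.all (Nat.blt · 8) = true ∧ ev n8 w = 1) ∨ w = [8, 9] ∨ w = [9, 8] ∨
    w = [8, 0, 9, 2, 1] ∨ w = [8, 2, 9, 2, 0] ∨ w = [8, 4, 9, 4] ∨ w = [8, 6, 9, 6, 4] ∨ w = [8, 8, 5, 5] ∨
    w = [7, 4, 7, 5, 8, 7, 4, 7, 5, 9, 7, 4, 7, 5, 8, 7, 4, 7, 5, 9, 4, 4]) w hw
    with ⟨e4, e5⟩ | rfl | rfl | rfl | rfl | rfl | rfl | rfl | rfl
  · rw [← ev_take e4, List.take_left' (show (g8 x u c v s).length = 8 from rfl), rel8 hf e5]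
  all_goals simp only [ev, g8, List.cons_append, List.nil_append, List.getD_cons_succ, List.getD_cons_zero, mul_one,
    ← mul_assoc]
  · exact mul_inv_cancel q
  · exact inv_mul_cancel q
  · rw [k.qx]; group
  · rw [e1, (k.b.comm k.b.hx k.b.hu).eq]; group
  · rw [e2]; group
  · exact conj_s8 hi hf hj k.qx e1 e2 e
  · rw [e3]; group
  · have h1 : PP c v 5 * c * PP c v 5 * c⁻¹ = PP c v 15 := by
      rw [mul_assoc, mul_assoc, ← mul_assoc c, k.fr.act_c 5 (by decide), ← k.fr.PP_xor]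
      exact congrArg _ (by decide +kernel)
    have h2 := h.sq_z k hs ha hi hf
    calc _ = PP c v 15 * (q * PP c v 15 * q⁻¹) * (PP c v 15 * (q * PP c v 15 * q⁻¹)) * c * c := by
          rw [← h1]; simp only [mul_assoc]
      _ = 1 := by rw [h2, ← k.fr.c4]; simp only [pow_succ, pow_zero, one_mul]

end N22

theorem N22.nonempty_equiv (h : N22 G) : Nonempty (G ≃* cl ms22) := by
  obtain ⟨S, x, u, c, v, k⟩ := h.exists_cf
  obtain ⟨q, h1, h2, h3⟩ := h.exists_q k
  have k' : Cq S x u c v q := ⟨k, h1, h2, h3⟩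
  obtain ⟨s, hs, ha⟩ := h.exists_s k'
  obtain ⟨f, hi, hf⟩ := k.fr.exists_hom8 (h.PP_mem_U k) (inf_le_left : Sg x u q ≤ _) (fun _ => h.eq_one_Sg k')
    (fun _ => h.eq_one_Sg' k') (h.S_le_Sg k' k.b.hx) (h.c_mem_Sg k') hs ha
  obtain ⟨F, hF⟩ := exists_hom_words2 (ms := ms22) (gs := g8 x u c v s ++ [q, q⁻¹]) rfl pres22
    (by rw [card_cl22]) rels22_ms22 (h.rels k' hs ha hi hf) fun g h4 h5 =>
      h.eq_one_of_comm k.b.hx k.b.h1 k.b.hu k.b.h2 ((pow_two g).trans h4) (h5 x (by simp [g8])) (h5 u (by simp [g8]))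
  have h4 := card_ker_dvd F (H := f.range) (by
    rw [range_eq_cl hf, range_eq_cl hF]
    exact cl_le fun y hy => mem_cl (List.mem_append_left _ hy)) (a := 5760) (b := 77)
    (le_antisymm (h.card_N k ▸ card_le_of_le (by rintro _ ⟨m, rfl⟩; exact h.f_mem k' hs ha hi hf m))
      (card_n8.trans (Nat.card_congr (MonoidHom.ofInjective hi).toEquiv).le)) card_cl22 (by decide)
  have h5 := eq_bot_of_spec (n22_of_nse card_cl22 nse22).spec h4 (by decide) fun p hp h5 => by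
    rw [card_cl22]
    rcases (Nat.Prime.dvd_mul hp (m := 7) (n := 11)).mp h5 with e | e <;>
      obtain rfl := (Nat.prime_dvd_prime_iff_eq hp (by decide)).mp e <;>
      refine ⟨by decide, by decide, fun q hq => ?_⟩ <;>
      simp only [Finset.mem_insert, Finset.mem_singleton] at hq <;> omega
  exact ⟨(MulEquiv.ofBijective F ((Nat.bijective_iff_injective_and_card F).mpr
    ⟨F.ker_eq_bot_iff.mp h5, card_cl22.trans h.card.symm⟩)).symm⟩

end Cfsg.Agent.Mat
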