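import Cfsg.Agent.Mat.Model
import Cfsg.Agent.M11.Golay

/-! The Mathieu groups as groups of coded permutations of 24 points. -/

set_option autoImplicit false

namespace Cfsg.Agent.Mat

open Subgroup MulAction Cfsg.Agent.M11
open scoped Pointwise

instance fact24 : Fact (24 ≤ 256) := ⟨by decide⟩

/-- The numbering of the points. -/
def eG : GolayPt ≃ Fin 24 :=
  ⟨fun x => ⟨idx x, by revert x; decide +kernel⟩, fun i => pt i, by decide +kernel, by decide +kernel⟩

/-- Permutations of the points as coded permutations. -/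
noncomputable def eM : Equiv.Perm GolayPt ≃* CP 24 := eG.permCongrHom.trans CP.equiv

theorem idx_eM (x : CP 24) (p : GolayPt) : idx (eM.symm x p) = lk x.1 (idx p) := by
  have h := CP.smul_val x (eG p)
  obtain ⟨σ, rfl⟩ := eM.surjective x
  rw [MulEquiv.symm_apply_apply]
  refine Eq.trans ?_ h
  show _ = ((CP.equiv.symm (CP.equiv (eG.permCongrHom σ))) (eG p)).1
  rw [MulEquiv.symm_apply_apply]
  show _ = (eG (σ (eG.symm (eG p)))).1
  rw [Equiv.symm_apply_apply]
  rfl

theorem idx_inj {p q : GolayPt} (h : idx p = idx q) : p = q := eG.injective (Fin.ext h)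

/-- Image of a mask. -/
def imgC (ci b : ℕ) : ℕ :=
  @Nat.rec (fun _ => ℕ) 0 (fun i acc => Nat.add acc (Nat.shiftLeft (Nat.land (Nat.shiftRight b (lk ci i)) 1) i)) 24

/-- Test for membership in `M24`. -/
def in24 (c : ℕ) : Bool :=
  allL (fun b => Nat.beq (red bas (imgC (cinv 24 c) b)) 0 &&
    allN (fun i => (imgC (cinv 24 c) b).testBit i == b.testBit (lk (cinv 24 c) i)) 24) (bas.map Prod.fst)

theorem in24_spec {x : CP 24} (h : in24 x.1 = true) : eM.symm x ∈ M24 := by
  refine mem_M24 (imgC (cinv 24 x.1)) fun b hb => ?_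
  have h1 := Bool.and_eq_true_iff.mp (allL_iff.mp h b hb)
  refine ⟨Nat.eq_of_beq_eq_true h1.1, fun p => ?_⟩
  have h2 := allN_spec h1.2 (idx p) (eG p).2
  have h3 : idx ((eM.symm x).symm p) = lk (cinv 24 x.1) (idx p) := by
    rw [← Equiv.Perm.inv_def, ← map_inv, idx_eM]; rfl
  unfold wOf
  rw [h3, beq_iff_eq.mp h2]

/-- The coded `M12`. -/
noncomputable def X12 : Subgroup (CP 24) := Spor.M12.map eM.toMonoidHom

/-- Test for membership in `M12`. -/
def in12 (c : ℕ) : Bool := in24 c && allN (fun i => (340831).testBit (lk c i) == (340831).testBit i) 24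

theorem in12_spec (x : CP 24) (h : in12 x.1 = true) : x ∈ X12 := by
  rw [in12, Bool.and_eq_true] at h
  refine mem_map_equiv.mpr (mem_inf.mpr ⟨in24_spec h.1, mem_stabilizer_iff.mpr (Finset.ext fun p => ?_)⟩)
  obtain ⟨q, rfl⟩ := (eM.symm x).surjective p
  refine (Finset.smul_mem_smul_finset_iff (eM.symm x)).trans ?_
  rw [mem_dodecad, mem_dodecad, idx_eM, beq_iff_eq.mp (allN_spec h.2 (idx q) (eG q).2)]

theorem card_le_step {G X : Type*} [Group G] [MulAction G X] {H : Subgroup G} {b : X} (l : List X)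
    (h : ∀ g ∈ H, g • b ∈ l) : Nat.card H ≤ l.length * Nat.card ↥(H ⊓ stabilizer G b) := by
  classical
  rw [← Pres.card_inf_stabilizer_mul H b, mul_comm]
  refine Nat.mul_le_mul_right _ ((Set.ncard_le_ncard (t := l.toFinset) ?_).trans ?_)
  · rintro _ ⟨g, hg, rfl⟩
    exact List.mem_toFinset.mpr (h g hg)
  · rw [Set.ncard_coe_finset]
    exact l.toFinset_card_le

theorem card_le_chain {X : Type*} [DecidableEq X] {H : Subgroup (Equiv.Perm X)} (bs l : List X)
    (hb : ∀ b ∈ bs, b ∈ l) (hn : bs.Nodup) (h : ∀ g ∈ H, ∀ p ∈ l, g p ∈ l) {m : ℕ}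
    (hm : ∀ K ≤ H, (∀ g ∈ K, ∀ b ∈ bs, g b = b) → Nat.card K ≤ m) :
    Nat.card H ≤ l.length.descFactorial bs.length * m := by
  induction bs generalizing l H with
  | nil => simpa using hm H le_rfl (by simp)
  | cons b bs ih =>
    have h1 := hb b List.mem_cons_self
    rw [List.nodup_cons] at hn
    have h2 := ih (H := H ⊓ stabilizer _ b) (l.filter (· ≠ b)) (fun c hc => List.mem_filter.mpr
      ⟨hb c (List.mem_cons_of_mem _ hc), by simpa using fun e : c = b => hn.1 (e ▸ hc)⟩) hn.2
      (fun g hg p hp => List.mem_filter.mpr ⟨h g (mem_inf.mp hg).1 p (List.mem_filter.mp hp).1, by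
        simpa using fun e : g p = b => by
          simpa [g.injective (e.trans (mem_inf.mp hg).2.symm)] using (List.mem_filter.mp hp).2⟩)
      fun K hK hK' => hm K (hK.trans inf_le_left) fun g hg =>
        List.forall_mem_cons.mpr ⟨(mem_inf.mp (hK hg)).2, hK' g hg⟩
    have h3 : (l.filter (· ≠ b)).length < l.length := List.length_filter_lt_length_iff_exists.mpr ⟨b, h1, by simp⟩
    obtain ⟨k, hk⟩ : ∃ k, l.length = k + 1 := ⟨l.length - 1, by omega⟩
    refine (card_le_step l fun g hg => h g hg b h1).trans ?_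
    rw [List.length_cons, hk, Nat.succ_descFactorial_succ, mul_assoc]
    exact Nat.mul_le_mul_left _ (h2.trans (Nat.mul_le_mul_right _ (Nat.descFactorial_le _ (by omega))))

theorem card_X12_le : Nat.card X12 ≤ 95040 := by
  have h1 : ∀ p, p ∈ [0, 1, 2, 3, 4, 6, 8, 9, 12, 13, 16, 18].map pt ↔ p ∈ Spor.squareDodecad := by decide +kernel
  rw [X12, ← Nat.card_congr (Spor.M12.equivMapOfInjective eM.toMonoidHom eM.injective).toEquiv]
  refine (card_le_chain ([0, 1, 2, 4, 8].map pt) ([0, 1, 2, 3, 4, 6, 8, 9, 12, 13, 16, 18].map pt)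
    (by decide +kernel) (by decide +kernel) (fun g hg p hp => ?_) (m := 1) fun K hK hK' => ?_).trans
    (by decide +kernel)
  · rw [h1] at hp ⊢
    rw [← mem_stabilizer_iff.mp (mem_inf.mp hg).2]
    exact Finset.smul_mem_smul_finset hp
  · rw [(eq_bot_iff_forall K).mpr fun g hg => base_M12 (hK hg) (hK' g hg), card_bot]

end Cfsg.Agent.Mat
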