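import Cfsg.Agent.Mat.Data8

/-! Facts about the small models. -/

set_option autoImplicit false
set_option maxRecDepth 100000

namespace Cfsg.Agent.Mat

instance (priority := high) decAll7 (p : cl ms7 → Prop) [DecidablePred p] : Decidable (∀ u, p u) := enum7.decAll p

instance (priority := high) decEx7 (p : cl ms7 → Prop) [DecidablePred p] : Decidable (∃ u, p u) := enum7.decEx p

instance (priority := high) decAll8 (p : cl ms8 → Prop) [DecidablePred p] : Decidable (∀ u, p u) := enum8.decAll p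

instance (priority := high) decEx8 (p : cl ms8 → Prop) [DecidablePred p] : Decidable (∃ u, p u) := enum8.decEx p

theorem nodup7 : enum7.L.Nodup := by decide +kernel

theorem card7 : Nat.card (cl ms7) = 48 := (enum7.card_eq nodup7).trans (by decide +kernel)

theorem card8 : Nat.card (cl ms8) = 192 :=
  le_antisymm (presHol ms8 rfl relsHol_ms8) card_cl8

/-- The central involution of `GL₂(3)`. -/
def z7 : cl ms7 := el ms7 [0, 0]

/-- Membership in the quaternion subgroup. -/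
def isQ (u : cl ms7) : Prop := u * u = z7 ∨ u = 1 ∨ u = z7

instance decIsQ : DecidablePred isQ := fun u => inferInstanceAs (Decidable (u * u = z7 ∨ u = 1 ∨ u = z7))

theorem z7_comm : ∀ u : cl ms7, u * z7 = z7 * u := by decide +kernel

theorem isQ_or : ∀ u : cl ms7, isQ u ∨ ∃ c : cl ms7, ((u * (c * u * c⁻¹)) ^ 2) ^ 3 = 1 ∧ (u * (c * u * c⁻¹)) ^ 2 ≠ 1 := by
  decide +kernel

theorem ncard_isQ : {u | isQ u}.ncard = 8 := (enum7.ncard_eq nodup7 _).trans (by decide +kernel)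

theorem ncard_three7 : {u : cl ms7 | u ^ 3 = 1 ∧ u ≠ 1}.ncard = 8 :=
  (enum7.ncard_eq nodup7 _).trans (by decide +kernel)

theorem ncard_i7 : {u : cl ms7 | u * u = z7}.ncard = 6 := (enum7.ncard_eq nodup7 _).trans (by decide +kernel)

theorem ncard_j7 : {u : cl ms7 | u * u = z7 ∧ el ms7 [0] * u ≠ u * el ms7 [0]}.ncard = 4 :=
  (enum7.ncard_eq nodup7 _).trans (by decide +kernel)

theorem conj_i7 : ∀ u : cl ms7, u * u = z7 → ∃ l : cl ms7, l * el ms7 [0] * l⁻¹ = u := by decide +kernel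

theorem conj_j7 : ∀ u : cl ms7, u * u = z7 → el ms7 [0] * u ≠ u * el ms7 [0] →
    ∃ l : cl ms7, l * el ms7 [0] = el ms7 [0] * l ∧ l * el ms7 [2] * l⁻¹ = u := by decide +kernel

theorem isQ_words : ∀ u : cl ms7, isQ u → ∃ m < 4, ∃ n < 2, u = el ms7 [0] ^ m * el ms7 [2] ^ n := by
  decide +kernel

theorem cent_i7 : ∀ u : cl ms7, u * el ms7 [0] = el ms7 [0] * u → ∃ m < 8, u = el ms7 [5, 0, 6] ^ m := by
  decide +kernel

/-- The central involution of the holomorph. -/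
def z8 : cl ms8 := el ms8 [0, 0]

/-- The reflection. -/
def t8 : cl ms8 := el ms8 [6]

/-- The six involutions with centralizer of order 32. -/
def isR (u : cl ms8) : Prop := u ∈ [[0, 8], [2, 4, 8, 5], [5, 0, 7, 4], [5, 0, 8, 4], [0, 7], [2, 4, 7, 5]].map (el ms8)

instance decIsR : DecidablePred isR := fun u => inferInstanceAs (Decidable (u ∈ _))

/-- The conjugates of the reflection. -/
def isT (u : cl ms8) : Prop := ∃ c : cl ms8, c * t8 * c⁻¹ = u

instance decIsT : DecidablePred isT := fun u => inferInstanceAs (Decidable (∃ c : cl ms8, c * t8 * c⁻¹ = u))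

theorem z8_comm : ∀ u : cl ms8, u * z8 = z8 * u := by decide +kernel

theorem inv8 : ∀ u : cl ms8, u * u = 1 → u = 1 ∨ u = z8 ∨ isR u ∨ isT u ∨
    ∃ c : cl ms8, c * el ms8 [2, 7] * c⁻¹ = u := by decide +kernel

theorem isR_cent : ∀ u : cl ms8, isR u → u * u = 1 ∧ u ≠ 1 ∧ u ≠ z8 ∧ ∃ c : cl ms8, c * u = u * c ∧ c * c ≠ 1 := by
  decide +kernel

theorem nodup8 : enum8.L.Nodup := by decide +kernel

theorem ncard_isR : {c : cl ms8 | c * el ms8 [0, 7] = el ms8 [0, 7] * c}.ncard = 32 :=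
  (enum8.ncard_eq nodup8 _).trans (by decide +kernel)

theorem isR_conj : ∀ u : cl ms8, isR u → ∃ c : cl ms8, c * el ms8 [0, 7] * c⁻¹ = u := by decide +kernel

theorem cent_t8 : ∀ c : cl ms8, c * t8 = t8 * c → c * c = 1 := by decide +kernel

theorem cent_t8' : ∀ c : cl ms8, c * t8 = t8 * c → c = 1 ∨ c = z8 ∨ c = t8 ∨ c = z8 * t8 ∨ isR c ∨
    c = t8 * el ms8 [5, 0, 7, 4] ∨ c = z8 * t8 * el ms8 [5, 0, 7, 4] := by decide +kernel

theorem lemX1 : ∀ r : cl ms8, isR r → ∀ b : cl ms8, b * b = 1 → r * b ≠ b * r → isT b →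
    isR ((r * b) ^ 2) ∧ r * (r * b) ^ 2 = (r * b) ^ 2 * r := by decide +kernel

theorem lemX2 : ∀ a : cl ms8, isR a → ∀ b : cl ms8, isR b → ∀ r : cl ms8, r * r = 1 → r * a = a * r →
    r * b * r = z8 * b → ¬ (r = z8 ∨ isR r ∨ isT r) := by decide +kernel

theorem lemX3 : ∀ t : cl ms8, isT t → ∃ r : cl ms8, isR r ∧ r * t ≠ t * r ∧ ∀ y : cl ms8, y ^ 3 = 1 → y ≠ 1 →
    t * y * t⁻¹ = y⁻¹ → (y * t * y⁻¹ * (t * (r * t) ^ 2)) ^ 3 = 1 := by decide +kernel

end Cfsg.Agent.Mat
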