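import Cfsg.Agent.Mat.Data16
import Cfsg.Agent.Local.Sub

/-! Labelling of an elementary abelian group of order 16 with an action of `3² : 4`. -/

set_option autoImplicit false
set_option linter.unusedSectionVars false

namespace Cfsg.Agent.Mat

open Subgroup MulAction Cfsg.Agent.M11 Cfsg.Agent.Local

variable {G : Type*} [Group G]

/-- Products of basis elements. -/
def vv : List G → ℕ → G
  | [], _ => 1
  | g :: l, i => (if i % 2 = 1 then g else 1) * vv l (i / 2)

theorem vv_mem {l : List G} {K : Subgroup G} (h : ∀ g ∈ l, g ∈ K) (i : ℕ) : vv l i ∈ K := by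
  induction l generalizing i with
  | nil => exact one_mem K
  | cons g l ih =>
    refine mul_mem ?_ (ih (fun x hx => h x (List.mem_cons_of_mem _ hx)) _)
    split_ifs
    exacts [h g List.mem_cons_self, one_mem K]

theorem vv_zero (l : List G) : vv l 0 = 1 := by
  induction l with
  | nil => rfl
  | cons g l ih => simp [vv, ih]

theorem vv_xor {l : List G} (h1 : ∀ g ∈ l, g * g = 1) (h2 : ∀ g ∈ l, ∀ g' ∈ l, Commute g g') (i j : ℕ) :
    vv l (i ^^^ j) = vv l i * vv l j := by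
  induction l generalizing i j with
  | nil => simp [vv]
  | cons g l ih =>
    have h3 : Commute (vv l (i / 2)) g := mem_centralizer_singleton_iff.mp (vv_mem (fun x hx =>
      mem_centralizer_singleton_iff.mpr (h2 x (List.mem_cons_of_mem _ hx) g List.mem_cons_self)) _)
    rw [vv, vv, vv, Nat.xor_div_two, ih (fun x hx => h1 x (List.mem_cons_of_mem _ hx))
      fun x hx y hy => h2 x (List.mem_cons_of_mem _ hx) y (List.mem_cons_of_mem _ hy), Nat.xor_mod_two_eq, Nat.add_mod]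
    rcases Nat.mod_two_eq_zero_or_one i with e | e <;> rcases Nat.mod_two_eq_zero_or_one j with e' | e' <;>
      simp only [e, e', Nat.reduceAdd, Nat.reduceMod, if_true, if_false, zero_ne_one, one_mul]
    · rw [← mul_assoc, ← mul_assoc, h3.eq]
    · rw [mul_assoc]
    · rw [mul_assoc, ← mul_assoc (vv l _), h3.eq, ← mul_assoc, ← mul_assoc, h1 g List.mem_cons_self, one_mul]

theorem map_vv {H : Type*} [Group H] (φ : G →* H) (l : List G) (i : ℕ) : φ (vv l i) = vv (l.map φ) i := by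
  induction l generalizing i with
  | nil => exact map_one φ
  | cons g l ih => rw [List.map_cons, vv, vv, map_mul, ih, apply_ite φ, map_one]

theorem vv_lin {l : List G} (h1 : ∀ g ∈ l, g * g = 1) (h2 : ∀ g ∈ l, ∀ g' ∈ l, Commute g g') (ks : List ℕ) (i : ℕ) :
    vv (ks.map (vv l)) i = vv l (lin ks i) := by
  induction ks generalizing i with
  | nil => exact (vv_zero l).symm
  | cons k ks ih => rw [List.map_cons, vv, lin, vv_xor h1 h2, ih, apply_ite (vv l), vv_zero]

theorem ev_smul {M Y ι : Type*} [Group M] [MulAction M ι] [MulAction G Y] (P : ι → Y) {ms : List M} {gs : List G}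
    (h : List.Forall₂ (fun m g => ∀ p, g • P p = P (m • p)) ms gs) (w : List ℕ) (p : ι) :
    ev gs w • P p = P (ev ms w • p) := by
  have h1 : ∀ a p, gs.getD a 1 • P p = P (ms.getD a 1 • p) := by
    induction h with
    | nil => simp
    | cons h _ ih =>
      intro a
      cases a with
      | zero => exact h
      | succ a => exact ih a
  induction w generalizing p with
  | nil => simp [ev]
  | cons a w ih => rw [ev, ev, mul_smul, mul_smul, ← h1, ← ih]

/-- The cyclic basis. -/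
def bs (c v : G) : List G := [v, c * v * c⁻¹, c * (c * v * c⁻¹) * c⁻¹, c * (c * (c * v * c⁻¹) * c⁻¹) * c⁻¹]

/-- The labelled elements. -/
def PP (c v : G) (p : ℕ) : G := vv (bs c v) p

/-- Action by conjugation on the labelled elements. -/
def Act (c v : G) (m : CP 16) (g : G) : Prop := ∀ p < 16, g * PP c v p * g⁻¹ = PP c v (lk m.1 p)

theorem lk_lt (m : CP 16) {p : ℕ} (hp : p < 16) : lk m.1 p < 16 := CP.smul_val m ⟨p, hp⟩ ▸ (m • (⟨p, hp⟩ : Fin 16)).2

theorem lk_mul (m m' : CP 16) {p : ℕ} (hp : p < 16) : lk (m * m').1 p = lk m.1 (lk m'.1 p) := by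
  have := congrArg Fin.val (mul_smul m m' (⟨p, hp⟩ : Fin 16))
  rwa [CP.smul_val, CP.smul_val, CP.smul_val] at this

theorem lk_one {p : ℕ} (hp : p < 16) : lk (1 : CP 16).1 p = p := by
  have := congrArg Fin.val (one_smul (CP 16) (⟨p, hp⟩ : Fin 16))
  rwa [CP.smul_val] at this

section

variable {c v g g' : G} {m m' : CP 16}

theorem Act.one : Act c v 1 1 := fun p hp => by rw [lk_one hp]; simp

theorem Act.mul (h : Act c v m g) (h' : Act c v m' g') : Act c v (m * m') (g * g') := fun p hp => by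
  rw [lk_mul _ _ hp, ← h _ (lk_lt _ hp), ← h' p hp]; group

theorem Act.inv (h : Act c v m g) : Act c v m⁻¹ g⁻¹ := fun p hp => by
  have := h _ (lk_lt m⁻¹ hp)
  rw [← lk_mul _ _ hp, mul_inv_cancel, lk_one hp] at this
  rw [← this]; group

theorem Act.pow (h : Act c v m g) (j : ℕ) : Act c v (m ^ j) (g ^ j) := by
  induction j with
  | zero => rw [pow_zero, pow_zero]; exact Act.one
  | succ j ih => rw [pow_succ, pow_succ]; exact ih.mul h

theorem Act.ev {ms : List (CP 16)} {gs : List G} (h : List.Forall₂ (Act c v) ms gs) (w : List ℕ) :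
    Act c v (ev ms w) (ev gs w) := fun p hp => by
  rw [← CP.smul_val _ ⟨p, hp⟩]
  exact ev_act (fun p : Fin 16 => PP c v p) (h.imp fun m g e p => by rw [CP.smul_val]; exact e p p.2) w ⟨p, hp⟩

theorem Act.comm (h : Act c v 1 g) {p : ℕ} (hp : p < 16) : Commute g (PP c v p) :=
  mul_inv_eq_iff_eq_mul.mp ((h p hp).trans (by rw [lk_one hp]))

theorem PP_zero : PP c v 0 = 1 := vv_zero _

theorem PP_one : PP c v 1 = v := by simp [PP, bs, vv]

theorem PP_mem {K : Subgroup G} (hv : v ∈ K) (hc : c ∈ normalizer (K : Set G)) (p : ℕ) : PP c v p ∈ K := by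
  have h := fun n => conj_mem_of_mem_normalizer (n := n) hc
  refine vv_mem (fun g hg => ?_) p
  simp only [bs, List.mem_cons, List.not_mem_nil, or_false] at hg
  rcases hg with rfl | rfl | rfl | rfl
  exacts [hv, h _ hv, h _ (h _ hv), h _ (h _ (h _ hv))]

end

/-- The configuration. -/
structure Fr (x u c v : G) : Prop where
  c4 : c ^ 4 = 1
  cx : c * x * c⁻¹ = u
  cu : c * u * c⁻¹ = x⁻¹
  xu : Commute x u
  v2 : v * v = 1
  v1 : v ≠ 1
  xv : Commute x v
  uv : u * v * u⁻¹ = c * (c * v * c⁻¹) * c⁻¹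
  rot : u⁻¹ * v * u = v * (u * v * u⁻¹)
  c1 : Commute v (c * v * c⁻¹)
  c2 : Commute v (u * v * u⁻¹)

namespace Fr

variable {x u c v : G} (h : Fr x u c v)
include h

theorem conj4 (y : G) : c * (c * (c * (c * y * c⁻¹) * c⁻¹) * c⁻¹) * c⁻¹ = y := by
  calc _ = c ^ 4 * y * (c ^ 4)⁻¹ := by simp only [pow_succ, pow_zero, one_mul]; group
    _ = y := by rw [h.c4]; group

theorem sq : ∀ g ∈ bs c v, g * g = 1 := by
  simp only [bs, List.forall_mem_cons, conj_mul, h.v2]
  simp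

theorem comm : ∀ g ∈ bs c v, ∀ g' ∈ bs c v, Commute g g' := by
  have h1 := h.c1
  have h2 := h.uv ▸ h.c2
  have h3 := commute_conj c h1
  have h4 := commute_conj c h2
  have h5 := commute_conj c h3
  have h6 := commute_conj c h5
  rw [h.conj4] at h6
  simp only [bs, List.forall_mem_cons, h1, h2, h3, h4, h5, h6, h1.symm, h2.symm, h3.symm, h4.symm, h5.symm, h6.symm,
    Commute.refl]
  simp

theorem PP_xor (i j : ℕ) : PP c v (i ^^^ j) = PP c v i * PP c v j := vv_xor h.sq h.comm i j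

theorem PP_sq (i : ℕ) : PP c v i * PP c v i = 1 := by rw [← h.PP_xor, Nat.xor_self, PP_zero]

theorem conj_PP {g : G} {ks : List ℕ} (e : bs (g * c * g⁻¹) (g * v * g⁻¹) = ks.map (PP c v)) (p : ℕ) :
    g * PP c v p * g⁻¹ = PP c v (lin ks p) := by
  refine (map_vv (MulAut.conj g).toMonoidHom _ p).trans (Eq.trans ?_ (vv_lin h.sq h.comm ks p))
  congr 1
  refine Eq.trans ?_ e
  simp [bs, mul_assoc]

theorem act_c : Act c v c16 c := fun p hp => by
  rw [← lin_c16 p hp]
  refine h.conj_PP ?_ p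
  rw [mul_inv_cancel_right]
  simp only [bs, h.conj4]
  simp [PP, bs, vv]

theorem act_x : Act c v x16 x := fun p hp => by
  rw [← lin_x16 p hp]
  refine h.conj_PP ?_ p
  have e : ∀ y, x * c * x⁻¹ * y * (x * c * x⁻¹)⁻¹ = c * (u⁻¹ * (x⁻¹ * y * x) * u) * c⁻¹ := fun y => by
    have : x = c * u⁻¹ * c⁻¹ := by rw [← inv_inv x, ← h.cu]; group
    calc _ = (x * c) * (x⁻¹ * y * x) * (x * c)⁻¹ := by group
      _ = _ := by nth_rw 1 4 [this]; group
  have e0 : x * v * x⁻¹ = v := by rw [h.xv.eq, mul_inv_cancel_right]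
  have e1 : x * (c * v * c⁻¹) * x⁻¹ = c * (v * (c * (c * v * c⁻¹) * c⁻¹)) * c⁻¹ := by
    rw [← h.uv, ← h.rot, ← show x⁻¹ * (x * v * x⁻¹) * x = v by group, ← e]; group
  have e2 : x * (c * (c * v * c⁻¹) * c⁻¹) * x⁻¹ = c * (c * v * c⁻¹) * c⁻¹ := by
    rw [← h.uv, ((h.xu.mul_right h.xv).mul_right h.xu.inv_right).eq, mul_inv_cancel_right]
  have e3 : x * (c * (c * (c * v * c⁻¹) * c⁻¹) * c⁻¹) * x⁻¹ = c * v * c⁻¹ := by
    rw [← h.uv]
    calc _ = x * c * x⁻¹ * (x * (u * v * u⁻¹) * x⁻¹) * (x * c * x⁻¹)⁻¹ := by group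
      _ = _ := by rw [e]; group
  have e4 : bs (x * c * x⁻¹) (x * v * x⁻¹) = [x * v * x⁻¹, x * (c * v * c⁻¹) * x⁻¹,
      x * (c * (c * v * c⁻¹) * c⁻¹) * x⁻¹, x * (c * (c * (c * v * c⁻¹) * c⁻¹) * c⁻¹) * x⁻¹] := by
    simp [bs, mul_assoc]
  rw [e4, e0, e1, e2, e3]
  simp [PP, bs, vv, mul_assoc]

theorem act_u : Act c v u16 u := by
  rw [u16_eq, ← h.cx]
  exact (h.act_c.mul h.act_x).mul h.act_c.inv

theorem act6 : List.Forall₂ (Act c v) n6 [x, x⁻¹, u, u⁻¹, c, c⁻¹] :=
  .cons h.act_x (.cons h.act_x.inv (.cons h.act_u (.cons h.act_u.inv (.cons h.act_c (.cons h.act_c.inv .nil)))))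

theorem irr {K : Subgroup G} (hx : x ∈ normalizer (K : Set G)) (hc : c ∈ normalizer (K : Set G)) {i : ℕ}
    (hi : i < 16) (h0 : i ≠ 0) (hK : PP c v i ∈ K) (j : ℕ) : PP c v j ∈ K := by
  obtain ⟨p, -, e⟩ := irr16 i hi h0
  have h1 : ∀ w, PP c v (lk (ev n6 w).1 i) ∈ K := fun w => by
    rw [← Act.ev h.act6 w i hi]
    refine conj_mem_of_mem_normalizer (ev_mem (fun g hg => ?_) w) hK
    have hu : u ∈ normalizer (K : Set G) := h.cx ▸ mul_mem (mul_mem hc hx) (inv_mem hc)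
    simp only [List.mem_cons, List.not_mem_nil, or_false] at hg
    rcases hg with rfl | rfl | rfl | rfl | rfl | rfl
    exacts [hx, inv_mem hx, hu, inv_mem hu, hc, inv_mem hc]
  refine PP_mem ?_ hc j
  rw [← PP_one (c := c) (v := v), ← e, h.PP_xor]
  exact mul_mem (h1 _) (h1 _)

theorem PP_eq_one {i : ℕ} (hi : i < 16) (e : PP c v i = 1) : i = 0 := by_contra fun h0 =>
  h.v1 (PP_one.symm.trans (mem_bot.mp (h.irr (K := ⊥) (le_normalizer_of_normal (mem_top _)) (le_normalizer_of_normal (mem_top _)) hi h0 (mem_bot.mpr e) 1)))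

theorem PP_inj {i j : ℕ} (hi : i < 16) (hj : j < 16) (e : PP c v i = PP c v j) : i = j :=
  Nat.eq_of_xor_eq_zero (h.PP_eq_one (Nat.xor_lt_two_pow (n := 4) hi hj) (by rw [h.PP_xor, e, h.PP_sq]))

theorem exists_PP [Finite G] {U : Subgroup G} (hU : Nat.card U = 16) (hv : v ∈ U) (hc : c ∈ normalizer (U : Set G))
    {g : G} (hg : g ∈ U) : ∃ p < 16, PP c v p = g := by
  obtain ⟨p, e⟩ := (Set.eq_of_subset_of_ncard_le (s := Set.range fun p : Fin 16 => PP c v p) (t := U) (by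
    rintro _ ⟨p, rfl⟩; exact PP_mem hv hc p) (by
      rw [ncard_coe, hU, Set.ncard_range_of_injective fun i j e => Fin.ext (h.PP_inj i.2 j.2 e)]; simp)).ge hg
  exact ⟨p, p.2, e⟩

theorem cases {g : G} {k : ℕ} (hk : k < 16) (hg : PP c v k = g * v * g⁻¹) (hc : g * c * g⁻¹ = c ∨ g * c * g⁻¹ = c⁻¹) :
    ∃ j < 4, ∃ m ∈ [1, s16, r16, p16], Act c v m (g * c ^ j) := by
  obtain ⟨e, he, h1⟩ : ∃ e ∈ [c16, c16⁻¹], Act c v e (g * c * g⁻¹) := by
    rcases hc with e | e <;> rw [e]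
    exacts [⟨_, by simp, h.act_c⟩, ⟨_, by simp, h.act_c.inv⟩]
  have h2 := h.conj_PP (g := g) (ks := [k, lk e.1 k, lk e.1 (lk e.1 k), lk e.1 (lk e.1 (lk e.1 k))]) (by
    rw [bs, ← hg, h1 k hk, h1 _ (lk_lt e hk), h1 _ (lk_lt e (lk_lt e hk))]; rfl)
  rcases cases16 e he k hk with ⟨p, hp, h0, h3⟩ | ⟨j, hj, m, hm, h3⟩
  · have := h2 p
    rw [h3, PP_zero, conj_eq_one_iff] at this
    exact absurd (h.PP_eq_one hp this) h0
  · refine ⟨j, hj, m, hm, fun p hp => ?_⟩
    rw [← h3 p hp, ← h2, ← h.act_c.pow j p hp]; group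

theorem exists_hom [Finite G] {U K : Subgroup G} (hU : ∀ p, PP c v p ∈ U) (hK : K ≤ normalizer (U : Set G))
    (h1 : ∀ g ∈ K, g ∈ U → g = 1) (h2 : ∀ g ∈ K, (∀ p < 16, Commute g (PP c v p)) → g = 1)
    {ms : List (CP 16)} {gs : List G} (hl : List.Forall₂ (fun m g => (g ∈ K ∧ Act c v m g) ∨
      ∃ k, g = PP c v k ∧ ∀ p < 16, lk m.1 p = k ^^^ p) ms gs) :
    ∃ f : cl ms →* G, Function.Injective f ∧ ∀ w, f (el ms w) = ev gs w := by
  have h3 := ev_smul (fun p : Fin 16 => ((PP c v p : G) : G ⧸ K)) (hl.imp fun m g e p => by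
    rw [CP.smul_val]
    rcases e with ⟨e1, e2⟩ | ⟨k, rfl, e⟩
    · rw [← e2 p p.2]
      exact (QuotientGroup.mk_mul_of_mem _ (inv_mem e1)).symm
    · rw [e p p.2, h.PP_xor]; rfl)
  obtain ⟨f, hf⟩ := exists_hom_of_rel hl.length_eq fun w hw => by
    have h4 : ∀ p < 16, (ev gs w * PP c v p)⁻¹ * PP c v p ∈ K := fun p hp => by
      have := h3 w ⟨p, hp⟩
      rw [hw, one_smul] at this
      exact QuotientGroup.eq.mp this
    have h5 : ev gs w ∈ K := by simpa [PP_zero] using h4 0 (by decide)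
    refine h2 _ h5 fun p hp => Commute.inv_right_iff.mp (mul_inv_eq_iff_eq_mul.mp (mul_eq_one_iff_eq_inv.mp
      (h1 _ ?_ (mul_mem (conj_mem_of_mem_normalizer (hK h5) (inv_mem (hU p))) (hU p)))))
    convert mul_mem h5 (h4 p hp) using 1
    group
  refine ⟨f, (injective_iff_map_eq_one f).mpr fun y hy => Subtype.ext (eq_of_smul_eq_smul (α := Fin 16) fun p => ?_), hf⟩
  obtain ⟨w, rfl⟩ := el_surj y
  have h4 := h3 w p
  rw [← hf, hy, one_smul] at h4
  refine Fin.ext (h.PP_inj (Fin.isLt _) (Fin.isLt _) ?_)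
  rw [show (1 : cl ms).1 • p = p from one_smul _ p]
  exact (inv_mul_eq_one.mp (h1 _ (QuotientGroup.eq.mp h4) (mul_mem (inv_mem (hU _)) (hU _)))).symm

end Fr

theorem conj_word {M : Type*} [Group M] {ms : List M} {gs gs' : List G} {f : cl ms →* G}
    (hf : ∀ w, f (el ms w) = ev gs w) {q : G} {ws : List (List ℕ)}
    (h : gs'.map (fun g => q * g * q⁻¹) = ws.map (ev gs)) (w : List ℕ) :
    q * ev gs' w * q⁻¹ = f (ev (ws.map (el ms)) w) := by
  rw [map_ev f, List.map_map, show f ∘ el ms = ev gs from funext hf, ← h]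
  exact map_ev (MulAut.conj q).toMonoidHom gs' w

end Cfsg.Agent.Mat
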