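import Cfsg.Agent.Mat.Two

/-! General lemmas: cores, Sylow counts, normal complements, self-centralizing four-groups. -/

set_option autoImplicit false
set_option linter.unusedSectionVars false

namespace Cfsg.Agent.Mat

open Subgroup MulAction Cfsg.Agent.M11 Cfsg.Agent.Local

variable {G : Type*} [Group G] [Finite G]

theorem exists_core' {L C : Subgroup G} (h : L ≤ C) {n : ℕ} (hc : Nat.card C = n * Nat.card L) :
    ∃ N ≤ L, C ≤ normalizer (N : Set G) ∧ Nat.card C ∣ n.factorial * Nat.card N ∧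
      ∀ z ∈ L, (∀ c ∈ C, Commute c z) → z ∈ N := by
  have h1 : (L.subgroupOf C).index = n := by
    have h1 := (L.subgroupOf C).index_mul_card
    rw [hc, Nat.card_congr (subgroupOfEquivOfLe h).toEquiv] at h1
    exact Nat.eq_of_mul_eq_mul_right Nat.card_pos h1
  have h2 : (L.subgroupOf C).normalCore.index ∣ n.factorial := by
    rw [← h1, normalCore_eq_ker, index_ker, index_eq_card, ← Nat.card_perm]
    exact card_subgroup_dvd_card (toPermHom C (C ⧸ L.subgroupOf C)).range
  refine ⟨(L.subgroupOf C).normalCore.map C.subtype, ?_, fun c hc => mem_normalizer_of_conj_mem ?_, ?_,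
    fun z hz hc => ⟨⟨z, h hz⟩, fun b => ?_, rfl⟩⟩
  · rintro _ ⟨u, hu, rfl⟩
    exact normalCore_le (L.subgroupOf C) hu
  · rintro _ ⟨u, hu, rfl⟩
    exact ⟨_, (normalCore_normal _).conj_mem u hu ⟨c, hc⟩, rfl⟩
  · rw [card_subtype, ← (L.subgroupOf C).normalCore.index_mul_card]
    exact Nat.mul_dvd_mul_right h2 _
  · show b.1 * z * b.1⁻¹ ∈ L
    rwa [(hc b b.2).eq, mul_inv_cancel_right]

theorem relIndex_normalizer_mod {p : ℕ} [Fact p.Prime] {P N : Subgroup G} (h : IsSylowIn p P N) :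
    (normalizer (P : Set G)).relIndex N % p = 1 % p := by
  have h4 := card_sylow_modEq_one p N
  rw [Sylow.card_eq_index_normalizer h.toSylow] at h4
  change (normalizer ((P.subgroupOf N : Subgroup N) : Set N)).index % p = 1 % p at h4
  rwa [← subgroupOf_normalizer_eq h.le] at h4

theorem exists_compl {p : ℕ} [Fact p.Prime] {P D : Subgroup G} (h : IsSylowIn p P D)
    (hc : ∀ g ∈ D, g ∈ normalizer (P : Set G) → g ∈ centralizer (P : Set G)) :
    ∃ W ≤ D, D ≤ normalizer (W : Set G) ∧ Nat.card W * Nat.card P = Nat.card D := by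
  have h1 : normalizer ((h.toSylow : Subgroup D) : Set D) ≤ centralizer ((h.toSylow : Subgroup D) : Set D) :=
    fun g hg a ha => by
      rw [h.coe_toSylow, ← subgroupOf_normalizer_eq h.le] at hg
      exact Subtype.ext (hc g g.2 hg a ha)
  refine ⟨(MonoidHom.transferSylow h.toSylow h1).ker.map D.subtype, map_subtype_le _,
    fun c hc => mem_normalizer_of_conj_mem ?_, ?_⟩
  · rintro _ ⟨u, hu, rfl⟩
    exact ⟨_, (MonoidHom.normal_ker _).conj_mem u hu ⟨c, hc⟩, rfl⟩
  · rw [card_subtype, ← (MonoidHom.ker_transferSylow_isComplement' h.toSylow h1).card_mul_card,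
      ← Nat.card_congr (subgroupOfEquivOfLe h.le).toEquiv]
    rfl

theorem exists_normal_card {p : ℕ} [hp : Fact p.Prime] (hG : IsPGroup p G) (k : ℕ) (h : p ^ k ∣ Nat.card G) :
    ∃ N : Subgroup G, N.Normal ∧ Nat.card N = p ^ k := by
  induction k with
  | zero => exact ⟨⊥, inferInstance, by simp⟩
  | succ k ih =>
    obtain ⟨N, hN, e⟩ := ih ((pow_dvd_pow p k.le_succ).trans h)
    have h1 := card_eq_card_quotient_mul_card_subgroup N
    rw [h1, e, pow_succ'] at h
    have h2 := Nat.dvd_of_mul_dvd_mul_right (pow_pos hp.out.pos k) h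
    have : Nontrivial (G ⧸ N) := Finite.one_lt_card_iff_nontrivial.mp
      (hp.out.one_lt.trans_le (Nat.le_of_dvd Nat.card_pos h2))
    have := (hG.to_quotient N).center_nontrivial
    obtain ⟨z, hz, h3⟩ := exists_mem_orderOf_eq_of_dvd_card (H := center (G ⧸ N)) hp.out
      (((hG.to_quotient N).to_subgroup _).card_eq_or_dvd.resolve_left Finite.one_lt_card.ne')
    have : (zpowers z).Normal := ⟨fun a ha g => by
      rwa [mem_center_iff.mp (zpowers_le.mpr hz ha) g, mul_inv_cancel_right]⟩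
    refine ⟨(zpowers z).comap (QuotientGroup.mk' N), inferInstance, ?_⟩
    rw [pow_succ, ← e, ← h3, ← Nat.card_zpowers]
    exact QuotientGroup.card_preimage_mk N (zpowers z)

theorem card_le_two_mul_sq {N : Subgroup G} (hc : ∀ a ∈ N, ∀ b ∈ N, Commute a b) {z : G}
    (hz : ∀ a ∈ N, a * a = 1 → a = 1 ∨ a = z) (k : ℕ) : {a | a ∈ N ∧ a ^ 2 ^ k = 1}.ncard ≤ 2 ^ k := by
  induction k with
  | zero => exact (Set.ncard_le_one (Set.toFinite _)).mpr fun a ha b hb => by simp_all
  | succ k ih =>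
    have := ncard_mul_le (s := {a | a ∈ N ∧ a ^ 2 ^ (k + 1) = 1}) (t := {a | a ∈ N ∧ a ^ 2 ^ k = 1}) (Set.toFinite _)
      (Set.toFinite _) (fun a b => a * a = b) (m := 1) (n := 2) (fun a ha => (Set.ncard_pos (Set.toFinite _)).mpr
        ⟨a * a, ⟨mul_mem ha.1 ha.1, by rw [← pow_two, ← pow_mul, ← pow_succ', ha.2]⟩, rfl⟩) fun b hb => by
      rcases Set.eq_empty_or_nonempty {a | a ∈ {a | a ∈ N ∧ a ^ 2 ^ (k + 1) = 1} ∧ a * a = b} with e | ⟨c, hc'⟩
      · rw [e]; simp
      refine (Set.ncard_le_ncard (t := {c, c * z}) fun a ha => ?_).trans ((Set.ncard_insert_le _ _).trans (by simp))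
      rcases hz (c⁻¹ * a) (mul_mem (inv_mem hc'.1.1) ha.1.1) (by
        rw [(hc c hc'.1.1 a ha.1.1).inv_left.symm.mul_mul_mul_comm, ← mul_inv_rev, hc'.2, ha.2, inv_mul_cancel])
        with e | e
      exacts [.inl (inv_mul_eq_one.mp e).symm, .inr (eq_mul_of_inv_mul_eq e)]
    have h2 := pow_succ 2 k
    omega

theorem not_selfcent (hG : Nat.card G = 128) (he : ∀ g : G, g ^ 8 = 1) {v z : G} (hv : v * v = 1)
    (hC : ∀ g, Commute g v → g = 1 ∨ g = z ∨ g = v ∨ g = z * v) (hz : ∀ g, Commute g z) (hz2 : z * z = 1) : False := by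
  have h1 : cc v ≤ 4 := by
    have h1 := Set.ncard_le_ncard (s := (centralizer {v} : Subgroup G)) (t := {1, z, v, z * v}) fun g hg =>
      hC g (mem_centralizer_singleton_iff.mp hg)
    have h2 := Set.ncard_insert_le 1 ({z, v, z * v} : Set G)
    have h3 := Set.ncard_insert_le z ({v, z * v} : Set G)
    have h4 := Set.ncard_insert_le v ({z * v} : Set G)
    rw [Set.ncard_singleton] at h4
    rw [ncard_coe, ← cc] at h1
    omega
  have h2 := cc_mul v
  obtain ⟨N, hN, e⟩ := exists_normal_card (p := 2) (IsPGroup.of_card (n := 7) hG) 5 (by rw [hG]; decide)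
  have h3 := card_eq_card_quotient_mul_card_subgroup N
  rw [hG, e] at h3
  have h4 := IsPGroup.isMulCommutative_of_card_eq_prime_sq (G := G ⧸ N) (p := 2) (by omega)
  have h5 := Set.eq_of_subset_of_ncard_le (s := (· * v⁻¹) '' {w | IsConj v w}) (t := N) (by
    rintro _ ⟨_, hw, rfl⟩
    obtain ⟨c, rfl⟩ := isConj_iff.mp hw
    rw [SetLike.mem_coe, ← QuotientGroup.eq_one_iff]
    simp [h4.is_comm.comm (c : G ⧸ N)]) (by
      rw [ncard_coe, e, Set.ncard_image_of_injective _ (mul_left_injective _)]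
      nlinarith)
  have h6 : ∀ a ∈ N, v * a * v⁻¹ = a⁻¹ := fun a ha => by
    obtain ⟨_, hw, rfl⟩ := h5.ge ha
    obtain ⟨c, rfl⟩ := isConj_iff.mp hw
    have e1 : v⁻¹ = v := inv_eq_of_mul_eq_one_right hv
    simp only [mul_inv_rev, inv_inv, e1, mul_assoc, hv, mul_one]
  have h7 : ∀ a ∈ N, ∀ b ∈ N, Commute a b := fun a ha b hb => by
    have := h6 _ (mul_mem ha hb)
    rw [← conj_mul, h6 a ha, h6 b hb, ← mul_inv_rev, inv_inj] at this
    exact this.symm
  have h8 : ∀ w ∈ N, Commute w v → (∀ a, Commute a w → Commute a v) → False := fun w hw _ h8 => by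
    have := card_dvd_cc (R := N) (g := v) fun a ha => h8 a (h7 a ha w hw)
    rw [e] at this
    have := Nat.le_of_dvd (cc_pos v) this
    omega
  have h9 := card_le_two_mul_sq h7 (z := z) (fun a ha h9 => by
    have h10 : Commute a v := (mul_inv_eq_iff_eq_mul.mp ((h6 a ha).trans (inv_eq_of_mul_eq_one_right h9))).symm
    rcases hC a h10 with e | e | e | e
    exacts [.inl e, .inr e, (h8 a ha h10 fun b hb => e ▸ hb).elim, (h8 a ha h10 fun b hb => by
      have := (hz b).mul_right hb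
      rwa [e, ← mul_assoc, hz2, one_mul] at this).elim]) 3
  rw [show {a | a ∈ N ∧ a ^ 2 ^ 3 = 1} = N from Set.ext fun a => and_iff_left (he a), ncard_coe, e] at h9
  omega

end Cfsg.Agent.Mat
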