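import Cfsg.Agent.Mat.M23F

/-! General lemmas: classes under a subgroup, groups of order 9, the Baer-Suzuki theorem. -/

set_option autoImplicit false
set_option linter.unusedSectionVars false

namespace Cfsg.Agent.Mat

open Subgroup MulAction Cfsg.Agent.M11 Cfsg.Agent.Local
open scoped Pointwise

variable {G : Type*} [Group G] [Finite G]

/-- The class of `x` under `R`. -/
def clR (R : Subgroup G) (x : G) : Set G := {w | ∃ r ∈ R, r * x * r⁻¹ = w}

theorem mem_clR (R : Subgroup G) (x : G) : x ∈ clR R x := ⟨1, one_mem _, by simp⟩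

theorem clR_conj {R : Subgroup G} {r : G} (hr : r ∈ R) (x : G) : clR R (r * x * r⁻¹) = clR R x := by
  ext w
  constructor
  · rintro ⟨s, hs, rfl⟩
    exact ⟨s * r, mul_mem hs hr, by group⟩
  · rintro ⟨s, hs, rfl⟩
    exact ⟨s * r⁻¹, mul_mem hs (inv_mem hr), by group⟩

theorem clR_eq {R : Subgroup G} {x w : G} (h : w ∈ clR R x) : clR R w = clR R x := by
  obtain ⟨r, hr, rfl⟩ := h
  exact clR_conj hr x

theorem mem_of_clR_eq {R : Subgroup G} {x w : G} (h : clR R w = clR R x) : w ∈ clR R x := h ▸ mem_clR R w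

theorem card_clR (R : Subgroup G) (x : G) : Nat.card ↥(R ⊓ centralizer {x}) * (clR R x).ncard = Nat.card R :=
  card_inf_centralizer_mul R x

/-- The number of classes. -/
noncomputable def kap (R : Subgroup G) (X : Finset G) : ℕ := (clR R '' X).ncard

theorem exists_sum_class {R : Subgroup G} {X : Finset G} (hX : ∀ x ∈ X, ∀ r ∈ R, r * x * r⁻¹ ∈ X) {f : G → ℕ}
    (hf : ∀ x ∈ X, ∀ r ∈ R, f (r * x * r⁻¹) = f x) : ∃ (T : Finset (Set G)) (g : Set G → ℕ), T.card = kap R X ∧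
      ∑ x ∈ X, f x = ∑ c ∈ T, g c ∧ ∀ c ∈ T, ∃ x ∈ X, g c = (clR R x).ncard * f x := by
  classical
  refine ⟨X.image (clR R), fun c => ∑ x ∈ X.filter (clR R · = c), f x, by
    rw [kap, ← Finset.coe_image, Set.ncard_coe_finset],
    (Finset.sum_fiberwise_of_maps_to (fun x hx => Finset.mem_image_of_mem _ hx) f).symm, fun c hc => ?_⟩
  obtain ⟨x, hx, rfl⟩ := Finset.mem_image.mp hc
  refine ⟨x, hx, ?_⟩
  have h1 : clR R x = (X.filter (clR R · = clR R x) : Finset G) := Set.ext fun w => ⟨fun hw =>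
    Finset.mem_filter.mpr ⟨by obtain ⟨r, hr, rfl⟩ := hw; exact hX x hx r hr, clR_eq hw⟩,
    fun hw => mem_of_clR_eq (Finset.mem_filter.mp hw).2⟩
  beta_reduce
  rw [Finset.sum_const_nat (m := f x) fun y hy => by
    obtain ⟨r, hr, rfl⟩ := h1.ge hy
    exact hf x hx r hr, ← Set.ncard_coe_finset, ← h1]

theorem kap_mul_le {R : Subgroup G} {X : Finset G} (hX : ∀ x ∈ X, ∀ r ∈ R, r * x * r⁻¹ ∈ X) {f : G → ℕ}
    (hf : ∀ x ∈ X, ∀ r ∈ R, f (r * x * r⁻¹) = f x) {d : ℕ} (h : ∀ x ∈ X, d ≤ (clR R x).ncard * f x) :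
    kap R X * d ≤ ∑ x ∈ X, f x := by
  obtain ⟨T, g, h1, h2, h3⟩ := exists_sum_class hX hf
  rw [← h1, h2, ← smul_eq_mul]
  refine Finset.card_nsmul_le_sum T g d fun c hc => ?_
  obtain ⟨x, hx, e⟩ := h3 c hc
  exact e ▸ h x hx

theorem sum_eq_kap {R : Subgroup G} {X : Finset G} (hX : ∀ x ∈ X, ∀ r ∈ R, r * x * r⁻¹ ∈ X) {f : G → ℕ}
    (hf : ∀ x ∈ X, ∀ r ∈ R, f (r * x * r⁻¹) = f x) {d m : ℕ} (h : ∀ x ∈ X, m * ((clR R x).ncard * f x) = d) :
    m * ∑ x ∈ X, f x = kap R X * d := by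
  obtain ⟨T, g, h1, h2, h3⟩ := exists_sum_class hX hf
  rw [← h1, h2, Finset.mul_sum]
  refine Finset.sum_const_nat fun c hc => ?_
  obtain ⟨x, hx, e⟩ := h3 c hc
  exact e ▸ h x hx

theorem kap_le {R : Subgroup G} {X : Finset G} (l : List G) (h : ∀ x ∈ X, ∃ w ∈ l, clR R x = clR R w) :
    kap R X ≤ l.length := by
  classical
  refine (Set.ncard_le_ncard (t := (l.map (clR R)).toFinset) ?_).trans ?_
  · rintro _ ⟨x, hx, rfl⟩
    obtain ⟨w, hw, e⟩ := h x hx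
    exact List.mem_toFinset.mpr (e ▸ List.mem_map_of_mem hw)
  · rw [Set.ncard_coe_finset]
    exact (List.toFinset_card_le _).trans (List.length_map _).le

/-- Conjugacy up to inversion. -/
def Rt (x w : G) : Prop := IsConj x w ∨ IsConj x⁻¹ w

/-- The size of the class up to inversion. -/
noncomputable def nn (x : G) : ℕ := {w | Rt x w}.ncard

theorem Rt.refl (x : G) : Rt x x := .inl (IsConj.refl x)

theorem Rt.conj {x w : G} (h : Rt x w) (c : G) : Rt x (c * w * c⁻¹) :=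
  h.imp (·.trans (isConj_iff.mpr ⟨c, rfl⟩)) (·.trans (isConj_iff.mpr ⟨c, rfl⟩))

theorem Rt.of_conj {x w c : G} (h : Rt x (c * w * c⁻¹)) : Rt x w := by simpa [mul_assoc] using h.conj c⁻¹

theorem Rt.eq {x w : G} (h : Rt x w) {f : G → ℕ} (hf : ∀ c x, f (c * x * c⁻¹) = f x) (hi : ∀ x, f x⁻¹ = f x) :
    f w = f x := by
  rcases h with e | e <;> obtain ⟨c, rfl⟩ := isConj_iff.mp e
  exacts [hf c x, (hf c _).trans (hi x)]

theorem Rt.cc {x w : G} (h : Rt x w) : cc w = cc x := h.eq cc_conj cc_inv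

theorem Rt.ord {x w : G} (h : Rt x w) : orderOf w = orderOf x := h.eq orderOf_conj' orderOf_inv

theorem Rt.isConj {x w : G} (h : Rt x w) (hr : IsConj x x⁻¹) : IsConj x w := h.elim id hr.trans

theorem nn_cases (x : G) : IsConj x x⁻¹ ∧ nn x * cc x = Nat.card G ∨ ¬ IsConj x x⁻¹ ∧ nn x * cc x = 2 * Nat.card G := by
  by_cases hr : IsConj x x⁻¹
  · refine .inl ⟨hr, ?_⟩
    rw [← cc_mul x, mul_comm]
    exact congrArg (cc x * Set.ncard ·) (Set.ext fun w => ⟨fun h => h.isConj hr, .inl⟩)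
  · refine .inr ⟨hr, ?_⟩
    have h1 := cc_mul x⁻¹
    rw [cc_inv] at h1
    rw [nn, show {w | Rt x w} = {w | IsConj x w} ∪ {w | IsConj x⁻¹ w} from rfl,
      Set.ncard_union_eq (Set.disjoint_left.mpr fun w h5 h6 => hr (h5.trans h6.symm)), add_mul, mul_comm, cc_mul,
      mul_comm, h1, two_mul]

theorem class_dvd_nn (x : G) : {w | IsConj x w}.ncard ∣ nn x := by
  have h1 := cc_mul x
  rcases nn_cases x with ⟨-, e⟩ | ⟨-, e⟩ <;> rw [← h1, mul_comm (cc x)] at e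
  · exact (Nat.eq_of_mul_eq_mul_right (cc_pos x) e).ge.antisymm (Nat.eq_of_mul_eq_mul_right (cc_pos x) e).le ▸ dvd_rfl
  · rw [← mul_assoc] at e
    exact Dvd.intro_left 2 (Nat.eq_of_mul_eq_mul_right (cc_pos x) e).symm

open Classical in
/-- Removal of a class. -/
noncomputable def rm (X : Finset G) (x : G) : Finset G := X.filter (¬ Rt x ·)

theorem mem_rm {X : Finset G} {x w : G} : w ∈ rm X x ↔ w ∈ X ∧ ¬ Rt x w := by
  classical
  exact Finset.mem_filter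

/-- Sets closed under conjugation and inversion. -/
def Cls (X : Finset G) : Prop := ∀ x ∈ X, ∀ w, Rt x w → w ∈ X

theorem Rt.symm {x w : G} (h : Rt x w) : Rt w x := by
  rcases h with e | e
  · exact .inl e.symm
  · obtain ⟨c, rfl⟩ := isConj_iff.mp e
    exact .inr (isConj_iff.mpr ⟨c⁻¹, by group⟩)

theorem Rt.trans {x y w : G} (h : Rt x y) (h' : Rt y w) : Rt x w := by
  rcases h with e | e <;> obtain ⟨c, rfl⟩ := isConj_iff.mp e <;> rcases h' with e' | e' <;>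
    obtain ⟨d, rfl⟩ := isConj_iff.mp e'
  exacts [.inl (isConj_iff.mpr ⟨d * c, by group⟩), .inr (isConj_iff.mpr ⟨d * c, by group⟩),
    .inr (isConj_iff.mpr ⟨d * c, by group⟩), .inl (isConj_iff.mpr ⟨d * c, by group⟩)]

theorem Cls.rm {X : Finset G} (h : Cls X) (x : G) : Cls (rm X x) := fun y hy w hw =>
  mem_rm.mpr ⟨h y (mem_rm.mp hy).1 w hw, fun e => (mem_rm.mp hy).2 (e.trans hw.symm)⟩

theorem Cls.conj {X : Finset G} (h : Cls X) : ∀ x ∈ X, ∀ c, c * x * c⁻¹ ∈ X := fun x hx c =>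
  h x hx _ ((Rt.refl x).conj c)

theorem cls_ordS (n : ℕ) : Cls (ordS G n) := fun _ hx _ hw => mem_ordS.mpr (hw.ord.trans (mem_ordS.mp hx))

theorem Cls.sum {X : Finset G} (h : Cls X) {x : G} (hx : x ∈ X) {f : G → ℕ} (hf : ∀ c x, f (c * x * c⁻¹) = f x)
    (hi : ∀ x, f x⁻¹ = f x) : ∑ w ∈ X, f w = nn x * f x + ∑ w ∈ Mat.rm X x, f w := by
  classical
  rw [← Finset.sum_filter_add_sum_filter_not X (Rt x ·), Finset.sum_const_nat (m := f x) fun w hw =>
    (Finset.mem_filter.mp hw).2.eq hf hi, ← Set.ncard_coe_finset]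
  congr 3
  exact Set.ext fun w => ⟨fun hw => (Finset.mem_filter.mp hw).2, fun hw => Finset.mem_filter.mpr ⟨h x hx w hw, hw⟩⟩

theorem Cls.card {X : Finset G} (h : Cls X) {x : G} (hx : x ∈ X) : X.card = nn x + (Mat.rm X x).card := by
  simpa using h.sum hx (f := fun _ => 1) (fun _ _ => rfl) fun _ => rfl

theorem dvd_card_of_class {X : Finset G} (h : Cls X) {d : ℕ} (hd : d ∣ Nat.card G) (h1 : ∀ x ∈ X, d.Coprime (cc x)) :
    d ∣ X.card := by
  rw [Finset.card_eq_sum_ones]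
  exact dvd_sum_of_class h.conj (fun _ _ _ => rfl) fun x hx => by rw [mul_one]; exact dvd_class hd (h1 x hx)

theorem dvd_class_iv {A m k d : ℕ} (hG : Nat.card G = 2 ^ A * (d * k)) (hm : ¬ 2 ∣ d * k) {x : G}
    (h : cc x ∣ 2 ^ m * k) : 2 ^ A * d ∣ {w | IsConj x w}.ncard * iv (2 ^ A) x := by
  obtain ⟨a, j, hj, e⟩ := Nat.exists_eq_pow_mul_and_not_dvd (cc_pos x).ne' 2 (by decide)
  obtain ⟨l, hl⟩ := pow_dvd_iv Nat.prime_two hG hm (a := a) (x := x) ⟨j, e⟩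
  obtain ⟨i, rfl⟩ := (Nat.Coprime.pow_right m ((Nat.Prime.coprime_iff_not_dvd Nat.prime_two).mpr hj).symm
    ).dvd_of_dvd_mul_left ((Dvd.intro_left _ e.symm).trans h)
  have h1 := cc_mul x
  rw [hG, e] at h1
  refine ⟨i * l, Nat.eq_of_mul_eq_mul_left (Nat.pos_of_ne_zero (n := j) fun e => hj (e ▸ dvd_zero 2)) ?_⟩
  rw [hl]
  linear_combination l * h1

theorem pow3' {S : Sylow 3 G} {g : G} (hg : g • S = S) {K : Subgroup G} (hK : ↑S ≤ K) (h3 : g ^ 3 ∈ K) : g ∈ K := by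
  have h1 : ((S : Subgroup G).subgroupOf (normalizer ((S : Subgroup G) : Set G))).Normal := normal_in_normalizer
  have h2 := hK (show g ^ _ ∈ (S : Subgroup G) from ((S : Subgroup G).subgroupOf _).pow_index_mem
    ⟨g, Sylow.smul_eq_iff_mem_normalizer.mp hg⟩)
  have h4 : ¬ 3 ∣ ((S : Subgroup G).subgroupOf (normalizer ((S : Subgroup G) : Set G))).index :=
    (show ¬ 3 ∣ relIndex _ _ from fun e => S.not_dvd_index (e.trans (relIndex_dvd_index_of_le le_normalizer)))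
  generalize ((S : Subgroup G).subgroupOf (normalizer ((S : Subgroup G) : Set G))).index = n at h2 h4
  rw [← Nat.div_add_mod n 3, pow_add, pow_mul, mul_mem_cancel_left (pow_mem h3 _)] at h2
  rcases (by omega : n % 3 = 1 ∨ n % 3 = 2) with e | e <;> rw [e] at h2
  · rwa [pow_one] at h2
  · rwa [pow_succ, mul_mem_cancel_left h2] at h3

/-- A basis of an elementary abelian group of order 9. -/
structure B9 (x u : G) : Prop where
  ox : orderOf x = 3
  cu : u ^ 3 = 1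
  comm : Commute x u
  h2 : u ∉ zpowers x

/-- The group of order 9. -/
def EE (x u : G) : Subgroup G := zpowers x ⊔ zpowers u

theorem left_mem_EE (x u : G) : x ∈ EE x u := mem_sup_left (mem_zpowers x)

theorem right_mem_EE (x u : G) : u ∈ EE x u := mem_sup_right (mem_zpowers u)

theorem EE_le {x u : G} {K : Subgroup G} (h1 : x ∈ K) (h2 : u ∈ K) : EE x u ≤ K :=
  sup_le (zpowers_le.mpr h1) (zpowers_le.mpr h2)

theorem ee_mem (x u : G) (v : ZMod 3 × ZMod 3) : ee x u v ∈ EE x u :=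
  mul_mem (pow_mem (left_mem_EE x u) _) (pow_mem (right_mem_EE x u) _)

theorem ee_zero (x u : G) : ee x u 0 = 1 := by simp [ee]

namespace B9

variable {x u g p : G} (b : B9 x u)
include b

theorem cx : x ^ 3 = 1 := b.ox ▸ pow_orderOf_eq_one x

theorem u1 : u ≠ 1 := fun e => b.h2 (e ▸ one_mem _)

theorem x1 : x ≠ 1 := fun e => by simpa [e] using b.ox

theorem ou : orderOf u = 3 := orderOf_eq_prime b.cu b.u1

theorem swap : B9 u x := ⟨b.ou, b.cx, b.comm.symm, fun h => by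
  rcases mem_zpowers_three b.cu h with rfl | rfl | rfl
  exacts [b.x1 rfl, b.h2 (mem_zpowers _), b.h2 (by simp)]⟩

theorem inv : B9 x u⁻¹ := ⟨b.ox, by rw [inv_pow, b.cu, inv_one], b.comm.inv_right, fun h => b.h2 (inv_mem_iff.mp h)⟩

theorem mul : B9 x (x * u) := ⟨b.ox, by rw [b.comm.mul_pow, b.cx, b.cu, one_mul], (Commute.refl x).mul_right b.comm,
  fun h => b.h2 ((mul_mem_cancel_left (mem_zpowers x)).mp h)⟩

theorem conj (g : G) : B9 (g * x * g⁻¹) (g * u * g⁻¹) :=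
  ⟨(orderOf_conj' g x).trans b.ox, by rw [conj_pow, b.cu]; simp, commute_conj g b.comm, fun ⟨k, e⟩ => b.h2 ⟨k, by
    simpa [conj_zpow] using e⟩⟩

theorem card : Nat.card (EE x u) = 9 := by
  rw [EE, card_sup_of_disjoint (zpowers_le.mpr (mem_normalizer_three (.inl (by rw [← b.comm.eq, mul_inv_cancel_right]))))
    (disjoint_def.mpr fun h1 h2 => by
      rcases mem_zpowers_three b.cu h2 with e | rfl | rfl
      exacts [e, absurd h1 b.h2, absurd (inv_mem_iff.mp h1) b.h2]), Nat.card_zpowers, Nat.card_zpowers, b.ox, b.ou]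

theorem ee_add (v w : ZMod 3 × ZMod 3) : ee x u (v + w) = ee x u v * ee x u w := Mat.ee_add b.cx b.cu b.comm v w

theorem ee_inj : Function.Injective (ee x u) := ee_injective b.ox b.cu b.comm b.h2

theorem exists_ee (hp : p ∈ EE x u) : ∃ v, ee x u v = p := (Set.eq_of_subset_of_ncard_le (s := Set.range (ee x u))
  (t := EE x u) (by rintro _ ⟨v, rfl⟩; exact ee_mem x u v) (by
    rw [ncard_coe, b.card, Set.ncard_range_of_injective b.ee_inj]; simp)).ge hp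

theorem ee_nsmul (v : ZMod 3 × ZMod 3) (n : ℕ) : ee x u (n • v) = ee x u v ^ n := by
  induction n with
  | zero => simp [ee]
  | succ n ih => rw [succ_nsmul, b.ee_add, ih, pow_succ]

theorem ee_neg (v : ZMod 3 × ZMod 3) : ee x u (-v) = (ee x u v)⁻¹ :=
  eq_inv_of_mul_eq_one_left (by rw [← b.ee_add, neg_add_cancel, ee_zero])

theorem cube (hp : p ∈ EE x u) : p ^ 3 = 1 := by
  obtain ⟨v, rfl⟩ := b.exists_ee hp
  rw [← b.ee_nsmul, (by decide : ∀ v : ZMod 3 × ZMod 3, 3 • v = 0), ee_zero]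

theorem comm' {q : G} (hp : p ∈ EE x u) (hq : q ∈ EE x u) : Commute p q := comm_of_card_nine b.card hp hq

theorem ord (hp : p ∈ EE x u) (h1 : p ≠ 1) : orderOf p = 3 := orderOf_eq_prime (b.cube hp) h1

theorem sq (hp : p ∈ EE x u) : p * p = p⁻¹ := by
  rw [eq_inv_iff_mul_eq_one, ← pow_three', b.cube hp]

theorem l9 {a c : ZMod 3 × ZMod 3} (h1 : g * x * g⁻¹ = ee x u a) (h2 : g * u * g⁻¹ = ee x u c) : L9 x u g a c :=
  fun v => by
    rw [b.ee_add, ← ZMod.natCast_zmod_val v.1, ← ZMod.natCast_zmod_val v.2, Nat.cast_smul_eq_nsmul,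
      Nat.cast_smul_eq_nsmul, b.ee_nsmul, b.ee_nsmul, ← h1, ← h2, conj_pow, conj_pow, conj_mul]
    rfl

theorem ee_xi : ee x u (2, 0) = x⁻¹ := by rw [← ee_x x u, ← b.ee_neg, ee_x]; rfl

theorem ee_ui : ee x u (0, 2) = u⁻¹ := by
  have := b.ee_neg (0, 1)
  rwa [ee_u] at this

theorem ee_s : ee x u (1, 1) = x * u := by
  rw [show ((1, 1) : ZMod 3 × ZMod 3) = (1, 0) + (0, 1) from rfl, b.ee_add, ee_x, ee_u]

theorem ee_w : ee x u (1, 2) = x * u⁻¹ := by
  rw [show ((1, 2) : ZMod 3 × ZMod 3) = (1, 0) + (0, 2) from rfl, b.ee_add, ee_x, b.ee_ui]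

theorem exists_l9 (hg : g ∈ normalizer (EE x u : Set G)) : ∃ a c, L9 x u g a c := by
  obtain ⟨a, ha⟩ := b.exists_ee (conj_mem_of_mem_normalizer hg (left_mem_EE x u))
  obtain ⟨c, hc⟩ := b.exists_ee (conj_mem_of_mem_normalizer hg (right_mem_EE x u))
  exact ⟨a, c, b.l9 ha.symm hc.symm⟩

theorem mem_norm {a c : ZMod 3 × ZMod 3} (l : L9 x u g a c) : g ∈ normalizer (EE x u : Set G) :=
  mem_normalizer_of_conj_mem fun p hp => by
    obtain ⟨v, rfl⟩ := b.exists_ee hp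
    exact l v ▸ ee_mem x u _

theorem mem_norm' (h1 : g * x * g⁻¹ ∈ EE x u) (h2 : g * u * g⁻¹ ∈ EE x u) : g ∈ normalizer (EE x u : Set G) := by
  obtain ⟨a, ha⟩ := b.exists_ee h1
  obtain ⟨c, hc⟩ := b.exists_ee h2
  exact b.mem_norm (b.l9 ha.symm hc.symm)

theorem neg {a c : ZMod 3 × ZMod 3} (h : L9 x u g a c) (e : a = (2, 0) ∧ c = (0, 2) := by decide) :
    ∀ p ∈ EE x u, g * p * g⁻¹ = p⁻¹ := fun p hp => by
  obtain ⟨v, rfl⟩ := b.exists_ee hp
  rw [h, ← b.ee_neg, e.1, e.2]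
  exact congrArg _ (by clear hp; revert v; decide)

theorem mem_zpowers_iff {v : ZMod 3 × ZMod 3} : ee x u v ∈ zpowers x ↔ v.2 = 0 := by
  refine ⟨fun h => ?_, fun h => by simp [ee, h]⟩
  rcases mem_zpowers_three b.cx h with e | e | e
  exacts [congrArg Prod.snd (b.ee_inj (e.trans (ee_zero x u).symm)), congrArg Prod.snd (b.ee_inj (e.trans (ee_x x u).symm)),
    congrArg Prod.snd (b.ee_inj (e.trans b.ee_xi.symm))]

theorem of_mem (hp : p ∈ EE x u) (h : p ∉ zpowers x) : B9 x p := ⟨b.ox, b.cube hp, b.comm' (left_mem_EE x u) hp, h⟩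

theorem EE_eq (hp : p ∈ EE x u) (h : p ∉ zpowers x) : EE x p = EE x u :=
  eq_of_le_of_card_ge (EE_le (left_mem_EE x u) hp) (b.card.trans (b.of_mem hp h).card.symm).le

theorem EE_eq' {q : G} (b' : B9 p q) (hp : p ∈ EE x u) (hq : q ∈ EE x u) : EE p q = EE x u :=
  eq_of_le_of_card_ge (EE_le hp hq) (b.card.trans b'.card.symm).le

theorem three : IsPGroup 3 (EE x u) := IsPGroup.of_card (n := 2) b.card

theorem commute (h1 : Commute g x) (h2 : Commute g u) (hp : p ∈ EE x u) : Commute g p :=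
  mem_centralizer_singleton_iff.mp (EE_le (K := centralizer {g}) (mem_centralizer_singleton_iff.mpr h1.symm)
    (mem_centralizer_singleton_iff.mpr h2.symm) hp) |>.symm

theorem nine_dvd (h1 : Commute g x) (h2 : Commute g u) : 9 ∣ cc g :=
  b.card ▸ card_dvd_cc fun _ hr => (b.commute h1 h2 hr).symm

end B9

theorem EE_swap (x u : G) : EE u x = EE x u := sup_comm _ _

theorem conj_EE (g x u : G) : MulAut.conj g • EE x u = EE (g * x * g⁻¹) (g * u * g⁻¹) := by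
  simp only [EE, smul_sup, conj_smul_eq_map, MonoidHom.map_zpowers]
  rfl

theorem baer_aux {p : ℕ} [Fact p.Prime] {S : Set G} {P R : Subgroup G} (hp : IsPGroup p P)
    (hS : ∀ g ∈ P, ∀ s ∈ S, g * s * g⁻¹ ∈ S) (hR : R ≤ P) (h : ¬ S ∩ P ⊆ R) :
    ∃ z ∈ S, z ∈ P ∧ z ∉ R ∧ z ∈ normalizer (closure (S ∩ R) : Set G) := by
  obtain ⟨M, hRM, hM⟩ := Finite.exists_le_maximal
    (p := fun M : Subgroup G => M ≤ P ∧ S ∩ M ⊆ R) (a := R) ⟨hR, Set.inter_subset_right⟩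
  have hlt : M < P := lt_of_le_of_ne hM.1.1 fun e => h (e ▸ hM.1.2)
  have := hp.isNilpotent
  obtain ⟨w, hw, h2, h3⟩ : ∃ x ∈ P, x ∈ normalizer (M : Set G) ∧ x ∉ M := by
    have h1 := Group.normalizerCondition_of_isNilpotent (G := P) (M.subgroupOf P) (lt_top_iff_ne_top.mpr fun e =>
      hlt.not_ge (subgroupOf_eq_top.mp e))
    obtain ⟨x, h2, h3⟩ := SetLike.exists_of_lt h1
    rw [← subgroupOf_normalizer_eq hlt.le] at h2
    exact ⟨x, x.2, h2, h3⟩
  have h1 : ¬ S ∩ (P ⊓ normalizer (M : Set G) : Subgroup G) ⊆ R := fun h' =>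
    h3 (hM.2 ⟨inf_le_left, h'⟩ (le_inf hlt.le le_normalizer) (mem_inf.mpr ⟨hw, h2⟩))
  obtain ⟨z, hz, hzR⟩ := Set.not_subset.1 h1
  refine ⟨z, hz.1, hz.2.1, hzR, mem_normalizer_of_conj_mem fun y hy => ?_⟩
  refine (?_ : closure (S ∩ R) ≤ (closure (S ∩ R)).comap (MulAut.conj z).toMonoidHom) hy
  rw [closure_le]
  intro d hd
  have h2 := hS z hz.2.1 d hd.1
  exact subset_closure ⟨h2, hM.1.2 ⟨h2, conj_mem_of_mem_normalizer hz.2.2 (hRM hd.2)⟩⟩

theorem baer_suzuki {p : ℕ} [Fact p.Prime] {x : G}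
    (h : ∀ a b, IsConj x a → IsConj x b → IsPGroup p ↥(zpowers a ⊔ zpowers b)) :
    ∃ N : Subgroup G, N.Normal ∧ IsPGroup p N ∧ x ∈ N := by
  set S : Set G := {s | IsConj x s} with hSd
  have hS : ∀ g, ∀ s ∈ S, g * s * g⁻¹ ∈ S := fun g s hs => hs.trans (isConj_iff.mpr ⟨g, rfl⟩)
  have hcard : ∀ P Q : Subgroup G, IsSylowIn p P ⊤ → IsSylowIn p Q ⊤ → (S ∩ Q).ncard ≤ (S ∩ P).ncard := by
    intro P Q hP hQ
    obtain ⟨g, hg, rfl⟩ := hQ.exists_conj hP
    exact Set.ncard_le_ncard_of_injOn (MulAut.conj g)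
      (fun s hs => ⟨hS g s hs.1, conj_mem_conj_smul g hs.2⟩) (MulAut.conj g).injective.injOn
  have hsymm : ∀ P Q : Subgroup G, IsSylowIn p P ⊤ → IsSylowIn p Q ⊤ → S ∩ P ⊆ Q → S ∩ Q ⊆ P := by
    intro P Q hP hQ hPQ
    rw [← Set.eq_of_subset_of_ncard_le (Set.subset_inter Set.inter_subset_left hPQ) (hcard P Q hP hQ)]
    exact Set.inter_subset_right
  have main : ∀ P Q : Subgroup G, IsSylowIn p P ⊤ → IsSylowIn p Q ⊤ → S ∩ P ⊆ Q := by
    by_contra hne
    push Not at hne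
    obtain ⟨⟨P, Q⟩, ⟨hP, hQ, hPQ⟩, hmax⟩ := Set.exists_max_image
      {PQ : Subgroup G × Subgroup G | IsSylowIn p PQ.1 ⊤ ∧ IsSylowIn p PQ.2 ⊤ ∧ ¬ S ∩ PQ.1 ⊆ PQ.2}
      (fun PQ => (S ∩ (PQ.1 ⊓ PQ.2 : Subgroup G)).ncard) (Set.toFinite _)
      (by obtain ⟨P, Q, h⟩ := hne; exact ⟨⟨P, Q⟩, h⟩)
    dsimp only at hP hQ hPQ hmax
    obtain ⟨y, hyS, hyP, hyR, hyN⟩ := baer_aux (R := P ⊓ Q) hP.isPGroup
      (fun g _ => hS g) inf_le_left fun h' => hPQ fun s hs => (h' hs).2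
    obtain ⟨z, hzS, hzQ, hzR, hzN⟩ := baer_aux (R := P ⊓ Q) hQ.isPGroup
      (fun g _ => hS g) inf_le_right fun h' => hPQ (hsymm Q P hQ hP fun s hs => (h' hs).1)
    have hD : closure (S ∩ (P ⊓ Q : Subgroup G)) ≤ P ⊓ Q := (closure_le _).2 Set.inter_subset_right
    obtain ⟨R, hR, hle⟩ := exists_isSylowIn_ge (N := ⊤)
      ((h y z hyS hzS).to_sup_of_normal_right' (hP.isPGroup.to_le (hD.trans inf_le_left))
        (sup_le (zpowers_le.2 hyN) (zpowers_le.2 hzN))) le_top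
    have hyR' : y ∈ R := hle (mem_sup_left (mem_sup_left (mem_zpowers y)))
    have hzR' : z ∈ R := hle (mem_sup_left (mem_sup_right (mem_zpowers z)))
    refine (hmax (R, P) ⟨hR, hP, fun h' => hzR ⟨h' ⟨hzS, hzR'⟩, hzQ⟩⟩).not_gt ?_
    refine Set.ncard_lt_ncard ⟨fun s hs => ⟨hs.1, hle (mem_sup_right (subset_closure hs)), hs.2.1⟩,
      fun h' => hyR (h' ⟨hyS, hyR', hyP⟩).2⟩
  obtain ⟨P, hP⟩ := exists_isSylowIn p (⊤ : Subgroup G)
  have hSP : closure S ≤ P := by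
    rw [closure_le]
    intro s hs
    obtain ⟨Q, hQ, hle⟩ := exists_isSylowIn_ge (N := ⊤) (h s s hs hs) le_top
    exact main Q P hQ hP ⟨hs, hle (mem_sup_left (mem_zpowers s))⟩
  refine ⟨closure S, ⟨fun y hy g => ?_⟩, hP.isPGroup.to_le hSP, subset_closure (IsConj.refl x)⟩
  refine (?_ : closure S ≤ (closure S).comap (MulAut.conj g).toMonoidHom) hy
  rw [closure_le]
  exact fun s hs => subset_closure (hS g s hs)

end Cfsg.Agent.Mat
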