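import Cfsg.Agent.Mat.M12F
import Cfsg.Agent.Mat.Facts8

/-! The centralizer of a 2-central involution. -/

set_option autoImplicit false
set_option linter.unusedSectionVars false

namespace Cfsg.Agent.Mat

open Subgroup MulAction Cfsg.Agent.M11

variable {G : Type*} [Group G] [Finite G]

theorem mem_zpowers_two {x y : G} (hx : x * x = 1) (h : y ∈ zpowers x) : y = 1 ∨ y = x := by
  obtain ⟨k, rfl⟩ := mem_powers_iff_mem_zpowers.mpr h
  show x ^ k = 1 ∨ x ^ k = x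
  rw [← Nat.div_add_mod k 2, pow_add, pow_mul, pow_two, hx, one_pow, one_mul]
  rcases Nat.mod_two_eq_zero_or_one k with e | e <;> simp [e]

/-- The data of the subgroup `GL₂(3)` in the centralizer of `z`. -/
structure GL12 (φ : cl ms7 →* G) : Prop where
  inj : Function.Injective φ
  cz : cc (φ z7) = 192
  n3 : {u | orderOf u = 3 ∧ Commute u (φ z7)}.ncard = 32
  cx : Nat.card ↥(centralizer {φ (el ms7 [4])} ⊓ centralizer {φ z7} : Subgroup G) = 6

namespace GL12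

variable {φ : cl ms7 →* G} (h : GL12 φ)
include h

theorem ord_z : orderOf (φ z7) = 2 := by
  rw [orderOf_injective φ h.inj]
  exact orderOf_eq_prime (by decide +kernel) (by decide +kernel)

theorem core : (∀ c, Commute c (φ z7) → ∀ a, isQ a → ∃ b, isQ b ∧ c * φ a * c⁻¹ = φ b) ∧
    ∀ c, Commute c (φ z7) → ∃ b, isQ b ∧ c ^ 12 = φ b := by
  have h1 : φ.range ≤ centralizer {φ z7} := by
    rintro _ ⟨u, rfl⟩
    exact mem_centralizer_singleton_iff.mpr (by rw [← map_mul, z7_comm, map_mul])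
  obtain ⟨N, hN, h2, h3, h4⟩ := exists_core h1 (n := 4) (by
    rw [← cc, h.cz, ← Nat.card_congr (φ.ofInjective h.inj).toEquiv, card7])
  rw [← cc, h.cz] at h3
  have h5 : ∀ w ∈ N, w ^ 3 = 1 → w = 1 := fun w hw hw3 => by_contra fun hw1 => by
    have h5 := Set.ncard_le_ncard (s := {u | orderOf u = 3 ∧ Commute u (φ z7)})
      (t := φ '' {u | u ^ 3 = 1 ∧ u ≠ 1}) fun u hu => by
      obtain ⟨c, hc⟩ := exists_conj_zpowers (G := centralizer {φ z7}) (p := 3) (m := 64) h.cz (by decide)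
        (x := ⟨w, h1 (hN hw)⟩) (y := ⟨u, mem_centralizer_singleton_iff.mpr hu.2⟩)
        (by rw [orderOf_mk]; exact orderOf_eq_prime hw3 hw1) (by rw [orderOf_mk]; exact hu.1)
      obtain ⟨k, hk⟩ := hc.le (mem_zpowers _)
      have e1 : (c.1 * w * c.1⁻¹) ^ k = u := congrArg Subtype.val hk
      obtain ⟨a, rfl⟩ := hN (e1 ▸ zpow_mem (h2 c c.2 w hw) k)
      have e2 := (orderOf_injective φ h.inj a).symm.trans hu.1
      exact ⟨a, ⟨e2 ▸ pow_orderOf_eq_one a, by rintro rfl; simp at e2⟩, rfl⟩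
    rw [h.n3, Set.ncard_image_of_injective _ h.inj, ncard_three7] at h5
    omega
  have h6 := Set.eq_of_subset_of_ncard_le (s := (N : Set G)) (t := φ '' {u | isQ u}) (fun w hw => by
    obtain ⟨a, rfl⟩ := hN hw
    refine ⟨a, (isQ_or a).resolve_right ?_, rfl⟩
    rintro ⟨c, e1, e2⟩
    refine e2 (h.inj ((h5 _ ?_ (by rw [← map_pow, e1, map_one])).trans (map_one φ).symm))
    simp only [map_pow, map_mul, map_inv]
    exact pow_mem (mul_mem hw (h2 _ (h1 ⟨c, rfl⟩) _ hw)) 2) (by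
      rw [Set.ncard_image_of_injective _ h.inj, ncard_isQ, ncard_coe]
      simp [Nat.factorial] at h3
      omega)
  refine ⟨fun c hc a ha => ?_, fun c hc => ?_⟩
  · obtain ⟨b, hb, e⟩ := h6.le (h2 c (mem_centralizer_singleton_iff.mpr hc) _ (h6.ge ⟨a, ha, rfl⟩))
    exact ⟨b, hb, e.symm⟩
  · obtain ⟨b, hb, e⟩ := h6.le (h4 12 (by decide +kernel) c (mem_centralizer_singleton_iff.mpr hc))
    exact ⟨b, hb, e.symm⟩

theorem conj_four {c : G} (hc : Commute c (φ z7)) {a : cl ms7} (ha : a * a = z7) :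
    ∃ b, b * b = z7 ∧ c * φ a * c⁻¹ = φ b := by
  obtain ⟨b, -, e⟩ := h.core.1 c hc a (.inl ha)
  refine ⟨b, h.inj ?_, e⟩
  rw [map_mul, ← e, conj_mul, ← map_mul, ha, hc.eq, mul_inv_cancel_right]

theorem orbit_i : {w | ∃ r ∈ centralizer {φ z7}, r * φ (el ms7 [0]) * r⁻¹ = w} = φ '' {u | u * u = z7} := by
  ext w
  constructor
  · rintro ⟨r, hr, rfl⟩
    obtain ⟨b, hb, e⟩ := h.conj_four (mem_centralizer_singleton_iff.mp hr) (a := el ms7 [0]) rfl
    exact ⟨b, hb, e.symm⟩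
  · rintro ⟨u, hu, rfl⟩
    obtain ⟨l, rfl⟩ := conj_i7 u hu
    exact ⟨φ l, mem_centralizer_singleton_iff.mpr (by rw [← map_mul, z7_comm, map_mul]), by simp⟩

theorem conj_j {c : G} (hc : Commute c (φ (el ms7 [0]))) :
    ∃ l, l * el ms7 [0] = el ms7 [0] * l ∧ c * φ (el ms7 [2]) * c⁻¹ = φ (l * el ms7 [2] * l⁻¹) := by
  obtain ⟨b, hb, e⟩ := h.conj_four (c := c) (by rw [show z7 = el ms7 [0] * el ms7 [0] from rfl, map_mul]; exact hc.mul_right hc)
    (a := el ms7 [2]) (by decide +kernel)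
  obtain ⟨l, h1, rfl⟩ := conj_j7 b hb fun e1 => by
    have e2 : Commute (φ (el ms7 [0])) (φ b) := by rw [Commute, SemiconjBy, ← map_mul, e1, map_mul]
    have e3 := commute_conj c⁻¹ e2
    rw [← e, hc.inv_left.eq, mul_inv_cancel_right, show c⁻¹ * (c * φ (el ms7 [2]) * c⁻¹) * c⁻¹⁻¹ = φ (el ms7 [2])
      by group, Commute, SemiconjBy, ← map_mul, ← map_mul] at e3
    exact absurd (h.inj e3) (by decide +kernel)
  exact ⟨l, h1, e⟩

theorem card_Ci : cc (φ (el ms7 [0])) = 32 := by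
  have h1 := card_inf_centralizer_mul (centralizer {φ z7}) (φ (el ms7 [0]))
  rw [h.orbit_i, Set.ncard_image_of_injective _ h.inj, ncard_i7, ← cc, h.cz, inf_eq_right.mpr fun c hc => by
    have hc' : Commute c _ := mem_centralizer_singleton_iff.mp hc
    rw [show z7 = el ms7 [0] * el ms7 [0] from rfl, map_mul]
    exact mem_centralizer_singleton_iff.mpr (hc'.mul_right hc'), ← cc] at h1
  omega

/-- The centralizer of the quaternion group. -/
def RR (φ : cl ms7 →* G) : Subgroup G := centralizer {φ (el ms7 [0])} ⊓ centralizer {φ (el ms7 [2])}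

omit h in
theorem mem_RR {r : G} : r ∈ RR φ ↔ Commute r (φ (el ms7 [0])) ∧ Commute r (φ (el ms7 [2])) := by
  simp only [RR, mem_inf, mem_centralizer_singleton_iff]; rfl

omit h in
theorem comm_Q {r : G} (hr : r ∈ RR φ) {a : cl ms7} (ha : isQ a) : Commute r (φ a) := by
  obtain ⟨m, -, n, -, rfl⟩ := isQ_words a ha
  rw [map_mul, map_pow, map_pow]
  exact ((mem_RR.mp hr).1.pow_right m).mul_right ((mem_RR.mp hr).2.pow_right n)

theorem card_RR : Nat.card (RR φ) = 8 := by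
  have h1 := card_inf_centralizer_mul (centralizer {φ (el ms7 [0])}) (φ (el ms7 [2]))
  rw [show {w | ∃ r ∈ centralizer {φ (el ms7 [0])}, r * φ (el ms7 [2]) * r⁻¹ = w} =
      φ '' {u | u * u = z7 ∧ el ms7 [0] * u ≠ u * el ms7 [0]} from Set.ext fun w => ⟨by
    rintro ⟨r, hr, rfl⟩
    obtain ⟨l, h2, e⟩ := h.conj_j (mem_centralizer_singleton_iff.mp hr)
    exact ⟨_, by clear e; revert l; decide +kernel, e.symm⟩, by
    rintro ⟨u, hu, rfl⟩
    obtain ⟨l, h2, rfl⟩ := conj_j7 u hu.1 hu.2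
    exact ⟨φ l, mem_centralizer_singleton_iff.mpr (by rw [← map_mul, h2, map_mul]), by simp⟩⟩,
    Set.ncard_image_of_injective _ h.inj, ncard_j7, ← cc, h.card_Ci] at h1
  unfold RR
  omega

theorem conj_RR {c r : G} (hc : Commute c (φ z7)) (hr : r ∈ RR φ) : c * r * c⁻¹ ∈ RR φ := by
  have key : ∀ a, isQ a → Commute (c * r * c⁻¹) (φ a) := fun a ha => by
    obtain ⟨b, hb, e⟩ := h.core.1 c⁻¹ hc.inv_left a ha
    have := commute_conj c (comm_Q hr hb)
    rwa [← e, show c * (c⁻¹ * φ a * c⁻¹⁻¹) * c⁻¹ = φ a by group] at this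
  exact mem_RR.mpr ⟨key _ (.inl rfl), key _ (by decide +kernel)⟩

theorem decomp_i {c : G} (hc : Commute c (φ (el ms7 [0]))) :
    ∃ l, l * el ms7 [0] = el ms7 [0] * l ∧ ∃ r ∈ RR φ, c = φ l * r := by
  obtain ⟨l, h1, e⟩ := h.conj_j hc
  refine ⟨l, h1, (φ l)⁻¹ * c, mem_RR.mpr ⟨Commute.mul_left (Commute.inv_left ?_) hc, mul_inv_eq_iff_eq_mul.mp ?_⟩,
    by group⟩
  · rw [Commute, SemiconjBy, ← map_mul, h1, map_mul]
  · calc _ = (φ l)⁻¹ * (c * φ (el ms7 [2]) * c⁻¹) * φ l := by group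
      _ = _ := by rw [e, map_mul, map_mul, map_inv]; group

theorem decomp {c : G} (hc : Commute c (φ z7)) : ∃ l, ∃ r ∈ RR φ, c = φ l * r := by
  obtain ⟨u, hu, e⟩ := h.orbit_i.le ⟨c, mem_centralizer_singleton_iff.mpr hc, rfl⟩
  obtain ⟨l, rfl⟩ := conj_i7 u hu
  obtain ⟨l', -, r, hr, e'⟩ := h.decomp_i (c := (φ l)⁻¹ * c) (mul_inv_eq_iff_eq_mul.mp (by
    calc _ = (φ l)⁻¹ * (c * φ (el ms7 [0]) * c⁻¹) * φ l := by group
      _ = _ := by rw [← e, map_mul, map_mul, map_inv]; group))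
  exact ⟨l * l', r, hr, by rw [map_mul, mul_assoc, ← e', mul_inv_cancel_left]⟩

theorem z_mem : φ z7 ∈ RR φ :=
  mem_RR.mpr ⟨by rw [Commute, SemiconjBy, ← map_mul, ← z7_comm, map_mul],
    by rw [Commute, SemiconjBy, ← map_mul, ← z7_comm, map_mul]⟩

theorem fix_x {r : G} (hr : r ∈ RR φ) (hc : Commute r (φ (el ms7 [4]))) : r ∈ zpowers (φ z7) := by
  have h1 : zpowers (φ z7) ≤ RR φ ⊓ centralizer {φ (el ms7 [4])} := zpowers_le.mpr (mem_inf.mpr ⟨h.z_mem,
    mem_centralizer_singleton_iff.mpr (by rw [← map_mul, ← z7_comm, map_mul])⟩)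
  have h2 : Nat.card ↥(RR φ ⊓ centralizer {φ (el ms7 [4])}) ∣ 6 := h.cx ▸ card_dvd_of_le fun u hu =>
    mem_inf.mpr ⟨(mem_inf.mp hu).2, mem_centralizer_singleton_iff.mpr (comm_Q (mem_inf.mp hu).1 (.inr (.inr rfl)))⟩
  refine (eq_of_le_of_card_ge h1 ?_).ge (mem_inf.mpr ⟨hr, mem_centralizer_singleton_iff.mpr hc⟩)
  rw [Nat.card_zpowers, h.ord_z]
  exact Nat.le_of_dvd two_pos (Nat.dvd_gcd h2 ((card_dvd_of_le inf_le_left).trans h.card_RR.dvd))

omit h in
theorem comm_z (u : cl ms7) : Commute (φ u) (φ z7) := by rw [Commute, SemiconjBy, ← map_mul, z7_comm, map_mul]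

omit h in
theorem cube_x : φ (el ms7 [4]) ^ 3 = 1 := by
  rw [← map_pow, ← map_one φ]; exact congrArg φ (by decide +kernel)

theorem ne_x {x z : G} (hx : x = φ (el ms7 [4])) (hz : z = φ z7) (s : G) (hs : s ∈ RR φ) (hs' : s ∉ zpowers z)
    (e : G) (he : e ∈ zpowers z) : x * s * x⁻¹ ≠ e * s := fun h1 => by
  have hxz : Commute x z := hx ▸ hz ▸ comm_z _
  have hx3 : x ^ 3 = 1 := hx ▸ cube_x
  have hz2 : z * z = 1 := hz ▸ sq_of_two h.ord_z
  have h2 : x * e * x⁻¹ = e := by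
    obtain ⟨k, rfl⟩ := he
    rw [(hxz.zpow_right k).eq, mul_inv_cancel_right]
  have h3 : e * e = 1 := by rcases mem_zpowers_two hz2 he with rfl | rfl <;> simp [hz2]
  have h4 : Commute s (x ^ 2) := (mul_inv_eq_iff_eq_mul.mp (by
    calc x ^ 2 * s * (x ^ 2)⁻¹ = x * (x * s * x⁻¹) * x⁻¹ := by rw [pow_two]; group
      _ = x * (e * s) * x⁻¹ := by rw [h1]
      _ = x * e * x⁻¹ * (x * s * x⁻¹) := by group
      _ = s := by rw [h2, h1, ← mul_assoc, h3, one_mul])).symm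
  have h5 := h4.pow_right 2
  rw [← pow_mul, pow_succ, hx3, one_mul] at h5
  exact hs' (hz ▸ h.fix_x hs (hx ▸ h5))

omit h [Finite G] in
theorem not_mem_conj {z : G} (c : G) (hc : Commute c z) (s : G) (hs : s ∉ zpowers z) : c * s * c⁻¹ ∉ zpowers z := by
  rintro ⟨k, hk⟩
  exact hs ⟨k, by
    rw [show s = c⁻¹ * z ^ k * c by rw [show z ^ k = _ from hk]; group, mul_assoc, ← (hc.zpow_right k).eq,
      inv_mul_cancel_left]⟩

theorem elements {r : G} (hr : r ∈ RR φ) (hr' : r ∉ zpowers (φ z7)) {x z : G} (hx : x = φ (el ms7 [4]))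
    (hz : z = φ z7) {u : G} (hu : u ∈ RR φ) : ∃ e ∈ zpowers z, u = e ∨ u = e * r ∨ u = e * (x * r * x⁻¹) ∨
      u = e * (x⁻¹ * r * x) := by
  have hxz : Commute x z := hx ▸ hz ▸ comm_z _
  have hx3 : x ^ 3 = 1 := hx ▸ cube_x
  have key := h.ne_x hx hz
  have nm := not_mem_conj (z := z)
  rw [← hz] at hr'
  have m2 := h.conj_RR (hz ▸ hxz) hr
  have m3 := h.conj_RR (hz ▸ hxz.inv_left) hr
  have n2 := nm x hxz r hr'
  have n3 := nm x⁻¹ hxz.inv_left r hr'
  rw [inv_inv] at m3 n3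
  have d2 := key r hr hr'
  have d3 := key _ m3 n3
  have d1 := key _ m2 n2
  rw [show x * (x⁻¹ * r * x) * x⁻¹ = r by group] at d3
  rw [show x * (x * r * x⁻¹) * x⁻¹ = x⁻¹ * r * x by
    calc _ = x⁻¹ * x ^ 3 * r * (x ^ 3)⁻¹ * x := by simp only [pow_succ, pow_zero, one_mul]; group
      _ = _ := by rw [hx3]; group] at d1
  let f : Fin 4 → G := ![1, r, x * r * x⁻¹, x⁻¹ * r * x]
  have hf : ∀ a b, ∀ e ∈ zpowers z, f a = e * f b → a = b := by
    have sw : ∀ {s t e : G}, e ∈ zpowers z → s = e * t → ∃ e' ∈ zpowers z, t = e' * s := fun he e =>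
      ⟨_, inv_mem he, eq_inv_mul_iff_mul_eq.mpr e.symm⟩
    have o1 : ∀ {s e : G}, s ∉ zpowers z → e ∈ zpowers z → s ≠ e * 1 := fun hs he e => hs (e ▸ mul_mem he (one_mem _))
    intro a b e he h1
    obtain ⟨e', he', h2⟩ := sw he h1
    fin_cases a <;> fin_cases b <;> first | rfl | exfalso
    all_goals first
      | exact o1 hr' he h1 | exact o1 hr' he' h2 | exact o1 n2 he h1 | exact o1 n2 he' h2 | exact o1 n3 he h1
      | exact o1 n3 he' h2 | exact d2 _ he h1 | exact d2 _ he' h2 | exact d3 _ he h1 | exact d3 _ he' h2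
      | exact d1 _ he h1 | exact d1 _ he' h2
  have h1 := Set.eq_of_subset_of_ncard_le (s := Set.range fun p : zpowers z × Fin 4 => p.1.1 * f p.2)
    (t := RR φ) (by
      rintro _ ⟨⟨e, a⟩, rfl⟩
      refine mul_mem (zpowers_le.mpr (hz ▸ h.z_mem) e.2) ?_
      fin_cases a
      exacts [one_mem _, hr, m2, m3]) (by
      rw [Set.ncard_range_of_injective, ncard_coe, h.card_RR, Nat.card_prod, Nat.card_zpowers, hz, h.ord_z]
      · simp
      rintro ⟨e, a⟩ ⟨e', b⟩ h1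
      obtain rfl := hf a b (e.1⁻¹ * e'.1) (mul_mem (inv_mem e.2) e'.2) (by rw [mul_assoc]; exact eq_inv_mul_iff_mul_eq.mpr h1)
      exact Prod.ext (Subtype.ext (mul_right_cancel h1)) rfl)
  obtain ⟨⟨e, a⟩, rfl⟩ := h1.ge hu
  refine ⟨e, e.2, ?_⟩
  fin_cases a <;> simp [f]

end GL12

end Cfsg.Agent.Mat
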