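import Cfsg.Agent.Mat.M12G

/-! The centralizer of a 2-central involution is the holomorph of the quaternion group. -/

set_option autoImplicit false
set_option linter.unusedSectionVars false

namespace Cfsg.Agent.Mat

open Subgroup MulAction Cfsg.Agent.M11

variable {G : Type*} [Group G] [Finite G]

namespace GL12

variable {φ : cl ms7 →* G} (h : GL12 φ)
include h

omit h in
theorem comm_e {r e : G} (hr : r ∈ RR φ) (he : e ∈ zpowers (φ z7)) : Commute r e := by
  obtain ⟨k, rfl⟩ := he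
  exact (comm_Q hr (.inr (.inr rfl))).zpow_right k

theorem not_elem (hK : ∀ v : G, orderOf v = 2 → 32 ∣ cc v → IsConj (φ z7) v) {r : G} (hr : r ∈ RR φ)
    (hr' : r ∉ zpowers (φ z7)) : r * r ≠ 1 := fun h1 => by
  have hz2 := sq_of_two h.ord_z
  have hxz := comm_z (φ := φ) (el ms7 [4])
  have he2 : ∀ e ∈ zpowers (φ z7), e * e = 1 := fun e he => by
    rcases mem_zpowers_two hz2 he with rfl | rfl <;> simp [hz2]
  have h2 : ∀ u ∈ RR φ, u * u = 1 := fun u hu => by
    have k : ∀ e ∈ zpowers (φ z7), ∀ c, Commute c (φ z7) → e * (c * r * c⁻¹) * (e * (c * r * c⁻¹)) = 1 :=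
      fun e he c hc => by
        rw [(comm_e (h.conj_RR hc hr) he).mul_mul_mul_comm, he2 e he, conj_mul, h1]
        group
    obtain ⟨e, he, rfl | rfl | rfl | rfl⟩ := h.elements hr hr' rfl rfl hu
    · exact he2 _ he
    · simpa using k e he 1 (Commute.one_left _)
    · exact k e he _ hxz
    · simpa using k e he _ hxz.inv_left
  have h3 : ∀ u ∈ RR φ, ∀ v ∈ RR φ, Commute u v := fun u hu v hv => by
    have := h2 _ (mul_mem hu hv)
    calc u * v = u * v * (u * u) * (v * v) := by rw [h2 u hu, h2 v hv]; group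
      _ = u * v * (u * v) * (v⁻¹ * u * v * v) := by group
      _ = (v * v)⁻¹ * (v * u) * (v * v) := by rw [this]; group
      _ = v * u := by rw [h2 v hv]; group
  set c := φ (el ms7 [5, 0, 6]) with hc
  have hcz : Commute c (φ z7) := comm_z _
  have hc2 : c * c = φ (el ms7 [0]) := by rw [← map_mul]; exact congrArg φ (by decide +kernel)
  have h4 : ∀ s ∈ RR φ, (∃ v ∈ RR φ, v ∉ zpowers (φ z7) ∧ Commute c v) ∨ c * s * c⁻¹ = s ∨
      c * s * c⁻¹ = φ z7 * s := fun s hs => by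
    by_cases h4 : s * (c * s * c⁻¹) ∈ zpowers (φ z7)
    · right
      have e : c * s * c⁻¹ = s * (c * s * c⁻¹) * s := by
        rw [(h3 s hs _ (h.conj_RR hcz hs)).eq, mul_assoc _ s s, h2 s hs, mul_one]
      rcases mem_zpowers_two hz2 h4 with e1 | e1 <;> rw [e1] at e
      exacts [.inl (e.trans (one_mul s)), .inr e]
    · refine .inl ⟨_, mul_mem hs (h.conj_RR hcz hs), h4, mul_inv_eq_iff_eq_mul.mp ?_⟩
      calc _ = c * s * c⁻¹ * ((c * c) * s * (c * c)⁻¹) := by group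
        _ = _ := by
          rw [hc2, ← (mem_RR.mp hs).1.eq, mul_inv_cancel_right, (h3 s hs _ (h.conj_RR hcz hs)).eq]
  obtain ⟨v, hv, hv', hcv⟩ : ∃ v ∈ RR φ, v ∉ zpowers (φ z7) ∧ Commute c v := by
    have m2 := h.conj_RR hxz hr
    rcases h4 r hr with e1 | e1 | e1
    · exact e1
    · exact ⟨r, hr, hr', mul_inv_eq_iff_eq_mul.mp e1⟩
    rcases h4 _ m2 with e2 | e2 | e2
    · exact e2
    · exact ⟨_, m2, not_mem_conj _ hxz _ hr', mul_inv_eq_iff_eq_mul.mp e2⟩
    refine ⟨_, mul_mem m2 hr, fun h5 => h.ne_x rfl rfl r hr hr' _ h5 (by rw [mul_assoc _ r r, h1, mul_one]),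
      mul_inv_eq_iff_eq_mul.mp ?_⟩
    rw [← conj_mul, e1, e2, (h3 _ m2 _ h.z_mem).mul_mul_mul_comm, hz2, one_mul]
  obtain ⟨g, rfl⟩ := isConj_iff.mp (hK v (orderOf_eq_prime ((pow_two v).trans (h2 v hv)) fun e => hv' (e ▸ one_mem _))
    (h.card_Ci ▸ card_dvd_cc fun u hu => by
      obtain ⟨l, hl, s, hs, rfl⟩ := h.decomp_i (mem_centralizer_singleton_iff.mp hu)
      obtain ⟨m, -, rfl⟩ := cent_i7 l hl
      rw [map_pow]
      exact (hcv.pow_left m).mul_left (h3 s hs v hv)))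
  obtain ⟨b, hb, e⟩ := h.core.2 (g⁻¹ * c * g⁻¹⁻¹) (by
    have := commute_conj g⁻¹ hcv
    rwa [show g⁻¹ * (g * φ z7 * g⁻¹) * g⁻¹⁻¹ = φ z7 by group] at this)
  rw [conj_pow, hc, ← map_pow, show el ms7 [5, 0, 6] ^ 12 = z7 by decide +kernel] at e
  have hz1 : φ z7 ≠ 1 := fun e => by have := h.ord_z; rw [e, orderOf_one] at this; omega
  rcases hb with hb | rfl | rfl
  · refine hz1 ?_
    rw [← hb, map_mul, ← e, conj_mul, hz2]
    group
  · refine hz1 ?_
    rw [map_one, conj_eq_one_iff] at e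
    exact e
  · refine hv' ?_
    rw [show g * φ z7 * g⁻¹ = φ z7 by nth_rw 1 [← e]; group]
    exact mem_zpowers _

theorem exists_r (hK : ∀ v : G, orderOf v = 2 → 32 ∣ cc v → IsConj (φ z7) v) {x z t : G}
    (hx : x = φ (el ms7 [4])) (hz : z = φ z7) (ht : t = φ (el ms7 [6])) :
    ∃ r ∈ RR φ, r * r = z ∧ r * (x * r * x⁻¹) = x⁻¹ * r * x ∧ t * r * t * (x * r * x⁻¹) = 1 := by
  have hz2 : z * z = 1 := hz ▸ sq_of_two h.ord_z
  have hz1 : z ≠ 1 := fun e => by have := h.ord_z; rw [← hz, e, orderOf_one] at this; omega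
  have hxz : Commute x z := hx ▸ hz ▸ comm_z _
  have htz : Commute t z := ht ▸ hz ▸ comm_z _
  have hx3 : x ^ 3 = 1 := hx ▸ cube_x
  have ht2 : t * t = 1 := by rw [ht, ← map_mul, ← map_one φ]; exact congrArg φ (by decide +kernel)
  have htx : t * x * t = x⁻¹ := by
    rw [ht, hx, ← map_mul, ← map_mul, ← map_inv]; exact congrArg φ (by decide +kernel)
  have hti : t⁻¹ = t := inv_eq_of_mul_eq_one_right ht2
  have hc : ∀ {r e : G}, r ∈ RR φ → e ∈ zpowers z → Commute r e := fun hr he => comm_e hr (hz ▸ he)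
  have hce : ∀ {c e : G}, Commute c z → e ∈ zpowers z → c * e * c⁻¹ = e := by
    rintro c _ hc ⟨k, rfl⟩
    rw [(hc.zpow_right k).eq, mul_inv_cancel_right]
  have hxx : ∀ r, x * (x * r * x⁻¹) * x⁻¹ = x⁻¹ * r * x := fun r =>
    calc _ = x⁻¹ * x ^ 3 * r * (x ^ 3)⁻¹ * x := by simp only [pow_succ, pow_zero, one_mul]; group
      _ = _ := by rw [hx3]; group
  let P : G → Prop := fun r => r ∈ RR φ ∧ r ∉ zpowers z ∧ r * r = z ∧ r * (x * r * x⁻¹) = x⁻¹ * r * x
  have hP : ∀ r, P r → P (x * r * x⁻¹) := fun r ⟨h1, h2, h3, h4⟩ => ⟨h.conj_RR (hz ▸ hxz) h1,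
    not_mem_conj _ hxz _ h2, by rw [conj_mul, h3, hce hxz (mem_zpowers z)], by
      rw [conj_mul, h4]; group⟩
  obtain ⟨r, hr⟩ : ∃ r, P r := by
    obtain ⟨V, h1, h2, h3⟩ := Pres.exists_le_card_pow_succ (p := 2) (k := 1) (H := RR φ)
      (zpowers_le.mpr h.z_mem) (by rw [Nat.card_zpowers, h.ord_z]; rfl) (by rw [h.card_RR]; decide)
    obtain ⟨r, hr, hr'⟩ : ∃ r ∈ V, r ∉ zpowers (φ z7) := by
      by_contra! h4
      have := card_le_of_le (show V ≤ zpowers (φ z7) from h4)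
      rw [h3, Nat.card_zpowers, h.ord_z] at this
      omega
    have h4 := sq_mem_of_card h1 (by rw [h3, Nat.card_zpowers, h.ord_z]; rfl) hr
    rw [pow_two, ← hz] at h4
    have h5 := (mem_zpowers_two hz2 h4).resolve_left (h.not_elem hK (h2 hr) hr')
    have m2 := h.conj_RR (hz ▸ hxz) (h2 hr)
    obtain ⟨e, he, e1 | e1 | e1 | e1⟩ := h.elements (h2 hr) hr' hx hz (mul_mem (h2 hr) m2)
    · refine absurd ?_ (h.ne_x hx hz r (h2 hr) (hz ▸ hr') (e * z⁻¹) (mul_mem he (inv_mem (mem_zpowers z))))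
      rw [← h5, eq_inv_mul_of_mul_eq e1, (hc (h2 hr) he).inv_left.eq]
      group
    · rw [← (hc (h2 hr) he).eq, mul_right_inj] at e1
      exact absurd (e1 ▸ he) (not_mem_conj _ hxz _ (hz ▸ hr'))
    · exact absurd (hz ▸ mul_right_cancel e1 ▸ he) hr'
    rcases mem_zpowers_two hz2 he with rfl | rfl
    · exact ⟨r, h2 hr, hz ▸ hr', h5, e1.trans (one_mul _)⟩
    have k := hc (h2 hr) he
    refine ⟨e * r, mul_mem (hz ▸ h.z_mem) (h2 hr), fun h6 => hr' (hz ▸ (mul_mem_cancel_left he).mp h6),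
      by rw [k.mul_mul_mul_comm, hz2, h5, one_mul], ?_⟩
    rw [← conj_mul, hce hxz he, k.mul_mul_mul_comm, hz2, one_mul, e1, ← mul_assoc x⁻¹, hxz.inv_left.eq]
    group
  have key : ∀ r, P r → ∀ e ∈ zpowers z, t * r * t = e * (x * r * x⁻¹) →
      ∃ r ∈ RR φ, r * r = z ∧ r * (x * r * x⁻¹) = x⁻¹ * r * x ∧ t * r * t * (x * r * x⁻¹) = 1 := by
    intro r hr e he e1
    have h2 := (hP r hr).2.2.1
    refine ⟨r, hr.1, hr.2.2.1, hr.2.2.2, ?_⟩
    rcases mem_zpowers_two hz2 he with rfl | rfl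
    · exfalso
      rw [one_mul] at e1
      have h3 := (hP _ (hP r hr)).2.2.1
      have e2 : t * (x * r * x⁻¹) * t = r := by rw [← e1, ← mul_assoc, ← mul_assoc, ht2, one_mul, mul_assoc, ht2, mul_one]
      have e3 : x * r * x⁻¹ * r = r * (x * r * x⁻¹) := by
        calc _ = t * (r * (x * r * x⁻¹)) * t := by
              nth_rw 2 [← e2]; rw [← e1]
              calc _ = t * r * (t * t) * (t * r * t) * t := by group
                _ = _ := by rw [ht2]; group
          _ = (t * x * t)⁻¹ * (t * r * t) * (t * x * t) := by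
            rw [hr.2.2.2]
            calc _ = t * x⁻¹ * (t * t)⁻¹ * (t * t) * r * (t * t) * x * t := by rw [ht2]; group
              _ = _ := by nth_rw 1 [← hti]; group
          _ = _ := by rw [htx, e1, inv_inv, hxx, hr.2.2.2]
      rw [hxx, ← hr.2.2.2, (show Commute _ _ from e3).mul_mul_mul_comm, hr.2.2.1, h2, hz2] at h3
      exact hz1 h3.symm
    · rw [e1, mul_assoc, h2, hz2]
  obtain ⟨e, he, e1 | e1 | e1 | e1⟩ := h.elements hr.1 (hz ▸ hr.2.1) hx hz (h.conj_RR (hz ▸ htz) hr.1)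
  · exact absurd (e1 ▸ he) (not_mem_conj _ htz _ hr.2.1)
  · refine key _ (hP r hr) e he ?_
    calc _ = (t * x * t) * (t * t)⁻¹ * (t * r * t⁻¹) * (t * t) * (t * x * t)⁻¹ * (t * t) := by group
      _ = x⁻¹ * e * x⁻¹⁻¹ * (x⁻¹ * r * x) := by rw [ht2, htx, e1]; group
      _ = _ := by rw [hce hxz.inv_left he, hxx]
  · exact key r hr e he (by rwa [hti] at e1)
  · refine key _ (hP _ (hP r hr)) e he ?_
    rw [hxx r]
    calc _ = (t * t) * (t * x * t)⁻¹ * (t * t) * (t * t)⁻¹ * (t * r * t⁻¹) * (t * x * t) := by group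
      _ = x * e * x⁻¹ * r := by rw [ht2, htx, e1]; group
      _ = _ := by rw [hce hxz he]; group

theorem exists_hol (hK : ∀ v : G, orderOf v = 2 → 32 ∣ cc v → IsConj (φ z7) v) {gs : List G} (hl : gs.length = 7)
    (hφ : ∀ w, φ (el ms7 w) = ev gs w) : ∃ (r : G) (f : cl ms8 →* G), Function.Injective f ∧
      (∀ w, f (el ms8 w) = ev (gs ++ [r, r⁻¹]) w) ∧ f.range = centralizer {φ z7} := by
  obtain ⟨r, hr, h1, h2, h3⟩ := h.exists_r hK rfl rfl rfl
  have e1 : ∀ w : List ℕ, w.all (Nat.blt · 7) = true → ev (gs ++ [r, r⁻¹]) w = φ (el ms7 w) := fun w hw => by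
    rw [hφ, ← ev_take hw, List.take_left' hl]
  have g1 : ∀ a < 7, (gs ++ [r, r⁻¹]).getD a 1 = φ (el ms7 [a]) := fun a ha => by
    rw [← e1 [a] (by simpa using ha), ev, ev, mul_one]
  have g7 : (gs ++ [r, r⁻¹]).getD 7 1 = r := by simp [hl]
  have g8 : (gs ++ [r, r⁻¹]).getD 8 1 = r⁻¹ := by simp [hl]
  have i1 : φ (el ms7 [1]) = (φ (el ms7 [0]))⁻¹ := by rw [← map_inv]; exact congrArg φ (by decide +kernel)
  have i3 : φ (el ms7 [3]) = (φ (el ms7 [2]))⁻¹ := by rw [← map_inv]; exact congrArg φ (by decide +kernel)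
  have i5 : φ (el ms7 [5]) = (φ (el ms7 [4]))⁻¹ := by rw [← map_inv]; exact congrArg φ (by decide +kernel)
  have hz : φ (el ms7 [0]) * φ (el ms7 [0]) = φ z7 := (map_mul φ _ _).symm
  obtain ⟨f, hf⟩ := exists_hom_words (ms := ms8) (gs := gs ++ [r, r⁻¹]) (by simp [hl]; rfl)
    (fun l hl' => presHol l (by simp [hl', hl])) card_cl8 relsHol_ms8 fun w hw => by
      rcases (by decide +kernel : ∀ w ∈ relsHol, (w.all (Nat.blt · 7) = true ∧ el ms7 w = 1) ∨ w = [7, 8] ∨ w = [8, 7] ∨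
        w = [7, 0, 8, 1] ∨ w = [7, 2, 8, 3] ∨ w = [7, 7, 0, 0] ∨ w = [7, 4, 7, 4, 8, 4] ∨ w = [6, 7, 6, 4, 7, 5]) w hw
        with ⟨e2, e3⟩ | rfl | rfl | rfl | rfl | rfl | rfl | rfl
      · rw [e1 w e2, e3, map_one]
      all_goals simp only [ev, g7, g8, g1 0 (by decide), g1 1 (by decide), g1 2 (by decide), g1 3 (by decide),
        g1 4 (by decide), g1 5 (by decide), g1 6 (by decide), i1, i3, i5, mul_one]
      · exact mul_inv_cancel r
      · exact inv_mul_cancel r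
      · rw [← mul_assoc, (mem_RR.mp hr).1.eq]; group
      · rw [← mul_assoc, (mem_RR.mp hr).2.eq]; group
      · rw [← mul_assoc, h1, hz, sq_of_two h.ord_z]
      · calc _ = r * (φ (el ms7 [4]) * r * (φ (el ms7 [4]))⁻¹) * φ (el ms7 [4]) ^ 3 *
              ((φ (el ms7 [4]))⁻¹ * r * φ (el ms7 [4]))⁻¹ := by simp only [pow_succ, pow_zero, one_mul]; group
          _ = 1 := by rw [h2, cube_x]; group
      · rw [← h3]; group
  have m1 : ∀ l, φ l ∈ f.range := fun l => by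
    obtain ⟨w, rfl⟩ := el_surj l
    rw [hφ, range_eq_cl hf]
    exact ev_mem (fun x hx => mem_cl (List.mem_append_left _ hx)) w
  have m2 : r ∈ f.range := by rw [range_eq_cl hf]; exact mem_cl (by simp)
  have h4 : centralizer {φ z7} ≤ f.range := fun c hc => by
    obtain ⟨l, s, hs, rfl⟩ := h.decomp (mem_centralizer_singleton_iff.mp hc)
    obtain ⟨e, he, e2⟩ := h.elements hr (fun h5 => by
      have hz2 := sq_of_two h.ord_z
      have := h.ord_z
      rcases mem_zpowers_two hz2 h5 with rfl | rfl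
      · rw [← h1, mul_one, orderOf_one] at this; omega
      · rw [← h1, hz2, orderOf_one] at this; omega) rfl rfl hs
    have m3 : e ∈ f.range := zpowers_le.mpr (m1 _) he
    refine mul_mem (m1 l) ?_
    rcases e2 with rfl | rfl | rfl | rfl
    exacts [m3, mul_mem m3 m2, mul_mem m3 (mul_mem (mul_mem (m1 _) m2) (inv_mem (m1 _))),
      mul_mem m3 (mul_mem (mul_mem (inv_mem (m1 _)) m2) (m1 _))]
  have h5 := card_le_of_le h4
  have h6 := card_eq_card_quotient_mul_card_subgroup f.ker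
  rw [Nat.card_congr (QuotientGroup.quotientKerEquivRange f).toEquiv, card8] at h6
  rw [← cc, h.cz] at h5
  have h7 := Nat.card_pos (α := f.ker)
  have h8 : Nat.card f.ker = 1 := by nlinarith
  refine ⟨r, f, f.ker_eq_bot_iff.mp (eq_bot_of_card_eq _ h8), hf, (eq_of_le_of_card_ge h4 ?_).symm⟩
  rw [← cc, h.cz]
  nlinarith

end GL12

end Cfsg.Agent.Mat
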