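import Cfsg.Agent.Mat.M12E

/-! Order statistics of a group with the order and same-order counts of `M22`. -/

set_option autoImplicit false
set_option linter.unusedSectionVars false

namespace Cfsg.Agent.Mat

open Subgroup MulAction Cfsg.Agent.M11

variable {G : Type*} [Group G] [Finite G]

theorem exists_mul_ord {S : Finset ℕ} (hk : ∀ g : G, orderOf g ∈ S) {p a : ℕ} {x : G} (hp : p.Prime)
    (hx : orderOf x = p) (h4 : p ^ a < cc x) (h5 : ¬ p ^ (a + 1) ∣ Nat.card G) :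
    ∃ q, q.Prime ∧ q ≠ p ∧ q * p ∈ S := by
  by_contra hn
  have h6 := Nat.eq_prime_pow_of_unique_prime_dvd (p := p) (cc_pos x).ne' fun {q} hq hqc => by_contra fun hqp => by
    obtain ⟨y, hy, hc⟩ := exists_of_prime_dvd_cc hq hqc
    refine hn ⟨q, hq, hqp, ?_⟩
    rw [← hy, ← hx, ← hc.orderOf_mul_eq_mul_orderOf_of_coprime
      (by rw [hy, hx]; exact (Nat.coprime_primes hq hp).mpr hqp)]
    exact hk _
  rw [h6] at h4
  exact h5 ((pow_dvd_pow p ((Nat.pow_lt_pow_iff_right hp.one_lt).mp h4)).trans (h6 ▸ cc_dvd x))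

theorem le_cc_of_mo {x : G} {k : ℕ} (h : mo G (orderOf x) * k ≤ Nat.card G) : k ≤ cc x := by
  have h7 := cc_mul x
  have h9 := ncard_class_le x
  have h8 := Nat.card_pos (α := G)
  by_contra h10
  have : 0 < {w | IsConj x w}.ncard := by by_contra; nlinarith
  nlinarith

theorem conj_of_cc {x y : G} (h : mo G (orderOf x) * cc x ≤ Nat.card G) (hy : orderOf y = orderOf x) : IsConj x y := by
  have h7 := cc_mul x
  exact (Set.eq_of_subset_of_ncard_le (s := {w | IsConj x w}) (t := {w | orderOf w = orderOf x})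
    (fun w hw => (orderOf_eq_of_isConj hw).symm)
    (Nat.le_of_mul_le_mul_right (h.trans (by rw [mul_comm, h7])) (cc_pos x))).ge hy

theorem coprime_cc {S : Finset ℕ} (hk : ∀ g : G, orderOf g ∈ S) {x : G} {p : ℕ} (hp : p.Prime)
    (h : p.Coprime (orderOf x)) (h' : p * orderOf x ∉ S) : (cc x).Coprime p := by
  refine ((Nat.Prime.coprime_iff_not_dvd hp).mpr fun h2 => h' ?_).symm
  obtain ⟨y, rfl, hc⟩ := exists_of_prime_dvd_cc hp h2
  rw [← hc.orderOf_mul_eq_mul_orderOf_of_coprime h]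
  exact hk _

/-- The order statistics. -/
structure N22 (G : Type*) [Group G] : Prop where
  card : Nat.card G = 443520
  spec : ∀ g : G, orderOf g ∈ ({1, 2, 3, 4, 5, 6, 7, 8, 11} : Finset ℕ)
  m2 : mo G 2 = 1155
  m3 : mo G 3 = 12320
  m6 : mo G 6 = 36960

theorem arith22 {a b c d e f : ℕ} (ha : a = 0 ∨ a = 41580 ∨ a = 36960 ∨ a = 55440)
    (hb : b = 0 ∨ b = 41580 ∨ b = 36960 ∨ b = 55440) (hc : c = 0 ∨ c = 41580 ∨ c = 36960 ∨ c = 55440)
    (hd : d = 0 ∨ d = 41580 ∨ d = 36960 ∨ d = 55440) (z1 : a = 0 → b = 0) (z2 : b = 0 → c = 0) (z3 : c = 0 → d = 0)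
    (z4 : d = 0 → e = 0) (z5 : d = 0 → f = 0) (n1 : b = 0 ∨ b ≠ a) (n2 : c = 0 ∨ c ≠ a) (n3 : c = 0 ∨ c ≠ b)
    (n4 : d = 0 ∨ d ≠ a) (n5 : d = 0 ∨ d ≠ b) (n6 : d = 0 ∨ d ≠ c)
    (h : 128 ∣ 1 + (1155 + (a + (b + (c + (d + (e + f))))))) : a = 41580 ∧ b = 55440 ∨ a = 55440 ∧ b = 41580 := by
  rcases ha with rfl | rfl | rfl | rfl <;> rcases hb with rfl | rfl | rfl | rfl <;>
    rcases hc with rfl | rfl | rfl | rfl <;> rcases hd with rfl | rfl | rfl | rfl <;> simp at * <;> omega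

theorem arith22' {n a k b c : ℕ} (h : b = 41580 ∧ c = 55440 ∨ b = 55440 ∧ c = 41580) (h0 : a ≠ 0)
    (e4 : n ≠ 4 → a = 0 ∨ a ≠ b) (e8 : n ≠ 8 → a = 0 ∨ a ≠ c) (h6 : a = 36960 → k = n)
    (e : n ∉ ({1, 2, 3, 5, 7, 11} : Finset ℕ) → a = 0 ∨ a = 41580 ∨ a = 36960 ∨ a = 55440) :
    n ∈ ({1, 2, 3, 4, 5, k, 7, 8, 11} : Finset ℕ) := by
  simp only [Finset.mem_insert, Finset.mem_singleton, not_or] at e ⊢
  omega

theorem n22_of_nse (hG : Nat.card G = 443520) (h : ∀ c, (0 < c ∧ ∃ n, c = mo G n) ↔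
    c ∈ ({1, 1155, 12320, 41580, 88704, 36960, 126720, 55440, 80640} : Finset ℕ)) : N22 G := by
  classical
  have h1 : ∀ c ∈ ({1, 1155, 12320, 41580, 88704, 36960, 126720, 55440, 80640} : Finset ℕ), ∃ n, c = mo G n :=
    fun c hc => ((h c).mpr hc).2
  choose! f hf using h1
  have h2 := ncard_eq_sum_mo (G := G) (Finset.image f {1, 1155, 12320, 41580, 88704, 36960, 126720, 55440, 80640})
  rw [Finset.sum_image fun a ha b hb e => by rw [hf a ha, hf b hb, e],
    Finset.sum_congr rfl fun c hc => (hf c hc).symm] at h2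
  have h3 := Set.eq_of_subset_of_ncard_le (Set.subset_univ {g : G | orderOf g ∈
    Finset.image f {1, 1155, 12320, 41580, 88704, 36960, 126720, 55440, 80640}}) (by rw [h2, Set.ncard_univ, hG]; decide)
  have hinj : ∀ n, mo G n ≠ 0 → f (mo G n) = n := fun n hn => by
    obtain ⟨g, rfl⟩ := Set.nonempty_of_ncard_ne_zero hn
    obtain ⟨c, hc, e⟩ := Finset.mem_image.mp (Set.mem_ofPred_eq ▸ h3.ge (Set.mem_univ g) : orderOf g ∈ _)
    rw [← e, ← hf c hc]
  have hne : ∀ a b, a ≠ b → mo G a = 0 ∨ mo G a ≠ mo G b := fun a b hab => by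
    by_contra hn
    push Not at hn
    exact hab ((hinj a hn.1).symm.trans (hn.2 ▸ hinj b (hn.2 ▸ hn.1)))
  have hv : ∀ n, mo G n = 0 ∨ mo G n = 1 ∨ mo G n = 1155 ∨ mo G n = 12320 ∨ mo G n = 41580 ∨ mo G n = 88704 ∨
      mo G n = 36960 ∨ mo G n = 126720 ∨ mo G n = 55440 ∨ mo G n = 80640 := fun n => by
    rcases Nat.eq_zero_or_pos (mo G n) with h0 | h0
    · exact .inl h0
    · exact .inr (by simpa using (h _).mp ⟨h0, n, rfl⟩)
  have m1 : mo G 1 = 1 := by simp [mo]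
  have F := fun (p : ℕ) (hp : p.Prime) a (ha : p ^ a ∣ 443520) => pow_dvd_sum_mo (G := G) hp (hG ▸ ha)
  have f2 := F 2 Nat.prime_two 1 (by decide)
  have f3 := F 3 Nat.prime_three 1 (by decide)
  have f5 := F 5 Nat.prime_five 1 (by decide)
  have f7 := F 7 Nat.prime_seven 1 (by decide)
  have f11 := F 11 Nat.prime_eleven 1 (by decide)
  have f128 := F 2 Nat.prime_two 7 (by decide)
  rw [show Nat.divisors (2 ^ 1) = {1, 2} by decide] at f2
  rw [show Nat.divisors (3 ^ 1) = {1, 3} by decide] at f3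
  rw [show Nat.divisors (5 ^ 1) = {1, 5} by decide] at f5
  rw [show Nat.divisors (7 ^ 1) = {1, 7} by decide] at f7
  rw [show Nat.divisors (11 ^ 1) = {1, 11} by decide] at f11
  rw [show Nat.divisors (2 ^ 7) = {1, 2, 4, 8, 16, 32, 64, 128} by decide +kernel] at f128
  simp only [Finset.mem_insert, Finset.mem_singleton, Finset.sum_insert, Finset.sum_singleton,
    Nat.reduceEqDiff, or_self, not_false_eq_true, m1, Nat.reducePow] at f2 f3 f5 f7 f11 f128
  have m2 : mo G 2 = 1155 := by have := hv 2; have := hne 2 1 (by decide); omega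
  have m3 : mo G 3 = 12320 := by have := hv 3; omega
  have m5 : mo G 5 = 88704 := by have := hv 5; omega
  have m7 : mo G 7 = 126720 := by have := hv 7; omega
  have m11 : mo G 11 = 80640 := by have := hv 11; omega
  have hw : ∀ n, n ∉ ({1, 2, 3, 5, 7, 11} : Finset ℕ) → mo G n = 0 ∨ mo G n = 41580 ∨ mo G n = 36960 ∨ mo G n = 55440 :=
    fun n hn => by
      simp only [Finset.mem_insert, Finset.mem_singleton, not_or] at hn
      have e1 := hne n 1 hn.1
      have e2 := hne n 2 hn.2.1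
      have e3 := hne n 3 hn.2.2.1
      have e5 := hne n 5 hn.2.2.2.1
      have e7 := hne n 7 hn.2.2.2.2.1
      have e11 := hne n 11 hn.2.2.2.2.2
      have e := hv n
      rw [m1] at e1; rw [m2] at e2; rw [m3] at e3; rw [m5] at e5; rw [m7] at e7; rw [m11] at e11
      generalize mo G n = k at *
      clear * - e e1 e2 e3 e5 e7 e11
      omega
  have z : ∀ n d, d ∣ n → mo G d = 0 → mo G n = 0 := fun n d hd h0 =>
    by_contra fun hn => mo_ne_zero_of_dvd hn hd h0
  have m48 : mo G 4 = 41580 ∧ mo G 8 = 55440 ∨ mo G 4 = 55440 ∧ mo G 8 = 41580 := by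
    exact arith22 (hw 4 (by decide)) (hw 8 (by decide)) (hw 16 (by decide)) (hw 32 (by decide)) (z 8 4 (by decide))
      (z 16 8 (by decide)) (z 32 16 (by decide)) (z 64 32 (by decide)) (z 128 32 (by decide)) (hne 8 4 (by decide))
      (hne 16 4 (by decide)) (hne 16 8 (by decide)) (hne 32 4 (by decide)) (hne 32 8 (by decide))
      (hne 32 16 (by decide)) (m2 ▸ f128)
  have hk : ∀ g : G, orderOf g ∈ ({1, 2, 3, 4, 5, f 36960, 7, 8, 11} : Finset ℕ) := fun g => by
    exact arith22' m48 (mo_ne_zero g) (hne _ 4) (hne _ 8) (fun e => e ▸ hinj _ (mo_ne_zero g)) (hw _)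
  have h6 : f 36960 = 6 := by
    obtain ⟨x, hx⟩ := exists_ord (m3.trans_ne (by decide))
    obtain ⟨u, hu⟩ := exists_ord (m2.trans_ne (by decide))
    obtain ⟨p, hp, hp3, h11⟩ := exists_mul_ord hk (a := 2) Nat.prime_three hx
      (lt_of_lt_of_le (by decide) (le_cc_of_mo (k := 36) (by rw [hx, m3, hG]))) (by rw [hG]; decide)
    obtain ⟨q, hq, hq2, h12⟩ := exists_mul_ord hk (a := 7) Nat.prime_two hu
      (lt_of_lt_of_le (by decide) (le_cc_of_mo (k := 384) (by rw [hu, m2, hG]))) (by rw [hG]; decide)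
    have h13 := hp.two_le
    have h14 := hq.two_le
    have h15 : q ≠ 4 := by rintro rfl; exact absurd hq (by decide)
    simp only [Finset.mem_insert, Finset.mem_singleton] at h11 h12
    have h16 : 2 ∣ p := by omega
    have h17 := (Nat.prime_dvd_prime_iff_eq Nat.prime_two hp).mp h16
    omega
  exact ⟨hG, h6 ▸ hk, m2, m3, h6 ▸ (hf 36960 (by decide)).symm⟩

end Cfsg.Agent.Mat
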