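import Cfsg.Agent.Mat.M22A

/-! The 3-local structure. -/

set_option autoImplicit false
set_option linter.unusedSectionVars false

namespace Cfsg.Agent.Mat

open Subgroup MulAction Cfsg.Agent.M11

variable {G : Type*} [Group G] [Finite G]

theorem nine_dvd_cc (hG : 9 ∣ Nat.card G) {x : G} (hx : orderOf x = 3) : 9 ∣ cc x := by
  obtain ⟨D, hD, -, hD'⟩ := Pres.exists_le_card_pow_succ (p := 3) (k := 1) (H := ⊤) (P := zpowers x) le_top
    (by rw [Nat.card_zpowers, hx]; rfl) (by rwa [card_top])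
  exact hD'.symm.dvd.trans (card_dvd_cc fun r hr => comm_of_card_nine hD' hr (hD (mem_zpowers x)))

theorem fusion {p : ℕ} [Fact p.Prime] {S : Sylow p G} (hab : ∀ x ∈ S, ∀ y ∈ S, Commute x y) {x y : G} (hx : x ∈ S)
    (hy : y ∈ S) (h : IsConj x y) : ∃ g, g • S = S ∧ g * x * g⁻¹ = y := by
  obtain ⟨c, rfl⟩ := isConj_iff.mp h
  obtain ⟨k, hk, e⟩ := exists_smul_of_le (H := centralizer {c * x * c⁻¹}) (P := c • S) (Q := S)
    (fun u hu => mem_centralizer_singleton_iff.mpr (by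
      simpa [mul_assoc] using (commute_conj c (hab _ (mem_smul_syl.mp hu) x hx)).eq))
    fun u hu => mem_centralizer_singleton_iff.mpr (hab u hu _ hy)
  refine ⟨k * c, by rw [mul_smul, e], ?_⟩
  calc _ = k * (c * x * c⁻¹) * k⁻¹ := by group
    _ = _ := by rw [mem_centralizer_singleton_iff.mp hk, mul_inv_cancel_right]

theorem le_of_no_involution {P R : Subgroup G} (h : P ≤ R) {k : ℕ} (hc : Nat.card R ∣ 2 ^ k * Nat.card P)
    (h2 : ∀ v ∈ R, orderOf v ≠ 2) : R ≤ P := by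
  refine (eq_of_le_of_card_ge h (Nat.le_of_dvd Nat.card_pos (Nat.Coprime.dvd_of_dvd_mul_left ?_ hc))).ge
  refine Nat.Coprime.pow_right k ((Nat.Prime.coprime_iff_not_dvd Nat.prime_two).mpr fun h3 => ?_).symm
  obtain ⟨v, hv, hv'⟩ := exists_mem_of_prime_dvd Nat.prime_two h3
  exact h2 v hv hv'

theorem conj_mem_syl {p : ℕ} {g x : G} {S : Sylow p G} (hg : g • S = S) (hx : x ∈ S) : g * x * g⁻¹ ∈ S :=
  hg ▸ conj_mem_smul g hx

theorem comm_of_sq {u v : G} (hu : u ^ 2 = 1) (hv : v ^ 2 = 1) (h : (u * v) ^ 2 = 1) : Commute u v := by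
  rw [pow_two] at hu hv h
  show u * v = v * u
  rw [eq_inv_of_mul_eq_one_left h, mul_inv_rev, inv_eq_of_mul_eq_one_left hu, inv_eq_of_mul_eq_one_left hv]

/-- The subgroup generated by the involutions commuting with `x`. -/
def VV (x : G) : Subgroup G := closure {u | u ^ 2 = 1 ∧ Commute u x}

namespace N22

variable (h : N22 G)
include h

theorem sq_of_comm {x u : G} (hx : orderOf x = 3) (hc : Commute u x) (hu : u ^ 128 = 1) : u ^ 2 = 1 := by
  have h1 := orderOf_dvd_of_pow_eq_one hu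
  have h2 := h.spec (u * x)
  rw [hc.orderOf_mul_eq_mul_orderOf_of_coprime (hx ▸ Nat.Coprime.of_dvd_left h1 (by decide)), hx] at h2
  have h3 := h.spec u
  rw [← orderOf_dvd_iff_pow_eq_one]
  revert h1 h2
  generalize orderOf u = n at h3
  revert n
  decide

theorem cc_dvd' {x : G} (hx : orderOf x = 2 ∨ orderOf x = 3) : cc x ∣ 2 ^ 7 * 9 :=
  (Nat.Coprime.mul_right (coprime_cc h.spec Nat.prime_five (by rcases hx with e | e <;> rw [e] <;> decide)
    (by rcases hx with e | e <;> rw [e] <;> decide)) (Nat.Coprime.mul_right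
      (coprime_cc h.spec Nat.prime_seven (by rcases hx with e | e <;> rw [e] <;> decide)
        (by rcases hx with e | e <;> rw [e] <;> decide))
      (coprime_cc h.spec Nat.prime_eleven (by rcases hx with e | e <;> rw [e] <;> decide)
        (by rcases hx with e | e <;> rw [e] <;> decide)))).dvd_of_dvd_mul_right ((cc_dvd x).trans h.card.dvd)

theorem three_aux {x : G} (hx : orderOf x = 3) : ∃ T : Subgroup G, (∀ u ∈ T, u ^ 2 = 1 ∧ Commute u x) ∧
    4 ≤ Nat.card T ∧ cc x = Nat.card T * 9 := by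
  obtain ⟨k, hk⟩ := nine_dvd_cc (h.card ▸ by decide) hx
  have h1 := h.cc_dvd' (.inr hx)
  have h2 := le_cc_of_mo (x := x) (k := 36) (by rw [hx, h.m3, h.card])
  rw [hk, mul_comm] at h1
  obtain ⟨b, hb, rfl⟩ := (Nat.dvd_prime_pow Nat.prime_two).mp (Nat.dvd_of_mul_dvd_mul_right (by decide) h1)
  obtain ⟨T, hT⟩ := Sylow.exists_subgroup_card_pow_prime (G := centralizer ({x} : Set G)) 2 (n := b) ⟨9, by
    rw [← cc, hk, mul_comm]⟩
  have hT' : Nat.card (T.map (centralizer {x}).subtype) = 2 ^ b := by rw [card_subtype, hT]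
  refine ⟨T.map (centralizer {x}).subtype, fun u hu => ?_, by omega, by rw [hT', hk, mul_comm]⟩
  have hc : Commute u x := mem_centralizer_singleton_iff.mp (map_subtype_le T hu)
  exact ⟨h.sq_of_comm hx hc (orderOf_dvd_iff_pow_eq_one.mp ((orderOf_dvd_natCard _ hu).trans
    (hT'.dvd.trans (pow_dvd_pow 2 hb)))), hc⟩

theorem iv3 {x : G} (hx : orderOf x = 3) : iv 2 x = 4 := by
  refine ((Finset.sum_eq_sum_iff_of_le (s := ordS G 3) (f := fun _ => 4) (g := iv 2) fun y hy => ?_).mp ?_ x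
    (mem_ordS.mpr hx)).symm
  · obtain ⟨T, h1, h2, -⟩ := h.three_aux (mem_ordS.mp hy)
    exact h2.trans (Set.ncard_le_ncard (s := (T : Set G)) h1)
  · rw [sum_iv (by decide) (by decide) (by decide), show Nat.divisors 2 = {1, 2} by decide,
      Finset.sum_pair (by decide), h.m3, h.m6, Finset.sum_const, card_ordS, h.m3]
    rfl

theorem three {x : G} (hx : orderOf x = 3) : cc x = 36 ∧ Nat.card (VV x) = 4 ∧
    ∀ u, u ∈ VV x ↔ u ^ 2 = 1 ∧ Commute u x := by
  obtain ⟨T, h1, h2, h3⟩ := h.three_aux hx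
  have h4 := Set.eq_of_subset_of_ncard_le (s := (T : Set G)) (t := {u | u ^ 2 = 1 ∧ Commute u x}) h1
    ((h.iv3 hx).le.trans h2)
  have h5 : Nat.card T = 4 := (congrArg Set.ncard h4).trans (h.iv3 hx)
  have h6 : VV x = T := by rw [VV, ← h4, closure_eq]
  exact ⟨by rw [h3, h5], h6 ▸ h5, fun u => h6 ▸ Set.ext_iff.mp h4 u⟩

theorem mem_VV {x u : G} (hx : orderOf x = 3) : u ∈ VV x ↔ u ^ 2 = 1 ∧ Commute u x := (h.three hx).2.2 u

theorem conj3 {x y : G} (hx : orderOf x = 3) (hy : orderOf y = 3) : IsConj x y :=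
  conj_of_cc (by rw [hx, h.m3, (h.three hx).1, h.card]) (hy.trans hx.symm)

theorem conj_VV {x u : G} (hx : orderOf x = 3) (hu : u ∈ VV x) (g : G) : g * u * g⁻¹ ∈ VV (g * x * g⁻¹) :=
  (h.mem_VV ((orderOf_conj' g x).trans hx)).mpr ⟨by rw [conj_pow, ((h.mem_VV hx).mp hu).1]; simp,
    commute_conj g ((h.mem_VV hx).mp hu).2⟩

theorem conj_VV' {x u g : G} (hx : orderOf x = 3) (hu : u ∈ VV x) (hg : Commute g x) : g * u * g⁻¹ ∈ VV x := by
  have := h.conj_VV hx hu g
  rwa [hg.eq, mul_inv_cancel_right] at this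

theorem comm_VV {x u v : G} (hx : orderOf x = 3) (hu : u ∈ VV x) (hv : v ∈ VV x) : Commute u v :=
  comm_of_sq ((h.mem_VV hx).mp hu).1 ((h.mem_VV hx).mp hv).1 ((h.mem_VV hx).mp (mul_mem hu hv)).1

theorem abelian_of_nine {v : G} (hv : orderOf v = 2) (h9 : 9 ∣ cc v) {y : G} (hy : orderOf y = 3) {w c : G}
    (hw : w ∈ VV y) (hc : Commute c y) : Commute c w := by
  obtain ⟨S, hS⟩ := exists_sylow_le_cent (p := 3) (k := 2) (m := 49280) (g := v) h.card (by decide) h9
  have c9 : Nat.card S = 9 := card_sylow_eq S 2 49280 h.card (by decide)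
  obtain ⟨x, hxS, hx⟩ := exists_mem_of_prime_dvd Nat.prime_three (R := (S : Subgroup G)) (by rw [c9]; decide)
  obtain ⟨g, rfl⟩ := isConj_iff.mp (h.conj3 hx hy)
  have hv' : v ∈ VV x := (h.mem_VV hx).mpr ⟨hv ▸ pow_orderOf_eq_one v, (hS x hxS).symm⟩
  have key : ∀ w ∈ VV x, ∀ p ∈ S, Commute p w := fun w hw p hp => by
    have h1 := ncard_modEq_fixed Nat.prime_three S.isPGroup' (X := VV x)
      fun r hr u hu => h.conj_VV' hx hu (comm_of_card_nine c9 hr hxS)
    rw [ncard_coe, (h.three hx).2.1] at h1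
    have h2 := Set.ncard_le_ncard (s := {1, v}) (t := {u | u ∈ (VV x : Set G) ∧ ∀ r ∈ (S : Subgroup G), Commute r u}) (by
      rintro _ (rfl | rfl)
      exacts [⟨one_mem _, fun r _ => Commute.one_right r⟩, ⟨hv', hS⟩])
    rw [Set.ncard_pair (by rintro rfl; simp at hv)] at h2
    have h3 := Set.ncard_le_ncard (t := VV x) (s := {u | u ∈ (VV x : Set G) ∧ ∀ r ∈ (S : Subgroup G), Commute r u}) fun u hu => hu.1
    rw [ncard_coe, (h.three hx).2.1] at h3
    exact ((Set.eq_of_subset_of_ncard_le (t := VV x) (s := {u | u ∈ (VV x : Set G) ∧ ∀ r ∈ (S : Subgroup G), Commute r u})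
      (fun u hu => hu.1) (by rw [ncard_coe, (h.three hx).2.1]; omega)).ge hw).2 p hp
  have hw' := h.conj_VV hy hw g⁻¹
  have hc' := commute_conj g⁻¹ hc
  rw [show g⁻¹ * (g * x * g⁻¹) * g⁻¹⁻¹ = x by group] at hw' hc'
  have h1 : Nat.card (centralizer {x}) ≤ Nat.card ↥(centralizer {x} ⊓ centralizer {g⁻¹ * w * g⁻¹⁻¹} : Subgroup G) := by
    rw [← cc, (h.three hx).1]
    refine Nat.le_of_dvd Nat.card_pos (Nat.Coprime.mul_dvd_of_dvd_of_dvd (m := 4) (n := 9) (by decide) ?_ ?_)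
    · exact (h.three hx).2.1 ▸ card_dvd_of_le fun u hu => mem_inf.mpr ⟨mem_centralizer_singleton_iff.mpr
        ((h.mem_VV hx).mp hu).2, mem_centralizer_singleton_iff.mpr (h.comm_VV hx hu hw')⟩
    · exact c9 ▸ card_dvd_of_le fun u hu => mem_inf.mpr ⟨mem_centralizer_singleton_iff.mpr
        (comm_of_card_nine c9 hu hxS), mem_centralizer_singleton_iff.mpr (key _ hw' u hu)⟩
  have h2 := commute_conj g (mem_centralizer_singleton_iff.mp (mem_inf.mp ((eq_of_le_of_card_ge inf_le_left h1).ge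
    (mem_centralizer_singleton_iff.mpr hc'))).2)
  simpa [mul_assoc] using h2

theorem cc2 {v : G} (hv : orderOf v = 2) : cc v = 384 := by
  classical
  have ge : ∀ v : G, orderOf v = 2 → 384 ≤ cc v := fun v hv => le_cc_of_mo (by rw [hv, h.m2, h.card])
  by_contra hn
  have h9 : 9 ∣ cc v := (by decide +kernel : ∀ d ∈ Nat.divisors 1152, 384 ≤ d → d ≠ 384 → 9 ∣ d) _
    (Nat.mem_divisors.mpr ⟨h.cc_dvd' (.inl hv), by decide⟩) (ge v hv) hn
  have h1 := mo_mul (G := G) (a := 3) (b := 2) (by decide) (by decide)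
  have h2 := Finset.card_nsmul_le_sum (ordS G 2) (fun x => {u | orderOf u = 3 ∧ Commute u x}.ncard) 80 fun w hw => by
    have hw := mem_ordS.mp hw
    have h3 : ∀ y, orderOf y = 3 → Commute y w → centralizer {y} ≤ centralizer {w} := fun y hy hc c hc' =>
      mem_centralizer_singleton_iff.mpr (h.abelian_of_nine hv h9 hy
        ((h.mem_VV hy).mpr ⟨hw ▸ pow_orderOf_eq_one w, hc.symm⟩) (mem_centralizer_singleton_iff.mp hc'))
    have h4 := (by decide +kernel : ∀ d ∈ Nat.divisors 1152, 384 ≤ d → 3 ∣ d ∧ (36 ∣ d → 576 ∣ d)) _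
      (Nat.mem_divisors.mpr ⟨h.cc_dvd' (.inl hw), by decide⟩) (ge w hw)
    obtain ⟨y, hy, hc⟩ := exists_of_prime_dvd_cc Nat.prime_three h4.1
    have h5 := h4.2 ((h.three hy).1 ▸ card_dvd_of_le (h3 y hy hc))
    have h6 := pow_dvd_iv (A := 2) (m := 49280) (a := 2) Nat.prime_three h.card (by decide) (x := w)
      (Nat.dvd_trans (by decide) h5)
    rw [iv_eq_sum (by decide), show Nat.divisors (3 ^ 2) = {1, 3, 9} by decide, Finset.sum_insert (by decide),
      Finset.sum_pair (by decide), show {u | orderOf u = 1 ∧ Commute u w} = {1} from Set.ext fun u => by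
        simp +contextual [iff_def], show {u | orderOf u = 9 ∧ Commute u w} = ∅ from Set.eq_empty_of_forall_notMem
        fun u hu => absurd (hu.1 ▸ h.spec u) (by decide), Set.ncard_singleton, Set.ncard_empty] at h6
    have h7 : 16 ∣ {u | orderOf u = 3 ∧ Commute u w}.ncard := by
      refine dvd_ncard_of_fibers (Set.toFinite _) (fun u => {w' | ∃ r ∈ centralizer {w}, r * u * r⁻¹ = w'}) fun u hu => ?_
      have h7 := card_inf_centralizer_mul (centralizer {w}) u
      rw [inf_eq_right.mpr (h3 u hu.1 hu.2), ← cc, ← cc, (h.three hu.1).1] at h7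
      convert (show 16 ∣ {w' | ∃ r ∈ centralizer {w}, r * u * r⁻¹ = w'}.ncard by omega) using 2
      ext a
      constructor
      · exact fun ha => ha.2.le ⟨1, one_mem _, by simp⟩
      · rintro ⟨r, hr, rfl⟩
        have hr' : Commute r w := mem_centralizer_singleton_iff.mp hr
        refine ⟨⟨(orderOf_conj' r u).trans hu.1, (hr'.mul_left hu.2).mul_left hr'.inv_left⟩, Set.ext fun b => ⟨?_, ?_⟩⟩
        · rintro ⟨s, hs, rfl⟩
          exact ⟨s * r, mul_mem hs hr, by group⟩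
        · rintro ⟨s, hs, rfl⟩
          exact ⟨s * r⁻¹, mul_mem hs (inv_mem hr), by group⟩
    omega
  rw [← h1, card_ordS, h.m2, h.m6] at h2
  exact absurd h2 (by decide)

theorem conj2 {x y : G} (hx : orderOf x = 2) (hy : orderOf y = 2) : IsConj x y :=
  conj_of_cc (by rw [hx, h.m2, h.cc2 hx, h.card]) (hy.trans hx.symm)

theorem card_syl (S : Sylow 3 G) : Nat.card S = 9 := card_sylow_eq S 2 49280 h.card (by decide)

theorem comm_syl {S : Sylow 3 G} {x y : G} (hx : x ∈ S) (hy : y ∈ S) : Commute x y :=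
  comm_of_card_nine (h.card_syl S) hx hy

theorem ord_syl {S : Sylow 3 G} {x : G} (hx : x ∈ S) (h1 : x ≠ 1) : orderOf x = 3 := by
  have h2 : orderOf x ∣ 9 := h.card_syl S ▸ orderOf_dvd_natCard _ hx
  have h3 := h.spec x
  rw [Ne, ← orderOf_eq_one_iff] at h1
  revert h1 h2
  generalize orderOf x = n at h3
  revert n
  decide

theorem not_cent {S : Sylow 3 G} {v : G} (hv : orderOf v = 2) (hc : ∀ p ∈ S, Commute p v) : False := by
  have := card_dvd_cc (R := (S : Subgroup G)) hc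
  rw [h.card_syl, h.cc2 hv] at this
  exact absurd this (by decide)

theorem mem_syl {S : Sylow 3 G} {g x : G} (hx : x ∈ S) (h1 : x ≠ 1) (hg : g • S = S) (hc : Commute g x) : g ∈ S := by
  have hx3 := h.ord_syl hx h1
  refine le_of_no_involution (P := S) (R := stabilizer G S ⊓ centralizer {x}) (k := 2) (fun p hp => mem_inf.mpr
    ⟨smul_eq_of_mem hp, mem_centralizer_singleton_iff.mpr (h.comm_syl hp hx)⟩) ?_ (fun v hv hv2 => ?_)
    (mem_inf.mpr ⟨hg, mem_centralizer_singleton_iff.mpr hc⟩)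
  · rw [h.card_syl, ← show cc x = 2 ^ 2 * 9 from (h.three hx3).1]
    exact card_dvd_of_le inf_le_right
  refine h.not_cent (S := S) hv2 fun p hp => ?_
  have h2 : v ∈ VV x := (h.mem_VV hx3).mpr ⟨hv2 ▸ pow_orderOf_eq_one v,
    mem_centralizer_singleton_iff.mp (mem_inf.mp hv).2⟩
  have h3 := mul_mem (h.conj_VV' hx3 h2 (h.comm_syl hp hx)) (inv_mem h2)
  have h4 : p * v * p⁻¹ * v⁻¹ ∈ S := by
    rw [mul_assoc, mul_assoc, ← mul_assoc v]
    exact mul_mem hp (conj_mem_syl (mem_inf.mp hv).1 (inv_mem hp))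
  have h5 : p * v * p⁻¹ * v⁻¹ = 1 := by_contra fun h5 => by
    have := orderOf_dvd_of_pow_eq_one ((h.mem_VV hx3).mp h3).1
    rw [h.ord_syl h4 h5] at this
    exact absurd this (by decide)
  exact commutatorElement_eq_one_iff_commute.mp h5

theorem trans_syl {S : Sylow 3 G} {x y : G} (hx : x ∈ S) (h1 : x ≠ 1) (hy : y ∈ S) (h2 : y ≠ 1) :
    ∃ g, g • S = S ∧ g * x * g⁻¹ = y :=
  fusion (fun _ hx _ hy => h.comm_syl hx hy) hx hy (h.conj3 (h.ord_syl hx h1) (h.ord_syl hy h2))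

theorem inv_all {S : Sylow 3 G} {x t : G} (hx : x ∈ S) (h1 : x ≠ 1) (ht : t • S = S) (e : t * x * t⁻¹ = x⁻¹) :
    orderOf t = 2 ∧ ∀ p ∈ S, t * p * t⁻¹ = p⁻¹ := by
  have h2 : t ∉ S := fun h2 => ne_inv_of_three (h.ord_syl hx h1) (by
    rw [← e, (h.comm_syl h2 hx).eq, mul_inv_cancel_right])
  have h3 : ∀ p ∈ S, Commute t p → p = 1 := fun p hp hc => by_contra fun h3 => h2 (h.mem_syl hp h3 ht hc)
  have h4 : t * t ∈ S := h.mem_syl hx h1 (by rw [mul_smul, ht, ht]) (mul_inv_eq_iff_eq_mul.mp (by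
    calc _ = t * (t * x * t⁻¹) * t⁻¹ := by group
      _ = t * x⁻¹ * t⁻¹ := by rw [e]
      _ = (t * x * t⁻¹)⁻¹ := by group
      _ = x := by rw [e, inv_inv]))
  refine ⟨orderOf_eq_prime ((pow_two t).trans (h3 _ h4 ((Commute.refl t).mul_right (Commute.refl t))))
    fun e => h2 (e ▸ one_mem _), fun p hp => eq_inv_of_mul_eq_one_left (h3 _ (mul_mem (conj_mem_syl ht hp) hp)
      (mul_inv_eq_iff_eq_mul.mp ?_))⟩
  calc _ = (t * t) * p * (t * t)⁻¹ * (t * p * t⁻¹) := by group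
    _ = _ := by rw [(h.comm_syl h4 hp).eq, mul_inv_cancel_right, (h.comm_syl hp (conj_mem_syl ht hp)).eq]

end N22

end Cfsg.Agent.Mat
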