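import Cfsg.Agent.Mat.M22B
import Cfsg.Agent.Mat.Two
import Cfsg.Agent.Mat.M12G

/-! The 2-subgroups normalized by a Sylow 3-subgroup. -/

set_option autoImplicit false
set_option linter.unusedSectionVars false

namespace Cfsg.Agent.Mat

open Subgroup MulAction Cfsg.Agent.M11 Cfsg.Agent.Local

variable {G : Type*} [Group G] [Finite G]

theorem VV_inv (x : G) : VV x⁻¹ = VV x := by simp only [VV, Commute.inv_right_iff]

/-- Commuting four-groups. -/
def AdjV (x y : G) : Prop := ∀ a ∈ VV x, ∀ b ∈ VV y, Commute a b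

theorem AdjV.symm {x y : G} (h : AdjV x y) : AdjV y x := fun a ha b hb => (h b hb a ha).symm

theorem AdjV.inv {x y : G} (h : AdjV x y) : AdjV x y⁻¹ := by rwa [AdjV, VV_inv]

theorem mem_nine {P : Subgroup G} (hP : Nat.card P = 9) {x u p : G} (hx : x ∈ P) (hu : u ∈ P) (h1 : orderOf x = 3)
    (h2 : u ^ 3 = 1) (h3 : u ∉ zpowers x) (hp : p ∈ P) :
    p = 1 ∨ p = x ∨ p = x⁻¹ ∨ p = u ∨ p = u⁻¹ ∨ p = x * u ∨ p = (x * u)⁻¹ ∨ p = x * u⁻¹ ∨ p = (x * u⁻¹)⁻¹ := by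
  have hc : Commute x u := comm_of_card_nine hP hx hu
  have h4 : x ^ 3 = 1 := h1 ▸ pow_orderOf_eq_one x
  obtain ⟨v, rfl⟩ := (Set.eq_of_subset_of_ncard_le (s := Set.range (ee x u)) (t := P) (by
    rintro _ ⟨v, rfl⟩; exact mul_mem (pow_mem hx _) (pow_mem hu _)) (by
      rw [ncard_coe, hP, Set.ncard_range_of_injective (ee_injective h1 h2 hc h3)]; simp)).ge hp
  have e1 : x ^ 2 = x⁻¹ := eq_inv_of_mul_eq_one_left ((pow_succ x 2).symm.trans h4)
  have e2 : u ^ 2 = u⁻¹ := eq_inv_of_mul_eq_one_left ((pow_succ u 2).symm.trans h2)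
  have v2 : (2 : ZMod 3).val = 2 := rfl
  rcases (by decide : ∀ v : ZMod 3 × ZMod 3, v = (0, 0) ∨ v = (1, 0) ∨ v = (2, 0) ∨ v = (0, 1) ∨ v = (0, 2) ∨
    v = (1, 1) ∨ v = (2, 2) ∨ v = (1, 2) ∨ v = (2, 1)) v with rfl | rfl | rfl | rfl | rfl | rfl | rfl | rfl | rfl <;>
    simp [ee, ZMod.val_one, v2, e1, e2, hc.inv_inv.eq, hc.inv_left.eq]

namespace N22

variable (h : N22 G)
include h

theorem card_inv {x : G} (hx : orderOf x = 3) {B : Subgroup G} (hB : IsPGroup 2 B) (hn : x ∈ normalizer (B : Set G))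
    (hV : VV x ≤ B) : Nat.card B = 4 ∨ Nat.card B = 16 ∨ Nat.card B = 64 := by
  obtain ⟨n, hn'⟩ := IsPGroup.iff_card.mp hB
  have h1 : Nat.card B ∣ 128 := Nat.Coprime.dvd_of_dvd_mul_right (n := 3465)
    (hn' ▸ Nat.Coprime.pow_left _ (by decide)) ((card_subgroup_dvd_card B).trans h.card.dvd)
  have h2 := ncard_modEq_commute Nat.prime_three hx (X := B) fun u hu r hr =>
    conj_mem_of_mem_normalizer (zpowers_le.mpr hn hr) hu
  rw [show {u | u ∈ (B : Set G) ∧ Commute u x} = VV x from Set.ext fun u => ⟨fun hu => (h.mem_VV hx).mpr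
    ⟨h.sq_of_comm hx hu.2 (orderOf_dvd_iff_pow_eq_one.mp ((orderOf_dvd_natCard _ hu.1).trans h1)), hu.2⟩,
    fun hu => ⟨hV hu, ((h.mem_VV hx).mp hu).2⟩⟩, ncard_coe, ncard_coe, (h.three hx).2.1] at h2
  have h3 := card_le_of_le hV
  rw [(h.three hx).2.1] at h3
  exact (by decide +kernel : ∀ d ∈ Nat.divisors 128, d % 3 = 4 % 3 → 4 ≤ d → d = 4 ∨ d = 16 ∨ d = 64) _
    (Nat.mem_divisors.mpr ⟨h1, by decide⟩) h2 h3

theorem two_VV {x : G} (hx : orderOf x = 3) : IsPGroup 2 (VV x) := IsPGroup.of_card (n := 2) (h.three hx).2.1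

theorem norm_VV {x g : G} (hx : orderOf x = 3) (hg : Commute g x) : g ∈ normalizer (VV x : Set G) :=
  mem_normalizer_of_conj_mem fun _ hu => h.conj_VV' hx hu hg

theorem ord_VV {x z : G} (hx : orderOf x = 3) (hz : z ∈ VV x) (h1 : z ≠ 1) : orderOf z = 2 :=
  orderOf_eq_prime ((h.mem_VV hx).mp hz).1 h1

theorem exists_Q {x z : G} (hx : orderOf x = 3) (hz : z ∈ VV x) (h1 : z ≠ 1) : ∃ Q : Subgroup G, Nat.card Q = 64 ∧
    Q ≤ centralizer {z} ∧ centralizer {z} ≤ normalizer (Q : Set G) ∧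
    ∀ B : Subgroup G, IsPGroup 2 B → B ≤ centralizer {z} → x ∈ normalizer (B : Set G) → B ≤ Q := by
  have hc := h.cc2 (h.ord_VV hx hz h1)
  obtain ⟨L, hL⟩ := Sylow.exists_subgroup_card_pow_prime (G := centralizer ({z} : Set G)) 2 (n := 7) (by
    rw [← cc, hc]; decide)
  have hL' : Nat.card (L.map (centralizer {z}).subtype) = 2 ^ 7 := by rw [card_subtype, hL]
  obtain ⟨Q, h2, h3, h4, -⟩ := exists_core (map_subtype_le L) (n := 3) (by rw [← cc, hc, hL']; rfl)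
  rw [← cc, hc] at h4
  have h5 := le_normalizer_iff.mpr h3
  have hQ : IsPGroup 2 Q := (IsPGroup.of_card hL').to_le h2
  have hxz : x ∈ centralizer {z} := mem_centralizer_singleton_iff.mpr ((h.mem_VV hx).mp hz).2.symm
  have key : ∀ B : Subgroup G, IsPGroup 2 B → B ≤ centralizer {z} → x ∈ normalizer (B : Set G) → VV x ≤ B ⊔ Q →
      B ≤ Q ∧ Nat.card Q = 64 := fun B hB h6 h7 h8 => by
    have h9 := h.card_inv hx (hB.to_sup_of_normal_right' hQ (h6.trans h5))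
      (normalizer_inf_normalizer_le_normalizer_sup _ _ (mem_inf.mpr ⟨h7, h5 hxz⟩)) h8
    have h10 := card_le_of_le (le_sup_right : Q ≤ B ⊔ Q)
    simp only [Nat.factorial] at h4
    exact ⟨le_sup_left.trans (eq_of_le_of_card_ge le_sup_right (by omega)).ge, by omega⟩
  obtain ⟨h6, h7⟩ := key _ (h.two_VV hx) (fun u hu => mem_centralizer_singleton_iff.mpr (h.comm_VV hx hu hz))
    (h.norm_VV hx (Commute.refl x)) le_sup_left
  exact ⟨Q, h7, h2.trans (map_subtype_le L), h5, fun B hB h8 h9 => (key B hB h8 h9 (h6.trans le_sup_right)).1⟩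

variable {S : Sylow 3 G} {x u : G}

theorem cube {p : G} (hp : p ∈ S) : p ^ 3 = 1 := by
  by_cases h1 : p = 1
  · rw [h1, one_pow]
  · rw [← h.ord_syl hp h1, pow_orderOf_eq_one]

theorem eq_one_of_comm (hx : x ∈ S) (h1 : x ≠ 1) (hu : u ∈ S) (h2 : u ∉ zpowers x) {a : G} (ha : a ^ 2 = 1)
    (c1 : Commute a x) (c2 : Commute a u) : a = 1 := by_contra fun h3 => h.not_cent (S := S) (orderOf_eq_prime ha h3)
  fun p hp => by
    rcases mem_nine (h.card_syl S) hx hu (h.ord_syl hx h1) (h.cube hu) h2 hp with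
      rfl | rfl | rfl | rfl | rfl | rfl | rfl | rfl | rfl
    exacts [Commute.one_left a, c1.symm, c1.symm.inv_left, c2.symm, c2.symm.inv_left, (c1.mul_right c2).symm,
      (c1.mul_right c2).symm.inv_left, (c1.mul_right c2.inv_right).symm, (c1.mul_right c2.inv_right).symm.inv_left]

theorem rot (hx : x ∈ S) (h1 : x ≠ 1) (hu : u ∈ S) (h2 : u ∉ zpowers x) {a : G} (ha : a ∈ VV x) (h3 : a ≠ 1) :
    u * a * u⁻¹ ∈ VV x ∧ u * (u * a * u⁻¹) * u⁻¹ = a * (u * a * u⁻¹) ∧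
      ∀ v ∈ VV x, v = 1 ∨ v = a ∨ v = u * a * u⁻¹ ∨ v = a * (u * a * u⁻¹) := by
  have hx3 := h.ord_syl hx h1
  have h4 := h.conj_VV' hx3 ha (h.comm_syl hu hx)
  have h5 : ¬ Commute a u := fun e => h3 (h.eq_one_of_comm hx h1 hu h2 ((h.mem_VV hx3).mp ha).1 ((h.mem_VV hx3).mp ha).2 e)
  have h6 : ∀ v ∈ VV x, _ := fun v hv => mem_four (h.three hx3).2.1 ha h4 h3 (fun e => h3 (conj_eq_one_iff.mp e))
    (fun e => h5 (mul_inv_eq_iff_eq_mul.mp e).symm) (sq_of_two (h.ord_VV hx3 ha h3)) hv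
  refine ⟨h4, ?_, h6⟩
  rcases h6 _ (h.conj_VV' hx3 h4 (h.comm_syl hu hx)) with e | e | e | e
  · exact absurd (conj_eq_one_iff.mp (conj_eq_one_iff.mp e)) h3
  · have h7 : Commute a (u ^ 2) := (mul_inv_eq_iff_eq_mul.mp
      ((show u ^ 2 * a * (u ^ 2)⁻¹ = u * (u * a * u⁻¹) * u⁻¹ by rw [pow_two]; group).trans e)).symm
    have h8 := h7.pow_right 2
    rw [← pow_mul, pow_succ, h.cube hu, one_mul] at h8
    exact absurd h8 h5
  · exact absurd (mul_inv_eq_iff_eq_mul.mp (mul_left_cancel (mul_right_cancel e))).symm h5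
  · exact e

theorem exists_not_mem (hx : x ∈ S) (h1 : x ≠ 1) : ∃ u ∈ S, u ∉ zpowers x := by
  by_contra! h2
  have := card_le_of_le (show (S : Subgroup G) ≤ zpowers x from h2)
  rw [h.card_syl, Nat.card_zpowers, h.ord_syl hx h1] at this
  omega

theorem VV_le (hx : x ∈ S) (h1 : x ≠ 1) {B : Subgroup G} (hB : ↑S ≤ normalizer (B : Set G)) {a : G} (ha : a ∈ VV x)
    (h3 : a ≠ 1) (h4 : a ∈ B) : VV x ≤ B := fun v hv => by
  obtain ⟨u, hu, h2⟩ := h.exists_not_mem hx h1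
  have h5 := conj_mem_of_mem_normalizer (hB hu) h4
  rcases (h.rot hx h1 hu h2 ha h3).2.2 v hv with rfl | rfl | rfl | rfl
  exacts [one_mem _, h4, h5, mul_mem h4 h5]

theorem adj_conj (hx : orderOf x = 3) (hu : orderOf u = 3) (ha : AdjV x u) (g : G) :
    AdjV (g * x * g⁻¹) (g * u * g⁻¹) := fun a h1 b h2 => by
  have h3 := h.conj_VV ((orderOf_conj' g x).trans hx) h1 g⁻¹
  have h4 := h.conj_VV ((orderOf_conj' g u).trans hu) h2 g⁻¹
  rw [show ∀ y, g⁻¹ * (g * y * g⁻¹) * g⁻¹⁻¹ = y from fun y => by group] at h3 h4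
  simpa [mul_assoc] using commute_conj g (ha _ h3 _ h4)

theorem exists_t (hx : x ∈ S) (h1 : x ≠ 1) {z : G} (hz : z ∈ VV x) (h2 : z ≠ 1) :
    ∃ t, t • S = S ∧ orderOf t = 2 ∧ (∀ p ∈ S, t * p * t⁻¹ = p⁻¹) ∧ Commute t z := by
  have hx3 := h.ord_syl hx h1
  obtain ⟨t, ht, e⟩ := h.trans_syl hx h1 (inv_mem hx) (inv_ne_one.mpr h1)
  obtain ⟨a, ha, hc⟩ := exists_commute_of_not_dvd Nat.prime_two (y := t) (X := (VV x : Set G) \ {1})
    ((h.inv_all hx h1 ht e).1 ▸ pow_orderOf_eq_one t) (fun v hv => ⟨by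
      have := h.conj_VV hx3 hv.1 t
      rwa [e, VV_inv] at this, fun e => hv.2 (conj_eq_one_iff.mp e)⟩)
    (by rw [Set.ncard_sdiff_singleton_of_mem (one_mem _), ncard_coe, (h.three hx3).2.1]; decide)
  obtain ⟨u, hu, h3⟩ := h.exists_not_mem hx h1
  obtain ⟨-, h4, h5⟩ := h.rot hx h1 hu h3 ha.1 ha.2
  obtain ⟨p, hp, rfl⟩ : ∃ p ∈ S, p * a * p⁻¹ = z := by
    rcases h5 z hz with rfl | rfl | rfl | rfl
    exacts [absurd rfl h2, ⟨1, one_mem _, by simp⟩, ⟨u, hu, rfl⟩, ⟨u * u, mul_mem hu hu, by rw [← h4]; group⟩]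
  have h6 : (p * t * p⁻¹) • S = S := by rw [mul_smul, mul_smul, smul_eq_of_mem (inv_mem hp), ht, smul_eq_of_mem hp]
  have h7 := h.inv_all hx h1 h6 (by
    calc _ = p * (t * (p⁻¹ * x * p) * t⁻¹) * p⁻¹ := by group
      _ = _ := by rw [mul_assoc p⁻¹, (h.comm_syl hx hp).eq, inv_mul_cancel_left, e, (h.comm_syl hp (inv_mem hx)).eq,
        mul_inv_cancel_right])
  exact ⟨_, h6, h7.1, h7.2, commute_conj p hc⟩

theorem card_U (hx : x ∈ S) (h1 : x ≠ 1) (hu : u ∈ S) (h2 : u ∉ zpowers x) (ha : AdjV x u) :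
    VV u ≤ normalizer (VV x : Set G) ∧ Nat.card ↥(VV x ⊔ VV u) = 16 ∧ ↑S ≤ normalizer ((VV x ⊔ VV u : Subgroup G) : Set G) := by
  have hx3 := h.ord_syl hx h1
  have hu3 := h.ord_syl hu (by rintro rfl; exact h2 (one_mem _))
  have h3 : VV u ≤ normalizer (VV x : Set G) := le_normalizer_iff.mpr fun b hb a ha' => by
    rwa [← (ha a ha' b hb).eq, mul_inv_cancel_right]
  refine ⟨h3, ?_, le_normalizer_sup (fun p hp => h.norm_VV hx3 (h.comm_syl hp hx))
    fun p hp => h.norm_VV hu3 (h.comm_syl hp hu)⟩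
  rw [card_sup_of_disjoint h3 (disjoint_def.mpr fun {a} k1 k2 => h.eq_one_of_comm hx h1 hu h2
    ((h.mem_VV hx3).mp k1).1 ((h.mem_VV hx3).mp k1).2 ((h.mem_VV hu3).mp k2).2), (h.three hx3).2.1, (h.three hu3).2.1]

theorem cent_le_norm (hx : x ∈ S) (h1 : x ≠ 1) (hu : u ∈ S) (h2 : u ∉ zpowers x) (ha : AdjV x u) {z : G}
    (hz : z ∈ VV x) (h3 : z ≠ 1) : centralizer {z} ≤ normalizer ((VV x ⊔ VV u : Subgroup G) : Set G) := by
  have hx3 := h.ord_syl hx h1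
  have hu3 := h.ord_syl hu (by rintro rfl; exact h2 (one_mem _))
  obtain ⟨k1, k2, k3⟩ := h.card_U hx h1 hu h2 ha
  obtain ⟨Q, q1, q2, q3, q4⟩ := h.exists_Q hx3 hz h3
  obtain ⟨t, t1, t2, t3, t4⟩ := h.exists_t hx h1 hz h3
  set U := VV x ⊔ VV u
  have hQ : IsPGroup 2 Q := IsPGroup.of_card (n := 6) q1
  have hxz : x ∈ centralizer {z} := mem_centralizer_singleton_iff.mpr ((h.mem_VV hx3).mp hz).2.symm
  have h4 : U ≤ Q := q4 U (IsPGroup.of_card (n := 4) k2) (sup_le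
    (fun v hv => mem_centralizer_singleton_iff.mpr (h.comm_VV hx3 hv hz))
    fun v hv => mem_centralizer_singleton_iff.mpr (ha z hz v hv).symm) (k3 hx)
  have h5 := norm_grow h4 (k := 4) k2 (by rw [q1]; decide)
  have h6 := h.card_inv hx3 (B := Q ⊓ normalizer (U : Set G)) hQ.to_inf_left
    (inf_normalizer_le_normalizer_inf (mem_inf.mpr ⟨q3 hxz, le_normalizer (k3 hx)⟩))
    (le_sup_left.trans (le_inf h4 le_normalizer))
  have h7 : Q ≤ normalizer (U : Set G) := (eq_of_le_of_card_ge inf_le_left (by omega)).ge.trans inf_le_right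
  have h8 : t ∈ normalizer (U : Set G) := normalizer_inf_normalizer_le_normalizer_sup _ _ (mem_inf.mpr
    ⟨mem_normalizer_of_conj_mem fun v hv => by have := h.conj_VV hx3 hv t; rwa [t3 x hx, VV_inv] at this,
      mem_normalizer_of_conj_mem fun v hv => by have := h.conj_VV hu3 hv t; rwa [t3 u hu, VV_inv] at this⟩)
  have h9 : t ∈ centralizer {z} := mem_centralizer_singleton_iff.mpr t4
  have h10 : Disjoint Q (zpowers t) := disjoint_def.mpr fun {a} a1 a2 =>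
    (mem_zpowers_two (sq_of_two t2) a2).resolve_right fun e => by
      have h10 := orderOf_dvd_natCard _ (mul_mem (conj_mem_of_mem_normalizer (q3 hxz) a1) (inv_mem a1))
      rw [e, mul_assoc, mul_assoc, ← mul_assoc t, t3 _ (inv_mem hx), inv_inv, q1, ← pow_two, orderOf_pow, hx3] at h10
      exact absurd h10 (by decide)
  have h11 := card_sup_of_disjoint (zpowers_le.mpr (q3 h9)) h10
  rw [q1, Nat.card_zpowers, t2] at h11
  refine (eq_of_le_of_card_ge inf_le_left ?_).ge.trans (inf_le_right (b := normalizer (U : Set G)))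
  rw [← cc, h.cc2 (h.ord_VV hx3 hz h3)]
  refine Nat.le_of_dvd Nat.card_pos (Nat.Coprime.mul_dvd_of_dvd_of_dvd (m := 128) (n := 3) (by decide) ?_ ?_)
  · exact h11.symm.dvd.trans (card_dvd_of_le (sup_le (le_inf q2 h7) (zpowers_le.mpr (mem_inf.mpr ⟨h9, h8⟩))))
  · exact hx3 ▸ orderOf_dvd_natCard _ (mem_inf.mpr ⟨hxz, k3 hx⟩)

end N22

end Cfsg.Agent.Mat
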