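import Cfsg.Agent.Mat.M22C

/-! The two groups of order 16 normalized by a Sylow 3-subgroup. -/

set_option autoImplicit false
set_option linter.unusedSectionVars false

namespace Cfsg.Agent.Mat

open Subgroup MulAction Cfsg.Agent.M11 Cfsg.Agent.Local
open scoped Pointwise

variable {G : Type*} [Group G] [Finite G]

/-- The number of fixed points. -/
noncomputable def FF (W : Subgroup G) (r : G) : ℕ := {w | w ∈ W ∧ Commute w r}.ncard

theorem FF_inv (W : Subgroup G) (r : G) : FF W r⁻¹ = FF W r := by simp only [FF, Commute.inv_right_iff]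

theorem nine_dvd_sum {P W : Subgroup G} (hP : Nat.card P = 9) {x u : G} (hx : x ∈ P) (hu : u ∈ P) (h1 : orderOf x = 3)
    (h2 : u ^ 3 = 1) (h3 : u ∉ zpowers x) (hX : P ≤ normalizer (W : Set G)) :
    9 ∣ Nat.card W + 2 * (FF W x + FF W u + FF W (x * u) + FF W (x * u⁻¹)) := by
  classical
  have h := card_dvd_sum_fixed (X := W) fun r hr u hu => conj_mem_of_mem_normalizer (hX hr) hu
  have e : (Set.toFinite (P : Set G)).toFinset =
      [1, x, x⁻¹, u, u⁻¹, x * u, (x * u)⁻¹, x * u⁻¹, (x * u⁻¹)⁻¹].toFinset := by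
    ext p
    simp only [Set.Finite.mem_toFinset, List.mem_toFinset, List.mem_cons, List.not_mem_nil, or_false]
    refine ⟨mem_nine hP hx hu h1 h2 h3, ?_⟩
    rintro (rfl | rfl | rfl | rfl | rfl | rfl | rfl | rfl | rfl)
    exacts [one_mem _, hx, inv_mem hx, hu, inv_mem hu, mul_mem hx hu, inv_mem (mul_mem hx hu), mul_mem hx (inv_mem hu),
      inv_mem (mul_mem hx (inv_mem hu))]
  have e2 := (Multiset.toFinset_card_eq_card_iff_nodup (m := (↑([1, x, x⁻¹, u, u⁻¹, x * u, (x * u)⁻¹, x * u⁻¹,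
    (x * u⁻¹)⁻¹] : List G) : Multiset G))).mp (by
      rw [List.toFinset_coe, ← e, ← Set.ncard_eq_toFinset_card _ _, ncard_coe, hP]; rfl)
  rw [hP, e, List.sum_toFinset _ e2] at h
  change 9 ∣ FF W 1 + (FF W x + (FF W x⁻¹ + (FF W u + (FF W u⁻¹ + (FF W (x * u) + (FF W (x * u)⁻¹ + (FF W (x * u⁻¹) +
    (FF W (x * u⁻¹)⁻¹ + 0)))))))) at h
  rw [FF_inv, FF_inv, FF_inv, FF_inv, show FF W 1 = Nat.card W from congrArg Set.ncard (Set.ext fun u => by simp)] at h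
  convert h using 1
  ring

/-- A basis of an elementary abelian Sylow subgroup of order 9. -/
structure Bas (S : Sylow 3 G) (x u : G) : Prop where
  hx : x ∈ S
  h1 : x ≠ 1
  hu : u ∈ S
  h2 : u ∉ zpowers x
  cube : ∀ p ∈ S, p ^ 3 = 1
  card : Nat.card S = 9

namespace Bas

variable {S : Sylow 3 G} {x u : G} (b : Bas S x u)
include b

theorem u1 : u ≠ 1 := fun e => b.h2 (e ▸ one_mem _)

theorem ox : orderOf x = 3 := orderOf_eq_prime (b.cube x b.hx) b.h1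

theorem swap : Bas S u x := ⟨b.hu, b.u1, b.hx, fun h => by
  rcases mem_zpowers_three (b.cube u b.hu) h with rfl | rfl | rfl
  exacts [b.h1 rfl, b.h2 (mem_zpowers _), b.h2 (by simp)], b.cube, b.card⟩

theorem inv : Bas S x u⁻¹ := ⟨b.hx, b.h1, inv_mem b.hu, fun h => b.h2 (inv_mem_iff.mp h), b.cube, b.card⟩

theorem mul : Bas S x (x * u) := ⟨b.hx, b.h1, mul_mem b.hx b.hu,
  fun h => b.h2 ((mul_mem_cancel_left (mem_zpowers x)).mp h), b.cube, b.card⟩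

theorem comm {p q : G} (hp : p ∈ S) (hq : q ∈ S) : Commute p q := comm_of_card_nine b.card hp hq

theorem mem {p : G} (hp : p ∈ S) :
    p = 1 ∨ p = x ∨ p = x⁻¹ ∨ p = u ∨ p = u⁻¹ ∨ p = x * u ∨ p = (x * u)⁻¹ ∨ p = x * u⁻¹ ∨ p = (x * u⁻¹)⁻¹ :=
  mem_nine b.card b.hx b.hu b.ox (b.cube u b.hu) b.h2 hp

theorem conj {g : G} (hg : g • S = S) : Bas S (g * x * g⁻¹) (g * u * g⁻¹) :=
  ⟨conj_mem_syl hg b.hx, fun e => b.h1 (conj_eq_one_iff.mp e), conj_mem_syl hg b.hu, fun ⟨k, e⟩ => b.h2 ⟨k, by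
    simpa [conj_zpow] using e⟩, b.cube, b.card⟩

end Bas

theorem AdjV.of_inv {x y : G} (h : AdjV x y⁻¹) : AdjV x y := by simpa using h.inv

namespace N22

variable (h : N22 G) {S : Sylow 3 G} {x u : G}
include h

theorem exists_bas (hx : x ∈ S) (h1 : x ≠ 1) : ∃ u, Bas S x u :=
  (h.exists_not_mem hx h1).imp fun _ hu => ⟨hx, h1, hu.1, hu.2, fun _ => h.cube, h.card_syl S⟩

theorem adj_self (hx : orderOf x = 3) : AdjV x x := fun _ ha _ hb => h.comm_VV hx ha hb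

theorem FF_cases {W : Subgroup G} (hW : IsPGroup 2 W) (hS : ↑S ≤ normalizer (W : Set G)) (hx : x ∈ S) (h1 : x ≠ 1) :
    FF W x = 4 ∧ VV x ≤ W ∨ FF W x = 1 ∧ ¬ VV x ≤ W := by
  have hx3 := h.ord_syl hx h1
  have h2 : ∀ w ∈ W, Commute w x → w ∈ VV x := fun w hw hc => by
    obtain ⟨n, hn⟩ := IsPGroup.iff_card.mp hW
    exact (h.mem_VV hx3).mpr ⟨h.sq_of_comm hx3 hc (orderOf_dvd_iff_pow_eq_one.mp ((orderOf_dvd_natCard _ hw).trans
      (Nat.Coprime.dvd_of_dvd_mul_right (n := 3465) (hn ▸ Nat.Coprime.pow_left _ (by decide))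
        ((card_subgroup_dvd_card W).trans h.card.dvd)))), hc⟩
  by_cases h3 : VV x ≤ W
  · refine .inl ⟨?_, h3⟩
    rw [← (h.three hx3).2.1]
    exact congrArg Set.ncard (Set.ext fun w => ⟨fun hw => h2 w hw.1 hw.2, fun hw => ⟨h3 hw, ((h.mem_VV hx3).mp hw).2⟩⟩)
  · refine .inr ⟨Set.ncard_eq_one.mpr ⟨1, Set.eq_singleton_iff_unique_mem.mpr ⟨⟨one_mem _, Commute.one_left x⟩,
      fun w hw => by_contra fun h4 => h3 (h.VV_le hx h1 hS (h2 w hw.1 hw.2) h4 hw.1)⟩⟩, h3⟩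

theorem exists_W (hx : x ∈ S) (h1 : x ≠ 1) : ∃ W : Subgroup G, IsPGroup 2 W ∧ ↑S ≤ normalizer (W : Set G) ∧
    (Nat.card W = 16 ∨ Nat.card W = 64) ∧ ∀ r ∈ S, r ≠ 1 → (VV r ≤ W ↔ AdjV x r) := by
  have hx3 := h.ord_syl hx h1
  obtain ⟨z, hz, h2, -⟩ := exists_third (V := VV x) (by rw [(h.three hx3).2.1]; decide) 1
  obtain ⟨Q, q1, q2, q3, q4⟩ := h.exists_Q hx3 hz h2
  have hQ : IsPGroup 2 Q := IsPGroup.of_card (n := 6) q1
  have hxz : x ∈ centralizer {z} := mem_centralizer_singleton_iff.mpr ((h.mem_VV hx3).mp hz).2.symm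
  have hc : centralizer (VV x : Set G) ≤ centralizer {z} := centralizer_le (Set.singleton_subset_iff.mpr hz)
  have hN : ∀ p ∈ S, p ∈ normalizer (centralizer (VV x : Set G) : Set G) := fun p hp =>
    normalizer_le_normalizer_centralizer _ (h.norm_VV hx3 (h.comm_syl hp hx))
  have h3 : ∀ r ∈ S, r ≠ 1 → (VV r ≤ Q ⊓ centralizer (VV x : Set G) ↔ AdjV x r) := fun r hr h3 =>
    ⟨fun e a ha b hb => (mem_inf.mp (e hb)).2 a ha, fun e => le_inf (q4 _ (h.two_VV (h.ord_syl hr h3))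
      (fun b hb => hc fun a ha => e a ha b hb) (h.norm_VV (h.ord_syl hr h3) (h.comm_syl hx hr)))
      fun b hb a ha => e a ha b hb⟩
  have h4 : x ∈ normalizer ((Q ⊓ centralizer (VV x : Set G) : Subgroup G) : Set G) :=
    inf_normalizer_le_normalizer_inf (mem_inf.mpr ⟨q3 hxz, hN x hx⟩)
  have h5 := (h3 x hx h1).mpr (h.adj_self hx3)
  refine ⟨_, hQ.to_inf_left, fun p hp => mem_normalizer_of_conj_mem fun w hw => ?_, ?_, h3⟩
  · have h6 : MulAut.conj p • (Q ⊓ centralizer (VV x : Set G)) ≤ centralizer (VV x : Set G) := by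
      rintro _ ⟨v, hv, rfl⟩
      exact conj_mem_of_mem_normalizer (hN p hp) (mem_inf.mp hv).2
    have := conj_mem_conj_smul p h4
    rw [(h.comm_syl hp hx).eq, mul_inv_cancel_right, ← normalizer_conj_smul] at this
    exact le_inf (q4 _ (hQ.to_inf_left.map _) (h6.trans hc) this) h6 (conj_mem_conj_smul p hw)
  · have h6 := norm_grow (h5.trans inf_le_left) (k := 2) (h.three hx3).2.1 (by rw [q1]; decide)
    have h7 := card_le_two_mul (R := Q ⊓ normalizer (VV x : Set G)) (h.three hx3).2.1 hz h2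
      (sq_of_two (h.ord_VV hx3 hz h2)) inf_le_right (inf_le_left.trans q2)
    have h8 := h.card_inv hx3 (B := Q ⊓ normalizer (VV x : Set G)) hQ.to_inf_left
      (inf_normalizer_le_normalizer_inf (mem_inf.mpr ⟨q3 hxz, le_normalizer (h.norm_VV hx3 (Commute.refl x))⟩))
      (le_inf (h5.trans inf_le_left) le_normalizer)
    have h9 := card_le_of_le (inf_le_inf_right (centralizer (VV x : Set G))
      (inf_le_left : Q ⊓ normalizer (VV x : Set G) ≤ Q))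
    have := h.card_inv hx3 hQ.to_inf_left h4 h5
    omega

theorem exists_adj (hx : x ∈ S) (h1 : x ≠ 1) : ∃ u, Bas S x u ∧ AdjV x u := by
  obtain ⟨u, b⟩ := h.exists_bas hx h1
  obtain ⟨W, w1, w2, w3, w4⟩ := h.exists_W hx h1
  by_contra! h2
  have k : ∀ v, Bas S x v → FF W v = 1 := fun v b => ((h.FF_cases w1 w2 b.hu b.u1).resolve_left fun e =>
    h2 v b ((w4 v b.hu b.u1).mp e.2)).1
  have h3 := nine_dvd_sum b.card hx b.hu b.ox (b.cube u b.hu) b.h2 w2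
  rw [k _ b, k _ b.mul, k _ b.inv.mul, ((h.FF_cases w1 w2 hx h1).resolve_right fun e =>
    e.2 ((w4 x hx h1).mpr (h.adj_self b.ox))).1] at h3
  omega

theorem not_all (b : Bas S x u) {W : Subgroup G} (hW : IsPGroup 2 W) (hS : ↑S ≤ normalizer (W : Set G))
    (hc : 4 < Nat.card W) (h1 : VV x ≤ W) (h2 : VV u ≤ W) (h3 : VV (x * u) ≤ W) (h4 : VV (x * u⁻¹) ≤ W) : False := by
  have k : ∀ v ∈ S, v ≠ 1 → VV v ≤ W → FF W v = 4 := fun v hv h1 e =>
    ((h.FF_cases hW hS hv h1).resolve_right fun e' => e'.2 e).1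
  have h5 := nine_dvd_sum b.card b.hx b.hu b.ox (b.cube u b.hu) b.h2 hS
  rw [k _ b.hx b.h1 h1, k _ b.hu b.u1 h2, k _ b.mul.hu b.mul.u1 h3, k _ b.inv.mul.hu b.inv.mul.u1 h4] at h5
  have := h.card_inv b.ox hW (hS b.hx) h1
  omega

theorem not_all' (b : Bas S x u) {r : G} (hr : r ∈ S) (hr1 : r ≠ 1) (h1 : AdjV r x) (h2 : AdjV r u)
    (h3 : AdjV r (x * u)) (h4 : AdjV r (x * u⁻¹)) : False := by
  obtain ⟨W, w1, w2, w3, w4⟩ := h.exists_W hr hr1
  exact h.not_all b w1 w2 (by omega) ((w4 _ b.hx b.h1).mpr h1) ((w4 _ b.hu b.u1).mpr h2)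
    ((w4 _ b.mul.hu b.mul.u1).mpr h3) ((w4 _ b.inv.mul.hu b.inv.mul.u1).mpr h4)

theorem eq_one_VV (b : Bas S x u) {a : G} (h1 : a ∈ VV x) (h2 : a ∈ VV u) : a = 1 :=
  h.eq_one_of_comm b.hx b.h1 b.hu b.h2 ((h.mem_VV b.ox).mp h1).1 ((h.mem_VV b.ox).mp h1).2
    ((h.mem_VV b.swap.ox).mp h2).2

theorem inf_U {w : G} (b : Bas S x u) (b' : Bas S x w) (h1 : AdjV x u) (h2 : AdjV x w) (h3 : ¬ AdjV u w) :
    (VV x ⊔ VV u) ⊓ (VV x ⊔ VV w) ≤ VV x := by
  obtain ⟨-, k1, k2⟩ := h.card_U b.hx b.h1 b.hu b.h2 h1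
  obtain ⟨-, k3, k4⟩ := h.card_U b.hx b.h1 b'.hu b'.h2 h2
  have h4 := h.card_inv b.ox (IsPGroup.of_card (n := 4) k1).to_inf_left (le_normalizer_inf k2 k4 b.hx)
    (le_inf le_sup_left le_sup_left)
  have h5 := card_le_of_le (inf_le_left : (VV x ⊔ VV u) ⊓ (VV x ⊔ VV w) ≤ _)
  refine (eq_of_le_of_card_ge (le_inf le_sup_left le_sup_left) (le_of_not_gt fun h6 => h3 fun a ha c hc => ?_)).ge
  rw [(h.three b.ox).2.1] at h6
  have h7 := (le_sup_right.trans (eq_of_le_of_card_ge inf_le_right (by omega)).ge).trans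
    (inf_le_left : (VV x ⊔ VV u) ⊓ (VV x ⊔ VV w) ≤ _)
  exact (sup_le (fun v hv a ha => (h1 v hv a ha).symm) (fun v hv a ha => h.comm_VV b.swap.ox ha hv) :
    _ ≤ centralizer (VV u : Set G)) (h7 hc) a ha

theorem norm_of_adj {y c : G} (b : Bas S x u) (h1 : AdjV x u) (h2 : AdjV y u) (hc : c ∈ VV y) :
    c ∈ normalizer ((VV x ⊔ VV u : Subgroup G) : Set G) := by
  obtain ⟨z, hz, h3, -⟩ := exists_third (V := VV u) (by rw [(h.three b.swap.ox).2.1]; decide) 1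
  rw [sup_comm]
  exact h.cent_le_norm b.hu b.u1 b.hx b.swap.h2 h1.symm hz h3 (mem_centralizer_singleton_iff.mpr (h2 c hc z hz))

theorem not_adj (b : Bas S x u) (h1 : AdjV x u) : ¬ AdjV x (x * u) := fun h2 => by
  have b1 := b.inv.mul
  have h3 : ¬ AdjV x (x * u⁻¹) := h.not_all' b b.hx b.h1 (h.adj_self b.ox) h1 h2
  obtain ⟨g, hg, e⟩ := h.trans_syl b.hx b.h1 b1.hu b1.u1
  have b2 := b.conj hg
  have h4 := h.adj_conj b.ox b.swap.ox h1 g
  have h5 := h.adj_conj b.ox b.mul.swap.ox h2 g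
  rw [← conj_mul, e] at h5
  rw [e] at b2 h4
  set y := x * u⁻¹
  set v := g * u * g⁻¹
  have k : ∀ r ∈ S, r ≠ 1 → AdjV y r ∨ r = y * v⁻¹ ∨ r = (y * v⁻¹)⁻¹ := fun r hr hr1 => by
    rcases b2.mem hr with e | e | e | e | e | e | e | e | e <;> rw [e]
    exacts [absurd e hr1, .inl (h.adj_self b2.ox), .inl (h.adj_self b2.ox).inv, .inl h4, .inl h4.inv, .inl h5,
      .inl h5.inv, .inr (.inl rfl), .inr (.inr rfl)]
  have k2 : ∀ r, Bas S x r → AdjV y r := fun r b3 => (k r b3.hu b3.u1).resolve_right fun e => b3.h2 (by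
    generalize y * v⁻¹ = m at k e
    rcases (k x b.hx b.h1).resolve_left fun e => h3 e.symm with e' | e' <;> rcases e with e | e <;> rw [e, e'] <;> simp)
  have h6 : ¬ AdjV u (x * u) := fun e => h.not_all' b b.hu b.u1 h1.symm (h.adj_self b.swap.ox) e (k2 u b).symm
  have k3 : ∀ r, Bas S x r → r ≠ y → r ≠ y⁻¹ → Bas S y r := fun r b3 e1 e2 => ⟨b2.hx, b2.h1, b3.hu, fun e => by
    rcases mem_zpowers_three (b.cube y b2.hx) e with e | e | e
    exacts [b3.u1 e, e1 e, e2 e], b.cube, b.card⟩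
  have b4 := k3 u b (fun e => h3 (e ▸ h1)) fun e => h3 (AdjV.of_inv (e ▸ h1))
  have b5 := k3 _ b.mul (fun e => h3 (e ▸ h2)) fun e => h3 (AdjV.of_inv (e ▸ h2))
  refine h3 fun a ha c hc => mul_inv_eq_iff_eq_mul.mp (mul_inv_eq_one.mp (h.eq_one_VV b1 ?_ ?_))
  · have k4 : ∀ r, Bas S x r → AdjV x r → a * c * a⁻¹ * c⁻¹ ∈ VV x ⊔ VV r := fun r b3 e => by
      rw [mul_assoc, mul_assoc, ← mul_assoc c]
      exact mul_mem (mem_sup_left ha) (conj_mem_of_mem_normalizer (h.norm_of_adj b3 e (k2 r b3) hc)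
        (mem_sup_left (inv_mem ha)))
    exact h.inf_U b b.mul h1 h2 h6 (mem_inf.mpr ⟨k4 _ b h1, k4 _ b.mul h2⟩)
  · have k4 : ∀ r, Bas S y r → AdjV y r → AdjV x r → a * c * a⁻¹ * c⁻¹ ∈ VV y ⊔ VV r := fun r b3 e e' =>
      mul_mem (conj_mem_of_mem_normalizer (h.norm_of_adj b3 e e' ha) (mem_sup_left hc)) (mem_sup_left (inv_mem hc))
    exact h.inf_U b4 b5 (k2 _ b) (k2 _ b.mul) h6 (mem_inf.mpr ⟨k4 _ b4 (k2 _ b) h1, k4 _ b5 (k2 _ b.mul) h2⟩)

theorem uniq (b : Bas S x u) (h1 : AdjV x u) {w : G} (hw : w ∈ S) (h2 : AdjV x w) :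
    w = 1 ∨ w = x ∨ w = x⁻¹ ∨ w = u ∨ w = u⁻¹ := by
  rcases b.mem hw with e | e | e | e | e | e | e | e | e
  exacts [.inl e, by simp [e], by simp [e], by simp [e], by simp [e], absurd (e ▸ h2) (h.not_adj b h1),
    absurd (AdjV.of_inv (e ▸ h2)) (h.not_adj b h1), absurd (e ▸ h2) (h.not_adj b.inv h1.inv),
    absurd (AdjV.of_inv (e ▸ h2)) (h.not_adj b.inv h1.inv)]

end N22

end Cfsg.Agent.Mat
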