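import Cfsg.Agent.Mat.M22D
import Cfsg.Agent.Mat.Fr16

/-! The normalizer of the group of order 16. -/

set_option autoImplicit false
set_option linter.unusedSectionVars false

namespace Cfsg.Agent.Mat

open Subgroup MulAction Cfsg.Agent.M11 Cfsg.Agent.Local
open scoped Pointwise

variable {G : Type*} [Group G] [Finite G]

theorem conj_smul_VV (g x : G) : MulAut.conj g • VV x = VV (g * x * g⁻¹) := by
  rw [VV, VV, conj_smul_eq_map, MonoidHom.map_closure]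
  congr 1
  ext y
  obtain ⟨y, rfl⟩ := (MulAut.conj g).surjective y
  refine ((MulAut.conj g).injective.mem_set_image).trans (and_congr ?_ ?_)
  · rw [← map_pow, MulEquiv.map_eq_one_iff]
  · exact ⟨commute_conj g, fun h => by simpa [mul_assoc] using commute_conj g⁻¹ h⟩

theorem Bas.sq {S : Sylow 3 G} {x u : G} (b : Bas S x u) {p : G} (hp : p ∈ S) : p * p = p⁻¹ :=
  eq_inv_of_mul_eq_one_left (by rw [← b.cube p hp, pow_succ, pow_two])

theorem not_180 {K : Subgroup G} {S : Sylow 3 G} (h : ↑S ≤ K) (h1 : Nat.card K = 180)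
    (h2 : 36 ∣ Nat.card ↥(normalizer ((S : Subgroup G) : Set G) ⊓ K))
    (h3 : Nat.card ↥(normalizer ((S : Subgroup G) : Set G) ⊓ K) < 180) : False := by
  have h4 := card_sylow_modEq_one 3 K
  rw [Sylow.card_eq_index_normalizer (S.subtype h)] at h4
  change (normalizer (((S : Subgroup G).subgroupOf K : Subgroup K) : Set K)).index % 3 = 1 at h4
  rw [← subgroupOf_normalizer_eq h] at h4
  have h5 := card_inf_mul_relIndex (normalizer ((S : Subgroup G) : Set G)) K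
  change relIndex _ _ % 3 = 1 at h4
  obtain ⟨m, hm⟩ := h2
  rw [h1, hm] at h5
  have h6 : m < 5 := by omega
  generalize relIndex _ K = r at h4 h5
  interval_cases m <;> omega

/-- The configuration. -/
structure Cf (S : Sylow 3 G) (x u c v : G) : Prop where
  b : Bas S x u
  adj : AdjV x u
  cS : c • S = S
  fr : Fr x u c v
  hv : v ∈ VV x

namespace N22

variable (h : N22 G) {S : Sylow 3 G} {x u c v : G}
include h

theorem exists_c (b : Bas S x u) (ha : AdjV x u) : ∃ c, c • S = S ∧ c * x * c⁻¹ = u ∧ c * u * c⁻¹ = x⁻¹ := by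
  obtain ⟨c, hc, e⟩ := h.trans_syl b.hx b.h1 b.hu b.u1
  have b1 := b.conj hc
  have h1 := h.adj_conj b.ox b.swap.ox ha c
  rw [e] at b1 h1
  refine ⟨c, hc, e, ?_⟩
  rcases h.uniq b.swap ha.symm b1.hu h1 with e1 | e1 | e1 | e1 | e1
  · exact absurd e1 b1.u1
  · exact absurd (by rw [e1]; exact mem_zpowers u) b1.h2
  · exact absurd (by rw [e1]; exact inv_mem (mem_zpowers u)) b1.h2
  · have h2 := h.mem_syl b.mul.hu b.mul.u1 hc (mul_inv_eq_iff_eq_mul.mp (by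
      rw [← conj_mul, e, e1, (b.comm b.hx b.hu).eq]))
    rw [(b.comm h2 b.hx).eq, mul_inv_cancel_right] at e
    exact absurd (e ▸ mem_zpowers x) b.h2
  · exact e1

theorem inv_t (b : Bas S x u) (hc : c • S = S) (h1 : c * x * c⁻¹ = u) (h2 : c * u * c⁻¹ = x⁻¹) :
    orderOf (c * c) = 2 ∧ ∀ p ∈ S, c * c * p * (c * c)⁻¹ = p⁻¹ :=
  h.inv_all b.hx b.h1 (by rw [mul_smul, hc, hc]) (by rw [← h2, ← h1]; group)

theorem exists_cf : ∃ (S : Sylow 3 G) (x u c v : G), Cf S x u c v := by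
  obtain ⟨S⟩ := (inferInstance : Nonempty (Sylow 3 G))
  obtain ⟨x, hx, h1, -⟩ := exists_third (V := (S : Subgroup G)) (by rw [h.card_syl]; decide) 1
  obtain ⟨u, b, ha⟩ := h.exists_adj hx h1
  obtain ⟨c, hc, e1, e2⟩ := h.exists_c b ha
  obtain ⟨t1, t2⟩ := h.inv_t b hc e1 e2
  obtain ⟨a, ha', h2⟩ := exists_commute_of_not_dvd Nat.prime_two (y := c * c) (X := (VV x : Set G) \ {1})
    (t1 ▸ pow_orderOf_eq_one _) (fun v hv => ⟨by
      have := h.conj_VV b.ox hv.1 (c * c)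
      rwa [t2 x hx, VV_inv] at this, fun e => hv.2 (conj_eq_one_iff.mp e)⟩)
    (by rw [Set.ncard_sdiff_singleton_of_mem (one_mem _), ncard_coe, (h.three b.ox).2.1]; decide)
  have h3 := h.conj_VV' b.ox ha'.1 (b.comm b.hu hx)
  have h4 : u * a * u⁻¹ ≠ 1 := fun e => ha'.2 (conj_eq_one_iff.mp e)
  obtain ⟨h5, h6, -⟩ := h.rot hx h1 b.hu b.h2 h3 h4
  have h7 : ∀ y, u * (u * y * u⁻¹) * u⁻¹ = u⁻¹ * y * u := fun y =>
    calc _ = (u * u) * y * (u * u)⁻¹ := by group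
      _ = _ := by rw [b.sq b.hu, inv_inv]
  refine ⟨S, x, u, c, _, b, ha, hc, ⟨?_, e1, e2, b.comm hx b.hu, sq_of_two (h.ord_VV b.ox h3 h4), h4,
    ((h.mem_VV b.ox).mp h3).2.symm, ?_, (h7 _).symm.trans h6, ha _ h3 _ (e1 ▸ h.conj_VV b.ox h3 c),
    h.comm_VV b.ox h3 h5⟩, h3⟩
  · rw [← sq_of_two t1]; simp only [pow_succ, pow_zero, one_mul, mul_assoc]
  · rw [h7]
    calc _ = (c * c * u * (c * c)⁻¹) * (c * c * a * (c * c)⁻¹) * (c * c * u * (c * c)⁻¹)⁻¹ := by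
          rw [t2 u b.hu, h2.eq, mul_inv_cancel_right, inv_inv]
      _ = _ := by group

variable (k : Cf S x u c v)
include k

theorem eq_one_of_fix {g : G} (hg : g • S = S) (h1 : Commute g (c * c)) (h2 : g * x * g⁻¹ = x) : g = 1 := by
  have h3 := h.mem_syl k.b.hx k.b.h1 hg (mul_inv_eq_iff_eq_mul.mp h2)
  have h4 := (h.inv_t k.b k.cS k.fr.cx k.fr.cu).2 g h3
  rw [← h1.eq, mul_inv_cancel_right, ← k.b.sq h3] at h4
  exact left_eq_mul.mp h4

theorem exists_q : ∃ q, q • S = S ∧ q * x * q⁻¹ = x * u⁻¹ ∧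
    (q * u * q⁻¹ = (x * u)⁻¹ ∧ q * c * q⁻¹ = c⁻¹ ∧ q * q = c * c ∨
      q * u * q⁻¹ = x * u ∧ q * c * q⁻¹ = c ∧ q * q = c) := by
  have b := k.b
  obtain ⟨t1, t2⟩ := h.inv_t b k.cS k.fr.cx k.fr.cu
  have b1 := b.inv.mul
  obtain ⟨q, h1, h2, h3⟩ : ∃ q, q • S = S ∧ q * x * q⁻¹ = x * u⁻¹ ∧ Commute q (c * c) := by
    obtain ⟨g, hg, e⟩ := h.trans_syl b.hx b.h1 b1.hu b1.u1
    have hg' : g⁻¹ • S = S := inv_smul_eq_iff.mpr hg.symm
    have h1 : g * (c * c) * g⁻¹ * (c * c)⁻¹ ∈ S := h.mem_syl b.hx b.h1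
      (by simp only [mul_smul, mul_inv_rev, hg, hg', k.cS, inv_smul_eq_iff.mpr k.cS.symm])
      (mul_inv_eq_iff_eq_mul.mp (by
        have h1 := t2 _ (conj_mem_syl hg' (inv_mem b.hx))
        have h2 := t2 _ (inv_mem b.hx)
        generalize c * c = t at h1 h2
        calc _ = g * (t * (g⁻¹ * (t⁻¹ * x⁻¹⁻¹ * t) * g⁻¹⁻¹) * t⁻¹) * g⁻¹ := by group
          _ = _ := by rw [← h2, show t⁻¹ * (t * x⁻¹ * t⁻¹) * t = x⁻¹ by group, h1]; group))
    refine ⟨g * (c * c) * g⁻¹ * (c * c)⁻¹ * g, by rw [mul_smul, hg, smul_eq_of_mem h1], ?_, mul_inv_eq_iff_eq_mul.mp ?_⟩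
    · generalize g * (c * c) * g⁻¹ * (c * c)⁻¹ = p at h1
      calc _ = p * (g * x * g⁻¹) * p⁻¹ := by group
        _ = _ := by rw [e, (b.comm h1 b1.hu).eq, mul_inv_cancel_right]
    · have h2 := t2 _ (inv_mem h1)
      have h3 := b.cube _ h1
      generalize hp : g * (c * c) * g⁻¹ * (c * c)⁻¹ = p at h1 h2 h3
      calc _ = p * (g * (c * c) * g⁻¹ * (c * c)⁻¹) * (c * c * p⁻¹ * (c * c)⁻¹) * (c * c) := by group
        _ = _ := by rw [hp, h2, inv_inv, ← pow_three', h3, one_mul]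
  have b2 := b.conj h1
  have h4 := h.adj_conj b.ox b.swap.ox k.adj q
  rw [h2] at b2 h4
  have hxu := b.comm b.hx b.hu
  have h5 := h.not_adj b.inv k.adj.inv
  have h6 : ¬ AdjV u (x * u⁻¹) := fun e => h.not_adj b.swap.inv k.adj.symm.inv (by simpa using e.inv)
  have hq : q⁻¹ • S = S := inv_smul_eq_iff.mpr h1.symm
  have hc : c⁻¹ • S = S := inv_smul_eq_iff.mpr k.cS.symm
  have hcc : Commute c (c * c) := (Commute.refl c).mul_right (Commute.refl c)
  have e1 : c⁻¹ * x * c = u⁻¹ := by rw [← inv_inv x, ← k.fr.cu]; group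
  have e2 : c⁻¹ * u * c = x := by rw [← k.fr.cx]; group
  refine ⟨q, h1, h2, ?_⟩
  rcases b.mem b2.hu with e | e | e | e | e | e | e | e | e
  · exact absurd e b2.u1
  · exact absurd (e ▸ h4).symm h5
  · exact absurd (AdjV.of_inv (e ▸ h4)).symm h5
  · exact absurd (e ▸ h4).symm h6
  · exact absurd (AdjV.of_inv (e ▸ h4)).symm h6
  · have h7 : q * q = c := inv_mul_eq_one.mp (h.eq_one_of_fix k (g := c⁻¹ * (q * q))
      (by simp only [mul_smul, h1, hc]) (hcc.inv_left.mul_left (h3.mul_left h3)) (by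
        calc _ = c⁻¹ * (q * (q * x * q⁻¹) * q⁻¹) * c := by group
          _ = c⁻¹ * ((q * x * q⁻¹) * (q * u * q⁻¹)⁻¹) * c := by nth_rw 1 [h2]; group
          _ = _ := by
            rw [h2, e, hxu.eq, mul_inv_rev, mul_assoc x, ← mul_assoc u⁻¹, ← hxu.inv_inv.eq, ← mul_assoc, ← mul_assoc,
              ← mul_assoc, mul_inv_cancel_right, mul_assoc c⁻¹, b.sq (inv_mem b.hu), inv_inv, e2])) |>.symm
    exact .inr ⟨e, by rw [← h7]; group, h7⟩
  · refine .inl ⟨e, eq_inv_of_mul_eq_one_left ?_, (inv_mul_eq_one.mp (h.eq_one_of_fix k (g := (c * c)⁻¹ * (q * q))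
      (by simp only [mul_smul, mul_inv_rev, h1, hc]) ((Commute.refl _).inv_left.mul_left (h3.mul_left h3)) ?_)).symm⟩
    · have := h.eq_one_of_fix k (g := q⁻¹ * c * q * c) (by simp only [mul_smul, h1, hq, k.cS])
        (((h3.inv_left.mul_left hcc).mul_left h3).mul_left hcc) (by
          calc _ = q⁻¹ * (c * (q * (c * x * c⁻¹) * q⁻¹) * c⁻¹) * q := by group
            _ = q⁻¹ * ((c * x * c⁻¹) * (c * u * c⁻¹))⁻¹ * q := by nth_rw 1 [k.fr.cx]; rw [e]; group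
            _ = _ := by rw [k.fr.cx, k.fr.cu, mul_inv_rev, inv_inv, ← h2]; group)
      calc _ = (q * c) * (q⁻¹ * c * q * c) * (q * c)⁻¹ := by group
        _ = 1 := by rw [this]; group
    · generalize c * c = t at t2
      calc _ = t⁻¹ * (q * (q * x * q⁻¹) * q⁻¹) * t := by group
        _ = t⁻¹ * ((q * x * q⁻¹) * (q * u * q⁻¹)⁻¹) * t := by nth_rw 1 [h2]; group
        _ = _ := by
          rw [h2, e, inv_inv, hxu.eq, ← mul_assoc (x * u⁻¹), inv_mul_cancel_right, b.sq b.hx, ← t2 x b.hx]; group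
  · exact absurd (e ▸ mem_zpowers _) b2.h2
  · exact absurd (e ▸ inv_mem (mem_zpowers _)) b2.h2

theorem card_U' : Nat.card ↥(VV x ⊔ VV u) = 16 := (h.card_U k.b.hx k.b.h1 k.b.hu k.b.h2 k.adj).2.1

theorem S_le : ↑S ≤ normalizer ((VV x ⊔ VV u : Subgroup G) : Set G) :=
  (h.card_U k.b.hx k.b.h1 k.b.hu k.b.h2 k.adj).2.2

theorem c_mem : c ∈ normalizer ((VV x ⊔ VV u : Subgroup G) : Set G) := by
  rw [mem_normalizer_iff_conj_smul_eq, smul_sup, conj_smul_VV, conj_smul_VV, k.fr.cx, k.fr.cu, VV_inv, sup_comm]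

theorem PP_mem_U (p : ℕ) : PP c v p ∈ VV x ⊔ VV u := PP_mem (mem_sup_left k.hv) (h.c_mem k) p

theorem exists_PP {g : G} (hg : g ∈ VV x ⊔ VV u) : ∃ p < 16, PP c v p = g :=
  k.fr.exists_PP (h.card_U' k) (mem_sup_left k.hv) (h.c_mem k) hg

theorem cc_v : cc v = 384 := h.cc2 (h.ord_VV k.b.ox k.hv k.fr.v1)

theorem cent_U {g : G} (hg : ∀ p < 16, Commute g (PP c v p)) : g ∈ VV x ⊔ VV u := by
  have b := k.b
  set U := VV x ⊔ VV u
  have h1 : U ≤ centralizer (U : Set G) := fun a ha b hb => by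
    obtain ⟨p, -, rfl⟩ := h.exists_PP k ha
    obtain ⟨p', -, rfl⟩ := h.exists_PP k hb
    rw [← k.fr.PP_xor, ← k.fr.PP_xor, Nat.xor_comm]
  have h2 : Nat.card (centralizer (U : Set G)) ∣ 128 := by
    refine Nat.Coprime.dvd_of_dvd_mul_right (n := 3) (((Nat.Prime.coprime_iff_not_dvd Nat.prime_three).mpr
      fun h2 => ?_).symm) ((card_dvd_of_le (centralizer_le (Set.singleton_subset_iff.mpr
        (mem_sup_left k.hv)))).trans (h.cc_v k).dvd)
    obtain ⟨y, hy, h3⟩ := exists_mem_orderOf_eq_of_dvd_card Nat.prime_three h2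
    have := card_dvd_cc (R := U) hy
    rw [h.card_U' k, (h.three h3).1] at this
    exact absurd this (by decide)
  have h3 : IsPGroup 2 (centralizer (U : Set G)) := by
    obtain ⟨n, -, e⟩ := (Nat.dvd_prime_pow Nat.prime_two (m := 7)).mp h2
    exact IsPGroup.of_card e
  have h4 := (h.S_le k).trans (normalizer_le_normalizer_centralizer U)
  have h5 := nine_dvd_sum b.card b.hx b.hu b.ox (b.cube u b.hu) b.h2 h4
  have k1 : ∀ r ∈ S, r ≠ 1 → VV r ≤ U → FF (centralizer (U : Set G)) r = 4 := fun r hr h0 e =>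
    ((h.FF_cases h3 h4 hr h0).resolve_right fun e' => e'.2 (e.trans h1)).1
  have k2 : ∀ r ∈ S, r ≠ 1 → ¬ AdjV x r → FF (centralizer (U : Set G)) r = 1 := fun r hr h0 e =>
    ((h.FF_cases h3 h4 hr h0).resolve_left fun e' => e fun a ha b hb => e'.2 hb a (mem_sup_left ha)).1
  rw [k1 x b.hx b.h1 le_sup_left, k1 u b.hu b.u1 le_sup_right, k2 _ b.mul.hu b.mul.u1 (h.not_adj b k.adj),
    k2 _ b.inv.mul.hu b.inv.mul.u1 (h.not_adj b.inv k.adj.inv)] at h5
  have h6 := h.card_inv b.ox h3 (h4 b.hx) (le_sup_left.trans h1)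
  refine (eq_of_le_of_card_ge h1 (by rw [h.card_U' k]; omega)).ge fun a ha => ?_
  obtain ⟨p, hp, rfl⟩ := h.exists_PP k ha
  exact (hg p hp).symm

theorem cent_v : centralizer {v} ≤ normalizer ((VV x ⊔ VV u : Subgroup G) : Set G) :=
  h.cent_le_norm k.b.hx k.b.h1 k.b.hu k.b.h2 k.adj k.hv k.fr.v1

theorem card_N : Nat.card (normalizer ((VV x ⊔ VV u : Subgroup G) : Set G)) = 5760 := by
  have h1 := card_inf_centralizer_mul (normalizer ((VV x ⊔ VV u : Subgroup G) : Set G)) v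
  rw [inf_eq_right.mpr (h.cent_v k), ← cc, h.cc_v k] at h1
  have h2 := card_dvd_of_le (h.S_le k)
  have h3 := card_subgroup_dvd_card (normalizer ((VV x ⊔ VV u : Subgroup G) : Set G))
  have h4 := Set.ncard_le_ncard (s := {w | ∃ r ∈ normalizer ((VV x ⊔ VV u : Subgroup G) : Set G), r * v * r⁻¹ = w})
    (t := (VV x ⊔ VV u : Subgroup G)) (by
      rintro _ ⟨r, hr, rfl⟩; exact conj_mem_of_mem_normalizer hr (mem_sup_left k.hv))
  have h5 := Set.ncard_le_ncard (t := {w | ∃ r ∈ normalizer ((VV x ⊔ VV u : Subgroup G) : Set G), r * v * r⁻¹ = w})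
    (s := Set.range fun j : Fin 4 => PP c v (2 ^ j.1)) (by
      rintro _ ⟨j, rfl⟩
      refine ⟨c ^ j.1, pow_mem (h.c_mem k) _, ?_⟩
      have := k.fr.act_c.pow j 1 (by decide)
      rwa [PP_one, (by decide +kernel : ∀ j : Fin 4, lk (c16 ^ j.1).1 1 = 2 ^ j.1)] at this)
  rw [Set.ncard_range_of_injective fun i j e => Fin.ext (Nat.pow_right_injective le_rfl (k.fr.PP_inj
    ((by decide : ∀ j : Fin 4, 2 ^ j.1 < 16) i) ((by decide : ∀ j : Fin 4, 2 ^ j.1 < 16) j) e)), Nat.card_fin] at h5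
  rw [ncard_coe, h.card_U' k] at h4
  rw [h.card_syl, ← h1] at h2
  rw [h.card, ← h1] at h3
  rw [← h1]
  generalize Set.ncard _ = n at h2 h3 h4 h5
  interval_cases n <;> first | rfl | omega

end N22

end Cfsg.Agent.Mat
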