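import Cfsg.Agent.Mat.M22A

/-! Order statistics of a group with the order and same-order counts of `M23`. -/

set_option autoImplicit false
set_option linter.unusedSectionVars false

namespace Cfsg.Agent.Mat

open Subgroup MulAction Cfsg.Agent.M11

variable {G : Type*} [Group G] [Finite G]

theorem le_two_of_odd_mo {n : ℕ} (h : mo G n % 2 = 1) : n = 1 ∨ n = 2 := by
  have h1 := totient_dvd_mo (G := G) n
  by_contra h2
  rcases Nat.eq_zero_or_pos n with rfl | h3
  · rw [Nat.totient_zero, zero_dvd_iff] at h1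
    omega
  · have := (Nat.totient_even (n := n) (by omega)).two_dvd.trans h1
    omega

theorem exists_extra {S : Finset ℕ} {f : ℕ → ℕ} (hf : ∀ c ∈ S, c = mo G (f c)) {p k : ℕ} (hk : ¬ p ∣ k)
    (hG : Nat.card G = ∑ c ∈ S, c + k) (h : ∀ n, ¬ p ∣ mo G n → n ∈ S.image f ∨ mo G n = k) :
    ∃ e, ∀ n, mo G n ≠ 0 → n = f (mo G n) ∨ n = e ∧ mo G n = k := by
  classical
  have h2 := ncard_eq_sum_mo (G := G) (S.image f)
  rw [Finset.sum_image fun a ha b hb e => by rw [hf a ha, hf b hb, e],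
    Finset.sum_congr rfl fun c hc => (hf c hc).symm] at h2
  have h3 := Set.ncard_add_ncard_compl {g : G | orderOf g ∈ S.image f}
  rw [h2, hG, Nat.add_right_inj] at h3
  obtain ⟨a, ha, h4⟩ : ∃ a ∈ {g : G | orderOf g ∈ S.image f}ᶜ, ¬ p ∣ mo G (orderOf a) := by
    by_contra! h4
    refine hk (h3 ▸ dvd_ncard_of_fibers (Set.toFinite _) orderOf fun a ha => ?_)
    refine (h4 a ha).trans (dvd_of_eq (congrArg Set.ncard (Set.ext fun x => ⟨fun hx => ⟨fun h5 => ha ?_, hx⟩,
      fun hx => hx.2⟩)))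
    rwa [Set.mem_ofPred_eq, show orderOf x = orderOf a from hx] at h5
  have h5 := (h _ h4).resolve_left ha
  have h6 := Set.eq_of_subset_of_ncard_le (s := {g : G | orderOf g = orderOf a}) (t := {g : G | orderOf g ∈ S.image f}ᶜ)
    (fun x hx h6 => ha (by rwa [Set.mem_ofPred_eq, show orderOf x = orderOf a from hx] at h6)) (h3.trans h5.symm).le
  refine ⟨orderOf a, fun n hn => ?_⟩
  obtain ⟨g, rfl⟩ := exists_ord hn
  by_cases h7 : orderOf g ∈ S.image f
  · obtain ⟨c, hc, e⟩ := Finset.mem_image.mp h7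
    exact .inl (by rw [← e, ← hf c hc])
  · have h8 : orderOf g = orderOf a := h6.ge h7
    exact .inr ⟨h8, h8 ▸ h5⟩

theorem dvd_of_not {d a p : ℕ} (k : ℕ) (hp : p.Prime) (hn : ¬ p ∣ d) (h : d ∣ a * p ^ k) : d ∣ a :=
  (Nat.Coprime.pow_right k ((Nat.Prime.coprime_iff_not_dvd hp).mpr hn).symm).dvd_of_dvd_mul_right h

/-- The order statistics. -/
structure N23 (G : Type*) [Group G] : Prop where
  card : Nat.card G = 10200960
  spec : ∀ g : G, orderOf g ∈ ({1, 2, 3, 4, 5, 6, 7, 8, 11, 14, 15, 23} : Finset ℕ)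
  m2 : mo G 2 = 3795
  m3 : mo G 3 = 56672
  m5 : mo G 5 = 680064
  m6 : mo G 6 = 850080
  m7 : mo G 7 = 1457280
  m14 : mo G 14 = 1457280
  m15 : mo G 15 = 1360128

theorem arith23 {a b c d e f : ℕ} (ha : a = 0 ∨ a = 318780 ∨ a = 850080 ∨ a = 1275120)
    (hb : b = 0 ∨ b = 318780 ∨ b = 850080 ∨ b = 1275120) (hc : c = 0 ∨ c = 318780 ∨ c = 850080 ∨ c = 1275120)
    (hd : d = 0 ∨ d = 318780 ∨ d = 850080 ∨ d = 1275120) (z1 : a = 0 → b = 0) (z2 : b = 0 → c = 0)
    (z3 : c = 0 → d = 0) (z4 : d = 0 → e = 0) (z5 : d = 0 → f = 0) (n1 : b = 0 ∨ b ≠ a ∨ b = 1457280)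
    (n2 : c = 0 ∨ c ≠ a ∨ c = 1457280) (n3 : c = 0 ∨ c ≠ b ∨ c = 1457280) (n4 : d = 0 ∨ d ≠ a ∨ d = 1457280)
    (n5 : d = 0 ∨ d ≠ b ∨ d = 1457280) (n6 : d = 0 ∨ d ≠ c ∨ d = 1457280)
    (h : 128 ∣ 1 + (3795 + (a + (b + (c + (d + (e + f))))))) :
    a = 318780 ∧ b = 1275120 ∨ a = 1275120 ∧ b = 318780 := by
  rcases ha with rfl | rfl | rfl | rfl <;> rcases hb with rfl | rfl | rfl | rfl <;>
    rcases hc with rfl | rfl | rfl | rfl <;> rcases hd with rfl | rfl | rfl | rfl <;> simp at * <;> omega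

theorem n23_of_nse (hG : Nat.card G = 10200960) (h : ∀ c, (0 < c ∧ ∃ n, c = mo G n) ↔
    c ∈ ({1, 3795, 56672, 318780, 680064, 850080, 1457280, 1275120, 1854720, 1360128, 887040} : Finset ℕ)) :
    N23 G := by
  classical
  have h1 : ∀ c ∈ ({1, 3795, 56672, 318780, 680064, 850080, 1457280, 1275120, 1854720, 1360128, 887040} : Finset ℕ),
    ∃ n, c = mo G n := fun c hc => ((h c).mpr hc).2
  choose! f hf using h1
  have hv : ∀ n, mo G n = 0 ∨ mo G n = 1 ∨ mo G n = 3795 ∨ mo G n = 56672 ∨ mo G n = 318780 ∨ mo G n = 680064 ∨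
      mo G n = 850080 ∨ mo G n = 1457280 ∨ mo G n = 1275120 ∨ mo G n = 1854720 ∨ mo G n = 1360128 ∨
      mo G n = 887040 := fun n => by
    rcases Nat.eq_zero_or_pos (mo G n) with h0 | h0
    · exact .inl h0
    · exact .inr (by simpa using (h _).mp ⟨h0, n, rfl⟩)
  have m1 : mo G 1 = 1 := by simp [mo]
  have g2 : f 3795 = 2 := (le_two_of_odd_mo (G := G) (by rw [← hf 3795 (by decide)])).resolve_left fun e => by
    have := hf 3795 (by decide)
    rw [e, m1] at this
    omega
  have m2 : mo G 2 = 3795 := g2 ▸ (hf 3795 (by decide)).symm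
  have g1 : f 1 = 1 := (le_two_of_odd_mo (G := G) (by rw [← hf 1 (by decide)])).resolve_right fun e => by
    have := hf 1 (by decide)
    rw [e, m2] at this
    omega
  obtain ⟨e, he⟩ := exists_extra hf (p := 7) (k := 1457280) (by decide) (by rw [hG]; decide) fun n hn => by
    by_cases h1 : mo G n % 2 = 1
    · rcases le_two_of_odd_mo h1 with rfl | rfl
      exacts [.inl (Finset.mem_image.mpr ⟨1, by decide, g1⟩), .inl (Finset.mem_image.mpr ⟨3795, by decide, g2⟩)]
    · have := hv n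
      clear * - this h1 hn
      omega
  have hne : ∀ a b, a ≠ b → mo G a = 0 ∨ mo G a ≠ mo G b ∨ mo G a = 1457280 := fun a b hab => by
    by_contra! hn
    have h1 := (he a hn.1).resolve_right fun e => hn.2.2 e.2
    have h2 := (he b (hn.2.1 ▸ hn.1)).resolve_right fun e => hn.2.2 (hn.2.1.trans e.2)
    exact hab (h1.trans (hn.2.1 ▸ h2.symm))
  have F := fun (p : ℕ) (hp : p.Prime) a (ha : p ^ a ∣ 10200960) => pow_dvd_sum_mo (G := G) hp (hG ▸ ha)
  have p23 : Nat.Prime 23 := by decide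
  have f3 := F 3 Nat.prime_three 1 (by decide)
  have f5 := F 5 Nat.prime_five 1 (by decide)
  have f7 := F 7 Nat.prime_seven 1 (by decide)
  have f11 := F 11 Nat.prime_eleven 1 (by decide)
  have f23 := F 23 p23 1 (by decide)
  have f128 := F 2 Nat.prime_two 7 (by decide)
  rw [show Nat.divisors (3 ^ 1) = {1, 3} by decide] at f3
  rw [show Nat.divisors (5 ^ 1) = {1, 5} by decide] at f5
  rw [show Nat.divisors (7 ^ 1) = {1, 7} by decide] at f7
  rw [show Nat.divisors (11 ^ 1) = {1, 11} by decide] at f11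
  rw [show Nat.divisors (23 ^ 1) = {1, 23} by decide] at f23
  rw [show Nat.divisors (2 ^ 7) = {1, 2, 4, 8, 16, 32, 64, 128} by decide +kernel] at f128
  simp only [Finset.mem_insert, Finset.mem_singleton, Finset.sum_insert, Finset.sum_singleton,
    Nat.reduceEqDiff, or_self, not_false_eq_true, m1, Nat.reducePow] at f3 f5 f7 f11 f23 f128
  have m3 : mo G 3 = 56672 := by have := hv 3; clear * - this f3; omega
  have m5 : mo G 5 = 680064 := by have := hv 5; clear * - this f5; omega
  have m7 : mo G 7 = 1457280 := by have := hv 7; clear * - this f7; omega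
  have m11 : mo G 11 = 1854720 := by have := hv 11; clear * - this f11; omega
  have m23 : mo G 23 = 887040 := by have := hv 23; clear * - this f23; omega
  have := Fact.mk Nat.prime_five
  have := Fact.mk Nat.prime_seven
  have := Fact.mk Nat.prime_eleven
  have := Fact.mk p23
  have nc : ∀ {p q : ℕ} {x : G}, p.Prime → orderOf x = q → p.Coprime q → mo G (p * q) = 0 → ¬ p ∣ cc x :=
    fun hp hx hc h0 h1 => by
      obtain ⟨y, rfl, h2⟩ := exists_of_prime_dvd_cc hp h1
      rw [← hx, ← h2.orderOf_mul_eq_mul_orderOf_of_coprime (hx ▸ hc)] at h0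
      exact mo_ne_zero _ h0
  obtain ⟨y5, o5⟩ := exists_ord (m5.trans_ne (by decide))
  obtain ⟨y7, o7⟩ := exists_ord (m7.trans_ne (by decide))
  obtain ⟨y11, o11⟩ := exists_ord (m11.trans_ne (by decide))
  obtain ⟨y23, o23⟩ := exists_ord (m23.trans_ne (by decide))
  have k5 := fun a ha h0 => mo_mul_prime (p := 5) (m := 2040192) hG (by decide) (a := a) ha h0 o5
  have k7 := fun a ha h0 => mo_mul_prime (p := 7) (m := 1457280) hG (by decide) (a := a) ha h0 o7
  have k11 := fun a ha h0 => mo_mul_prime (p := 11) (m := 927360) hG (by decide) (a := a) ha h0 o11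
  have k23 := fun a ha h0 => mo_mul_prime (p := 23) (m := 443520) hG (by decide) (a := a) ha h0 o23
  have hle : ∀ n, mo G n ≤ 1854720 := fun n => by have := hv n; clear * - this; omega
  have z10 : mo G (5 * 2) = 0 := by
    have h1 := k5 2 (by decide) (by decide)
    have h2 := iv_prime Nat.prime_two y5
    by_contra h3
    obtain ⟨u, hu⟩ := Set.nonempty_of_ncard_ne_zero (s := {u | orderOf u = 2 ∧ Commute u y5}) fun e => h3 (by
      rw [mul_comm, h1, e, mul_zero])
    have h4 := dvd_iv Nat.prime_two (hu.1 ▸ orderOf_dvd_cc hu.2)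
    have h5 := hne (2 * 5) 5 (by decide)
    have h6 := hle (2 * 5)
    rw [m5] at h1 h5
    clear * - h1 h2 h3 h4 h5 h6
    omega
  have z21 : mo G (7 * 3) = 0 := by
    have h1 := k7 3 (by decide) (by decide)
    have h2 := totient_dvd_comm y7 3
    have h6 := hle (3 * 7)
    rw [m7] at h1
    rw [show Nat.totient 3 = 2 by decide] at h2
    show mo G (3 * 7) = 0
    clear * - h1 h2 h6
    omega
  have z11 : ∀ a, a = 2 ∨ a = 3 → mo G (11 * a) = 0 := fun a ha => by
    have h1 := k11 a (by rcases ha with rfl | rfl <;> decide) (by clear * - ha; omega)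
    have h2 := hne (a * 11) 11 (by clear * - ha; omega)
    have h6 := hle (a * 11)
    rw [m11] at h1 h2
    rw [mul_comm]
    clear * - h1 h2 h6
    omega
  have z23 : ∀ a, a = 2 ∨ a = 3 → mo G (23 * a) = 0 := fun a ha => by
    have h1 := k23 a (by rcases ha with rfl | rfl <;> decide) (by clear * - ha; omega)
    have h2 := hne (a * 23) 23 (by clear * - ha; omega)
    have h3 := hv (a * 23)
    have h6 := hle (a * 23)
    rw [m23] at h1 h2
    rw [mul_comm]
    generalize mo G (a * 23) = k at h1 h2 h3 h6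
    clear * - h1 h2 h3 h6
    omega
  have m14 : mo G 14 = 1457280 := by
    obtain ⟨z, hz⟩ := exists_ord (m2.trans_ne (by decide))
    have h1 := k7 2 (by decide) (by decide)
    have h2 := hle (2 * 7)
    have h3 : mo G (7 * 2) ≠ 0 := fun e => by
      have := dvd_of_not (a := 1152) 1 Nat.prime_five (nc Nat.prime_five hz (by decide) z10) (dvd_of_not 1
        Nat.prime_seven (nc Nat.prime_seven hz (by decide) e) (dvd_of_not 1 Nat.prime_eleven
        (nc Nat.prime_eleven hz (by decide) (z11 2 (.inl rfl))) (dvd_of_not 1 p23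
        (nc p23 hz (by decide) (z23 2 (.inl rfl))) ((cc_dvd z).trans hG.dvd))))
      exact absurd ((le_cc_of_mo (k := 2688) (by rw [hz, m2, hG])).trans (Nat.le_of_dvd (by decide) this)) (by decide)
    rw [m7] at h1
    change mo G (2 * 7) ≠ 0 at h3
    show mo G (2 * 7) = _
    clear * - h1 h2 h3
    omega
  have m15 : mo G 15 = 1360128 := by
    have h1 := k5 3 (by decide) (by decide)
    have h2 := hle (3 * 5)
    have h3 : mo G (5 * 3) ≠ 0 := fun e => absurd (m3 ▸ dvd_mo (G := G) (n := 3) (d := 5) fun x hx => dvd_class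
      (by rw [hG]; decide) ((Nat.Prime.coprime_iff_not_dvd Nat.prime_five).mpr (nc Nat.prime_five hx (by decide) e)))
      (by decide)
    have h4 := hne (3 * 5) 5 (by decide)
    rw [m5] at h1 h4
    change mo G (3 * 5) ≠ 0 at h3
    show mo G (3 * 5) = _
    clear * - h1 h2 h3 h4
    omega
  have h6 : mo G (2 * 3) ≠ 0 := fun e => by
    obtain ⟨x, hx⟩ := exists_ord (m3.trans_ne (by decide))
    have := dvd_of_not (a := 45) 7 Nat.prime_two (nc Nat.prime_two hx (by decide) e) (dvd_of_not 1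
      Nat.prime_seven (nc Nat.prime_seven hx (by decide) z21) (dvd_of_not 1 Nat.prime_eleven
      (nc Nat.prime_eleven hx (by decide) (z11 3 (.inr rfl))) (dvd_of_not 1 p23
      (nc p23 hx (by decide) (z23 3 (.inr rfl))) ((cc_dvd x).trans hG.dvd))))
    exact absurd ((le_cc_of_mo (k := 180) (by rw [hx, m3, hG])).trans (Nat.le_of_dvd (by decide) this)) (by decide)
  have hw : ∀ n, n ∉ ({1, 2, 3, 5, 7, 11, 14, 15, 23} : Finset ℕ) →
      mo G n = 0 ∨ mo G n = 318780 ∨ mo G n = 850080 ∨ mo G n = 1275120 := fun n hn => by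
    simp only [Finset.mem_insert, Finset.mem_singleton, not_or] at hn
    have e0 : mo G n ≠ 1457280 := fun e0 => by
      have a1 := he n (e0.trans_ne (by decide))
      have a2 := he 7 (m7.trans_ne (by decide))
      have a3 := he 14 (m14.trans_ne (by decide))
      rw [e0] at a1; rw [m7] at a2; rw [m14] at a3
      clear * - a1 a2 a3 hn
      omega
    have e1 := hne n 1 hn.1
    have e2 := hne n 2 hn.2.1
    have e3 := hne n 3 hn.2.2.1
    have e5 := hne n 5 hn.2.2.2.1
    have e11 := hne n 11 hn.2.2.2.2.2.1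
    have e15 := hne n 15 hn.2.2.2.2.2.2.2.1
    have e23 := hne n 23 hn.2.2.2.2.2.2.2.2
    have e := hv n
    rw [m1] at e1; rw [m2] at e2; rw [m3] at e3; rw [m5] at e5; rw [m11] at e11; rw [m15] at e15; rw [m23] at e23
    generalize mo G n = k at e0 e e1 e2 e3 e5 e11 e15 e23
    clear * - e e0 e1 e2 e3 e5 e11 e15 e23
    omega
  have z : ∀ n d, d ∣ n → mo G d = 0 → mo G n = 0 := fun n d hd h0 =>
    by_contra fun hn => mo_ne_zero_of_dvd hn hd h0
  have m48 := arith23 (hw 4 (by decide)) (hw 8 (by decide)) (hw 16 (by decide)) (hw 32 (by decide))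
    (z 8 4 (by decide)) (z 16 8 (by decide)) (z 32 16 (by decide)) (z 64 32 (by decide)) (z 128 32 (by decide))
    (hne 8 4 (by decide)) (hne 16 4 (by decide)) (hne 16 8 (by decide)) (hne 32 4 (by decide)) (hne 32 8 (by decide))
    (hne 32 16 (by decide)) (m2 ▸ f128)
  have m6' : ∀ n, n ∉ ({1, 2, 3, 5, 7, 11, 14, 15, 23} : Finset ℕ) → n ≠ 4 → n ≠ 8 → mo G n ≠ 0 → mo G n = 850080 :=
    fun n h1 h2 h3 h4 => by
      have e1 := hw n h1
      have e2 := hne n 4 h2
      have e3 := hne n 8 h3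
      clear * - e1 e2 e3 h4 m48
      omega
  have m6 := m6' 6 (by decide) (by decide) (by decide) h6
  refine ⟨hG, fun g => by_contra fun hn => ?_, m2, m3, m5, m6, m7, m14, m15⟩
  simp only [Finset.mem_insert, Finset.mem_singleton, not_or] at hn
  have h7 := m6' (orderOf g) (by simp [hn]) hn.2.2.2.1 hn.2.2.2.2.2.2.2.1 (mo_ne_zero g)
  have h8 := hne (orderOf g) 6 hn.2.2.2.2.2.1
  rw [h7, m6] at h8
  exact absurd h8 (by decide)

end Cfsg.Agent.Mat
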