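import Cfsg.Agent.Mat.M23A
import Cfsg.Agent.Mat.M22E
import Cfsg.Agent.Mat.Gen3

/-! Classes of elements of prime order. -/

set_option autoImplicit false
set_option linter.unusedSectionVars false

namespace Cfsg.Agent.Mat

open Subgroup MulAction Cfsg.Agent.M11 Cfsg.Agent.Local
open scoped Pointwise

variable {G : Type*} [Group G] [Finite G]

theorem cc_of_conj {x : G} (h : ∀ y, orderOf y = orderOf x → IsConj x y) : cc x * mo G (orderOf x) = Nat.card G := by
  rw [← cc_mul x]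
  exact congrArg (cc x * Set.ncard ·) (Set.ext fun y => ⟨h y, fun e => (orderOf_eq_of_isConj e).symm⟩)

theorem conj_pow_pow {g y : G} {k : ℕ} (h : g * y * g⁻¹ = y ^ k) (n : ℕ) : g ^ n * y * (g ^ n)⁻¹ = y ^ k ^ n := by
  induction n with
  | zero => simp
  | succ n ih =>
    rw [pow_succ k, pow_mul, ← ih, conj_pow, ← h, pow_succ g]
    group

namespace N23

variable (h : N23 G)
include h

theorem pow30 {x g : G} (hx : orderOf x = 3) (hc : Commute g x) : g ^ 30 = 1 := by
  refine orderOf_dvd_iff_pow_eq_one.mp ((by decide : ∀ n ∈ ({1, 2, 3, 4, 5, 6, 7, 8, 11, 14, 15, 23} : Finset ℕ),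
    (n.Coprime 3 → n * 3 ∈ ({1, 2, 3, 4, 5, 6, 7, 8, 11, 14, 15, 23} : Finset ℕ)) → n ∣ 30) _ (h.spec g) fun e => ?_)
  have := h.spec (g * x)
  rwa [hc.orderOf_mul_eq_mul_orderOf_of_coprime (hx ▸ e), hx] at this

theorem sq_of_comm {x g : G} (hx : orderOf x = 3) (hc : Commute g x) {B : Subgroup G} (hB : IsPGroup 2 B)
    (hg : g ∈ B) : g * g = 1 := by
  obtain ⟨k, hk⟩ := hB ⟨g, hg⟩
  rw [← pow_two, ← orderOf_dvd_iff_pow_eq_one]
  exact (Nat.Coprime.of_dvd_left (orderOf_dvd_of_pow_eq_one (congrArg Subtype.val hk))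
    (Nat.Coprime.pow_left k (by decide))).dvd_of_dvd_mul_right (n := 15) (orderOf_dvd_of_pow_eq_one (h.pow30 hx hc))

theorem not_dvd {p : ℕ} {x : G} (hp : p.Prime) (h1 : p.Coprime (orderOf x))
    (h2 : p * orderOf x ∉ ({1, 2, 3, 4, 5, 6, 7, 8, 11, 14, 15, 23} : Finset ℕ)) : ¬ p ∣ cc x :=
  (Nat.Prime.coprime_iff_not_dvd hp).mp (coprime_cc h.spec hp h1 h2).symm

theorem cc5 {y : G} (hy : orderOf y = 5) : cc y ∣ 15 := by
  have := Fact.mk Nat.prime_five
  exact dvd_of_not 2 Nat.prime_two (h.not_dvd Nat.prime_two (by rw [hy]; decide) (by rw [hy]; decide))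
    (cc_dvd_of_prime (m := 2040192) h.card (by decide) hy (by rw [h.m5, h.card]; rfl))

theorem conj5 {x y : G} (hx : orderOf x = 5) (hy : orderOf y = 5) : IsConj x y :=
  conj_of_cc (by have := Nat.le_of_dvd (by decide) (h.cc5 hx); rw [hx, h.m5, h.card]; omega) (hy.trans hx.symm)

theorem two3 {x y u : G} (hx : orderOf x = 3) (hy : orderOf y = 5) (hc : Commute x y) (hu : orderOf u = 3)
    (hc' : Commute u y) : u = x ∨ u = x⁻¹ := by
  have := Fact.mk Nat.prime_five
  have h1 := mo_mul_prime (m := 2040192) h.card (by decide) (a := 3) (by decide) (by decide) hy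
  rw [h.m15, h.m5] at h1
  exact (Set.eq_of_subset_of_ncard_le (s := {x, x⁻¹}) (t := {u | orderOf u = 3 ∧ Commute u y}) (by
    rintro _ (rfl | rfl)
    exacts [⟨hx, hc⟩, ⟨(orderOf_inv x).trans hx, hc.inv_left⟩])
    (by rw [Set.ncard_pair (ne_inv_of_three hx)]; omega)).ge ⟨hu, hc'⟩

theorem cc_dvd' {x : G} (hx : orderOf x = 2 ∨ orderOf x = 3) : cc x ∣ 2 ^ 7 * 9 * 5 ^ 1 * 7 ^ 1 :=
  dvd_of_not 1 Nat.prime_eleven (h.not_dvd Nat.prime_eleven (by rcases hx with e | e <;> rw [e] <;> decide)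
    (by rcases hx with e | e <;> rw [e] <;> decide)) (dvd_of_not (p := 23) 1 (by decide) (h.not_dvd (by decide)
    (by rcases hx with e | e <;> rw [e] <;> decide) (by rcases hx with e | e <;> rw [e] <;> decide))
    ((cc_dvd x).trans h.card.dvd))

theorem mo_zero {n : ℕ} (hn : n ∉ ({1, 2, 3, 4, 5, 6, 7, 8, 11, 14, 15, 23} : Finset ℕ)) : mo G n = 0 :=
  by_contra fun e => by obtain ⟨x, rfl⟩ := exists_ord e; exact hn (h.spec x)

theorem five_dvd {x : G} (hx : orderOf x = 3) : 5 ∣ cc x := by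
  classical
  by_contra h5
  have h1 := dvd_of_not 1 Nat.prime_five h5 (dvd_of_not 1 Nat.prime_seven
    (h.not_dvd Nat.prime_seven (by rw [hx]; decide) (by rw [hx]; decide)) (h.cc_dvd' (.inr hx)))
  obtain ⟨k, hk⟩ := nine_dvd_cc (h.card ▸ by decide) hx
  rw [hk, mul_comm] at h1
  obtain ⟨b, -, rfl⟩ := (Nat.dvd_prime_pow Nat.prime_two).mp (Nat.dvd_of_mul_dvd_mul_right (by decide) h1)
  have h2 : 2 ^ b ≤ iv (2 ^ 7) x := Nat.le_of_dvd ((Set.ncard_pos (s := {u | u ^ 2 ^ 7 = 1 ∧ Commute u x})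
    (Set.toFinite _)).mpr ⟨1, one_pow _, Commute.one_left x⟩)
    (pow_dvd_iv (A := 7) (m := 79695) (a := b) Nat.prime_two h.card (by decide) (x := x) ⟨9, by rw [hk, mul_comm]⟩)
  have h3 := sum_iv (G := G) (A := 2 ^ 7) (b := 3) (by decide) (by decide) (by decide)
  rw [show Nat.divisors (2 ^ 7) = {1, 2, 4, 8, 16, 32, 64, 128} by decide +kernel] at h3
  simp only [Finset.mem_insert, Finset.mem_singleton, Finset.sum_insert, Finset.sum_singleton,
    Nat.reduceEqDiff, or_self, not_false_eq_true, Nat.reduceMul, h.m3, h.m6, h.mo_zero (n := 12) (by decide),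
    h.mo_zero (n := 24) (by decide), h.mo_zero (n := 48) (by decide), h.mo_zero (n := 96) (by decide),
    h.mo_zero (n := 192) (by decide), h.mo_zero (n := 384) (by decide)] at h3
  have h4 := Finset.sum_le_sum_of_subset (f := iv (2 ^ 7)) (Finset.filter_subset (IsConj x ·) (ordS G 3))
  rw [h3, Finset.sum_const_nat (m := iv (2 ^ 7) x) fun y hy => by
    obtain ⟨c, rfl⟩ := isConj_iff.mp (Finset.mem_filter.mp hy).2
    exact iv_conj _ c x, ← Set.ncard_coe_finset, show ((ordS G 3).filter (IsConj x ·) : Set G) = {w | IsConj x w} from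
      Set.ext fun w => by
        simpa [mem_ordS] using fun e => (orderOf_eq_of_isConj (isConj_iff.mpr e)).symm.trans hx] at h4
  have h6 := cc_mul x
  rw [hk, h.card] at h6
  nlinarith [Nat.mul_le_mul_left {w | IsConj x w}.ncard h2]

theorem exists_inv3 {x : G} (hx : orderOf x = 3) : ∃ g, g * x * g⁻¹ = x⁻¹ ∧ g ^ 30 ≠ 1 := by
  obtain ⟨y, hy, hc⟩ := exists_of_prime_dvd_cc Nat.prime_five (h.five_dvd hx)
  obtain ⟨g, hg⟩ := isConj_iff.mp (h.conj5 hy (y := y ^ 2) (by rw [orderOf_pow, hy]; rfl))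
  have h1 : g ^ 30 ≠ 1 := fun e => by
    have h1 := conj_pow_pow hg 30
    rw [e, one_mul, inv_one, mul_one, eq_comm] at h1
    have := pow_eq_pow_iff_modEq.mp (h1.trans (pow_one y).symm)
    rw [hy] at this
    exact absurd this (by decide)
  refine ⟨g, (h.two3 hx hy hc.symm ((orderOf_conj' g x).trans hx) ?_).resolve_left
    fun e => h1 (h.pow30 hx (mul_inv_eq_iff_eq_mul.mp e)), h1⟩
  have h2 := (commute_conj g hc.symm).pow_right 3
  rwa [hg, ← pow_mul, pow_succ, ← hy, pow_orderOf_eq_one, one_mul] at h2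

theorem conj3 {x y : G} (hx : orderOf x = 3) (hy : orderOf y = 3) : IsConj x y := by
  obtain ⟨a, ha, hc⟩ := exists_of_prime_dvd_cc Nat.prime_five (h.five_dvd hx)
  obtain ⟨b, hb, hc'⟩ := exists_of_prime_dvd_cc Nat.prime_five (h.five_dvd hy)
  obtain ⟨c, rfl⟩ := isConj_iff.mp (h.conj5 ha hb)
  rcases h.two3 ((orderOf_conj' c x).trans hx) hb (commute_conj c hc.symm) hy hc'.symm with rfl | rfl
  · exact isConj_iff.mpr ⟨c, rfl⟩
  · obtain ⟨g, hg, -⟩ := h.exists_inv3 hx
    exact isConj_iff.mpr ⟨c * g, by rw [conj_inv, ← hg]; group⟩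

theorem cc3 {x : G} (hx : orderOf x = 3) : cc x = 180 := by
  have := cc_of_conj fun y hy => h.conj3 hx (hy.trans hx)
  rw [hx, h.m3, h.card] at this
  omega

theorem one7 {y z z' : G} (hy : orderOf y = 7) (hz : orderOf z = 2) (hc : Commute z y) (hz' : orderOf z' = 2)
    (hc' : Commute z' y) : z' = z := by
  have := Fact.mk Nat.prime_seven
  have h1 := mo_mul_prime (m := 1457280) h.card (by decide) (a := 2) (by decide) (by decide) hy
  rw [h.m14, h.m7] at h1
  exact (Set.ncard_le_one (Set.toFinite {u | orderOf u = 2 ∧ Commute u y})).mp (by omega) _ ⟨hz', hc'⟩ _ ⟨hz, hc⟩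

theorem seven_dvd {z : G} (hz : orderOf z = 2) : 7 ∣ cc z := by_contra fun h7 =>
  absurd ((le_cc_of_mo (k := 2688) (by rw [hz, h.m2, h.card])).trans (Nat.le_of_dvd (by decide) (dvd_of_not 1
    Nat.prime_five (h.not_dvd Nat.prime_five (by rw [hz]; decide) (by rw [hz]; decide))
    (dvd_of_not 1 Nat.prime_seven h7 (h.cc_dvd' (.inl hz)))))) (by decide)

theorem conj2 {x y : G} (hx : orderOf x = 2) (hy : orderOf y = 2) : IsConj x y := by
  have := Fact.mk Nat.prime_seven
  obtain ⟨a, ha, hc⟩ := exists_of_prime_dvd_cc Nat.prime_seven (h.seven_dvd hx)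
  obtain ⟨b, hb, hc'⟩ := exists_of_prime_dvd_cc Nat.prime_seven (h.seven_dvd hy)
  obtain ⟨c, e⟩ := exists_conj_zpowers (m := 1457280) h.card (by decide) ha hb
  obtain ⟨k, hk⟩ := e.le (mem_zpowers b)
  exact isConj_iff.mpr ⟨c, h.one7 hb hy hc'.symm ((orderOf_conj' c x).trans hx)
    (hk ▸ (commute_conj c hc.symm).zpow_right k)⟩

theorem cc2 {x : G} (hx : orderOf x = 2) : cc x = 2688 := by
  have := cc_of_conj fun y hy => h.conj2 hx (hy.trans hx)
  rw [hx, h.m2, h.card] at this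
  omega

theorem iv3 {x : G} (hx : orderOf x = 3) : {u | orderOf u = 2 ∧ Commute u x}.ncard = 15 := by
  have h1 := mo_mul (G := G) (a := 2) (b := 3) (by decide) (by decide)
  rw [Finset.sum_const_nat (m := {u | orderOf u = 2 ∧ Commute u x}.ncard) fun y hy => by
    obtain ⟨c, rfl⟩ := isConj_iff.mp (h.conj3 hx (mem_ordS.mp hy))
    exact ncard_conj (P := fun u x => orderOf u = 2 ∧ Commute u x)
      (fun c u x h => ⟨(orderOf_conj' c u).trans h.1, commute_conj c h.2⟩) c x, card_ordS, h.m3, h.m6] at h1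
  omega

theorem card_syl (S : Sylow 3 G) : Nat.card S = 9 := card_sylow_eq S 2 1133440 h.card (by decide)

theorem comm_syl {S : Sylow 3 G} {x y : G} (hx : x ∈ S) (hy : y ∈ S) : Commute x y :=
  comm_of_card_nine (h.card_syl S) hx hy

theorem ord_syl {S : Sylow 3 G} {x : G} (hx : x ∈ S) (h1 : x ≠ 1) : orderOf x = 3 := by
  have h2 : orderOf x ∣ 9 := h.card_syl S ▸ orderOf_dvd_natCard _ hx
  have h3 := h.spec x
  rw [Ne, ← orderOf_eq_one_iff] at h1
  revert h1 h2
  generalize orderOf x = n at h3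
  revert n
  decide

theorem cube {S : Sylow 3 G} {p : G} (hp : p ∈ S) : p ^ 3 = 1 := by
  by_cases h1 : p = 1
  · rw [h1, one_pow]
  · rw [← h.ord_syl hp h1, pow_orderOf_eq_one]

theorem exists_bas {S : Sylow 3 G} {x : G} (hx : x ∈ S) (h1 : x ≠ 1) : ∃ u, Bas S x u := by
  by_contra! h2
  have := card_le_of_le (show (S : Subgroup G) ≤ zpowers x from fun u hu => by_contra fun h3 =>
    h2 u ⟨hx, h1, hu, h3, fun _ => h.cube, h.card_syl S⟩)
  rw [h.card_syl, Nat.card_zpowers, h.ord_syl hx h1] at this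
  omega

theorem mem_of_cent {S : Sylow 3 G} {g : G} (hg : ∀ p ∈ S, Commute p g) : g ∈ S := by
  obtain ⟨x, hx, h1, -⟩ := exists_third (V := (S : Subgroup G)) (by rw [h.card_syl]; decide) 1
  have h2 : ∀ y ∈ centralizer ((S : Subgroup G) : Set G), 9 ∣ cc y := fun y hy => h.card_syl S ▸ card_dvd_cc hy
  refine le_of_no_involution (P := S) (R := centralizer ((S : Subgroup G) : Set G)) (k := 2)
    (fun p hp q hq => h.comm_syl hq hp) ?_ (fun v hv hv2 => absurd (h.cc2 hv2 ▸ h2 v hv) (by decide)) hg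
  rw [h.card_syl]
  refine dvd_of_not 1 Nat.prime_five (fun e => ?_) ((card_dvd_cc fun r hr => (hr x hx).symm).trans
    (h.cc3 (h.ord_syl hx h1)).dvd)
  obtain ⟨y, hy, h5⟩ := exists_mem_of_prime_dvd Nat.prime_five e
  exact absurd ((h2 y hy).trans (h.cc5 h5)) (by decide)

theorem mem_of_comm {S : Sylow 3 G} {x u g : G} (b : Bas S x u) (c1 : Commute g x) (c2 : Commute g u) : g ∈ S :=
  h.mem_of_cent fun p hp => by
    rcases b.mem hp with rfl | rfl | rfl | rfl | rfl | rfl | rfl | rfl | rfl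
    exacts [Commute.one_left g, c1.symm, c1.symm.inv_left, c2.symm, c2.symm.inv_left, (c1.mul_right c2).symm,
      (c1.mul_right c2).symm.inv_left, (c1.mul_right c2.inv_right).symm, (c1.mul_right c2.inv_right).symm.inv_left]

theorem eq_one_of_comm {S : Sylow 3 G} {x u a : G} (b : Bas S x u) (ha : a * a = 1) (c1 : Commute a x)
    (c2 : Commute a u) : a = 1 := eq_one_of_two_three ha (h.cube (h.mem_of_comm b c1 c2))

theorem pow3 {S : Sylow 3 G} {g : G} (hg : g • S = S) {K : Subgroup G} (hK : ↑S ≤ K) (h3 : g ^ 3 ∈ K) : g ∈ K := by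
  have h1 : ((S : Subgroup G).subgroupOf (normalizer ((S : Subgroup G) : Set G))).Normal := normal_in_normalizer
  have h2 := hK (show g ^ _ ∈ (S : Subgroup G) from ((S : Subgroup G).subgroupOf _).pow_index_mem
    ⟨g, Sylow.smul_eq_iff_mem_normalizer.mp hg⟩)
  have h4 : ¬ 3 ∣ ((S : Subgroup G).subgroupOf (normalizer ((S : Subgroup G) : Set G))).index :=
    (show ¬ 3 ∣ relIndex _ _ from fun e => S.not_dvd_index (e.trans (relIndex_dvd_index_of_le le_normalizer)))
  generalize ((S : Subgroup G).subgroupOf (normalizer ((S : Subgroup G) : Set G))).index = n at h2 h4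
  rw [← Nat.div_add_mod n 3, pow_add, pow_mul, mul_mem_cancel_left (pow_mem h3 _)] at h2
  rcases (by omega : n % 3 = 1 ∨ n % 3 = 2) with e | e <;> rw [e] at h2
  · rwa [pow_one] at h2
  · rwa [pow_succ, mul_mem_cancel_left h2] at h3

end N23

end Cfsg.Agent.Mat
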