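import Cfsg.Agent.Mat.M23B

/-! Four-groups normalized by a Sylow 3-subgroup. -/

set_option autoImplicit false
set_option linter.unusedSectionVars false

namespace Cfsg.Agent.Mat

open Subgroup MulAction Cfsg.Agent.M11 Cfsg.Agent.Local
open scoped Pointwise

variable {G : Type*} [Group G] [Finite G]

/-- A four-group centralized by an element of order 3. -/
structure Four (x : G) (V : Subgroup G) : Prop where
  ox : orderOf x = 3
  card : Nat.card V = 4
  cen : ∀ v ∈ V, Commute v x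

/-- A four-group normalized by a Sylow 3-subgroup. -/
structure Vx (S : Sylow 3 G) (x : G) (V : Subgroup G) : Prop extends Four x V where
  hx : x ∈ S
  inv : ↑S ≤ normalizer (V : Set G)

theorem Four.two {x : G} {V : Subgroup G} (f : Four x V) : IsPGroup 2 V := IsPGroup.of_card (n := 2) f.card

theorem Four.conj {x : G} {V : Subgroup G} (f : Four x V) (g : G) : Four (g * x * g⁻¹) (MulAut.conj g • V) :=
  ⟨(orderOf_conj' g x).trans f.ox, (card_conj_smul g V).trans f.card, by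
    rintro _ ⟨v, hv, rfl⟩; exact commute_conj g (f.cen v hv)⟩

theorem Four.norm {x : G} {V : Subgroup G} (f : Four x V) : zpowers x ≤ normalizer (V : Set G) :=
  zpowers_le.mpr (centralizer_le_normalizer _ f.cen)

theorem Four.exists_ne {x : G} {V : Subgroup G} (f : Four x V) (z : G) : ∃ v ∈ V, v ≠ 1 ∧ v ≠ z :=
  exists_third (by rw [f.card]; decide) z

theorem Vx.h1 {S : Sylow 3 G} {x : G} {V : Subgroup G} (a : Vx S x V) : x ≠ 1 := fun e => by simpa [e] using a.ox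

theorem Vx.neg {S : Sylow 3 G} {x : G} {V : Subgroup G} (a : Vx S x V) : Vx S x⁻¹ V :=
  ⟨⟨(orderOf_inv x).trans a.ox, a.card, fun v hv => (a.cen v hv).inv_right⟩, inv_mem a.hx, a.inv⟩

theorem Vx.conj {S : Sylow 3 G} {x g : G} {V : Subgroup G} (a : Vx S x V) (hg : g • S = S) :
    Vx S (g * x * g⁻¹) (MulAut.conj g • V) :=
  ⟨a.toFour.conj g, conj_mem_syl hg a.hx, fun p hp => by
    rw [normalizer_conj_smul, mem_conj_smul_iff]
    exact a.inv (mem_smul_syl.mp (hg.symm ▸ hp))⟩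

theorem comm_of_inv {g t x : G} (h1 : g * x * g⁻¹ = x⁻¹) (h2 : t * x * t⁻¹ = x⁻¹) : Commute (g * t) x :=
  mul_inv_eq_iff_eq_mul.mp (by
    calc _ = g * (t * x * t⁻¹) * g⁻¹ := by group
      _ = _ := by rw [h2, ← conj_inv, h1, inv_inv])

theorem inv_inv_conj {t x : G} (h : t * x * t⁻¹ = x⁻¹) : t⁻¹ * x * t⁻¹⁻¹ = x⁻¹ := by
  calc _ = t⁻¹ * (t * x * t⁻¹)⁻¹ * t := by rw [h]; group
    _ = _ := by group

theorem card_normalizer_three {x : G} (hx : orderOf x = 3) :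
    Nat.card (normalizer (zpowers x : Set G)) ∣ cc x * 2 := by
  have h1 := card_inf_centralizer_mul (normalizer (zpowers x : Set G)) x
  have h2 := Set.ncard_le_ncard (s := {w | ∃ r ∈ normalizer (zpowers x : Set G), r * x * r⁻¹ = w}) (t := {x, x⁻¹}) (by
    rintro _ ⟨r, hr, rfl⟩
    exact (mem_zpowers_three (hx ▸ pow_orderOf_eq_one x) (conj_mem_of_mem_normalizer hr (mem_zpowers x))).resolve_left
      fun e => by simp [conj_eq_one_iff.mp e] at hx)
  rw [Set.ncard_pair (ne_inv_of_three hx)] at h2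
  have h3 := Nat.card_pos (α := normalizer (zpowers x : Set G))
  rw [← h1] at h3 ⊢
  refine Nat.mul_dvd_mul (card_dvd_of_le inf_le_right) ?_
  generalize Set.ncard _ = k at h2 h3
  interval_cases k <;> simp at h3 ⊢

theorem mem_normalizer_three {x g : G} (h : g * x * g⁻¹ = x ∨ g * x * g⁻¹ = x⁻¹) :
    g ∈ normalizer (zpowers x : Set G) := mem_normalizer_of_conj_mem (by
  rintro _ ⟨k, rfl⟩
  rw [← conj_zpow]
  rcases h with e | e <;> rw [e]
  exacts [zpow_mem (mem_zpowers x) k, zpow_mem (inv_mem (mem_zpowers x)) k])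

namespace N23

variable (h : N23 G) {S : Sylow 3 G} {x u v z g : G} {V V' : Subgroup G}
include h

theorem sq (f : Four x V) (hv : v ∈ V) : v * v = 1 := h.sq_of_comm f.ox (f.cen v hv) f.two hv

theorem comm (f : Four x V) (hv : v ∈ V) (hz : z ∈ V) : Commute v z :=
  comm_of_sq ((pow_two _).trans (h.sq f hv)) ((pow_two _).trans (h.sq f hz)) ((pow_two _).trans (h.sq f (mul_mem hv hz)))

theorem ord (f : Four x V) (hz : z ∈ V) (h1 : z ≠ 1) : orderOf z = 2 :=
  orderOf_eq_prime ((pow_two _).trans (h.sq f hz)) h1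

theorem syl (f : Four x V) : IsSylowIn 2 V (centralizer {x}) := by
  have h1 : V ≤ centralizer {x} := fun v hv => mem_centralizer_singleton_iff.mpr (f.cen v hv)
  have h2 := card_mul_relIndex h1
  rw [f.card, ← cc, h.cc3 f.ox] at h2
  exact ⟨h1, f.two, by omega⟩

theorem card_Vx (f : Four x V) : Nat.card ↥(V ⊔ zpowers x) = 12 := by
  rw [card_sup_of_disjoint f.norm (disjoint_of_coprime_natCard (by rw [f.card, Nat.card_zpowers, f.ox]; decide)),
    f.card, Nat.card_zpowers, f.ox]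

theorem CC (f : Four x V) (hz : z ∈ V) (h1 : z ≠ 1) : V ⊔ zpowers x = centralizer {x} ⊓ centralizer {z} := by
  refine eq_of_le_of_card_ge (sup_le (fun v hv => mem_inf.mpr ⟨mem_centralizer_singleton_iff.mpr (f.cen v hv),
    mem_centralizer_singleton_iff.mpr (h.comm f hv hz)⟩) (zpowers_le.mpr (mem_inf.mpr
      ⟨mem_centralizer_singleton_iff.mpr rfl, mem_centralizer_singleton_iff.mpr (f.cen z hz).symm⟩))) ?_
  rw [h.card_Vx f]
  exact Nat.le_of_dvd (by decide) (Nat.dvd_gcd ((card_dvd_of_le inf_le_left).trans (h.cc3 f.ox).dvd)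
    ((card_dvd_of_le inf_le_right).trans (h.cc2 (h.ord f hz h1)).dvd))

theorem mem_V (f : Four x V) (hz : z ∈ V) (h1 : z ≠ 1) (c1 : Commute g x) (c2 : Commute g z) (hg : g * g = 1) :
    g ∈ V := by
  obtain ⟨v, hv, a, ha, rfl⟩ := (mem_sup_of_right_le_normalizer f.norm).mp ((h.CC f hz h1).ge (mem_inf.mpr
    ⟨mem_centralizer_singleton_iff.mpr c1, mem_centralizer_singleton_iff.mpr c2⟩))
  obtain ⟨k, rfl⟩ := mem_zpowers_iff.mp ha
  rw [((f.cen v hv).zpow_right k).symm.mul_mul_mul_comm, h.sq f hv, one_mul] at hg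
  rwa [eq_one_of_two_three hg (by rw [← zpow_natCast, ← zpow_mul, mul_comm, zpow_mul, zpow_natCast, ← f.ox,
    pow_orderOf_eq_one, one_zpow]), mul_one]

theorem ti (f : Four x V) (f' : Four x V') (hz : z ∈ V) (hz' : z ∈ V') (h1 : z ≠ 1) : V' = V :=
  eq_of_le_of_card_ge (fun v hv => h.mem_V f hz h1 (f'.cen v hv) (h.comm f' hv hz') (h.sq f' hv))
    (f.card.trans f'.card.symm).le

theorem exists_vx : ∃ (S : Sylow 3 G) (x : G) (V : Subgroup G), Vx S x V := by
  obtain ⟨x, hx⟩ := exists_ord (h.m3.trans_ne (by decide))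
  obtain ⟨V, hV⟩ := exists_isSylowIn 2 (centralizer ({x} : Set G))
  have f : Four x V := ⟨hx, by rw [hV.card_eq, ← cc, h.cc3 hx]; decide +kernel,
    fun v hv => mem_centralizer_singleton_iff.mp (hV.le hv)⟩
  obtain ⟨z, hz, h1, -⟩ := f.exists_ne 1
  have h2 := card_inf_centralizer_mul (centralizer {x}) z
  rw [← h.CC f hz h1, h.card_Vx f, ← cc, h.cc3 hx] at h2
  have h3 := Set.eq_of_subset_of_ncard_le (s := {w | ∃ r ∈ centralizer {x}, r * z * r⁻¹ = w})
    (t := {u | orderOf u = 2 ∧ Commute u x}) (by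
      rintro _ ⟨r, hr, rfl⟩
      have hr' : Commute r x := mem_centralizer_singleton_iff.mp hr
      exact ⟨(orderOf_conj' r z).trans (h.ord f hz h1), (hr'.mul_left (f.cen z hz)).mul_left hr'.inv_left⟩)
    (by rw [h.iv3 hx]; omega)
  have h4 := card_inf_centralizer_mul (centralizer {x} ⊓ normalizer (V : Set G)) z
  rw [inf_right_comm, ← h.CC f hz h1, inf_eq_left.mpr (sup_le le_normalizer f.norm), h.card_Vx f,
    show {w | ∃ r ∈ centralizer {x} ⊓ normalizer (V : Set G), r * z * r⁻¹ = w} = (V : Set G) \ {1} from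
      Set.ext fun w => ⟨by
        rintro ⟨r, hr, rfl⟩
        exact ⟨conj_mem_of_mem_normalizer (mem_inf.mp hr).2 hz, fun e => h1 (conj_eq_one_iff.mp e)⟩, fun hw => by
        obtain ⟨r, hr, rfl⟩ := h3.ge ⟨h.ord f hw.1 hw.2, f.cen w hw.1⟩
        have f' := f.conj r
        rw [mem_centralizer_singleton_iff.mp hr, mul_inv_cancel_right] at f'
        exact ⟨r, mem_inf.mpr ⟨hr, mem_normalizer_iff_conj_smul_eq.mpr
          (h.ti f f' hw.1 (conj_mem_conj_smul r hz) hw.2)⟩, rfl⟩⟩,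
    Set.ncard_sdiff_singleton_of_mem (one_mem _), ncard_coe, f.card] at h4
  obtain ⟨P, h5, h6, h7⟩ := Pres.exists_le_card_pow_succ (p := 3) (k := 1) (P := zpowers x)
    (H := centralizer {x} ⊓ normalizer (V : Set G)) (le_inf (zpowers_le.mpr (mem_centralizer_singleton_iff.mpr rfl))
      f.norm) (by rw [Nat.card_zpowers, hx]; rfl) (by rw [← h4]; decide)
  obtain ⟨S, hS⟩ := (IsPGroup.of_card h7).exists_le_sylow
  have h8 := eq_of_le_of_card_ge hS (by rw [h7, h.card_syl]; rfl)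
  exact ⟨S, x, V, f, hS (h5 (mem_zpowers x)), h8 ▸ h6.trans inf_le_right⟩

theorem trans {x' : G} (a : Vx S x V) (a' : Vx S x' V') :
    ∃ g, g • S = S ∧ g * x * g⁻¹ = x' ∧ MulAut.conj g • V = V' := by
  obtain ⟨c, rfl⟩ := isConj_iff.mp (h.conj3 a.ox a'.ox)
  obtain ⟨n, hn, e⟩ := (h.syl (a.toFour.conj c)).exists_conj (h.syl a'.toFour)
  have hn' : Commute n (c * x * c⁻¹) := mem_centralizer_singleton_iff.mp hn
  rw [conj_smul_conj_smul] at e
  have h1 : n * c * x * (n * c)⁻¹ = c * x * c⁻¹ := by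
    rw [← mul_inv_cancel_right (c * x * c⁻¹) n, ← hn'.eq]; group
  obtain ⟨k, hk, e'⟩ := exists_smul_of_le (H := centralizer {c * x * c⁻¹} ⊓ normalizer (V' : Set G)) (P := (n * c) • S)
    (Q := S) (fun p hp => mem_inf.mpr ⟨mem_centralizer_singleton_iff.mpr (by
      rw [← h1]; exact h.comm_syl hp (conj_mem_smul _ a.hx)), by
        rw [← e, normalizer_conj_smul, mem_conj_smul_iff]; exact a.inv (mem_smul_syl.mp hp)⟩)
    (le_inf (fun p hp => mem_centralizer_singleton_iff.mpr (h.comm_syl hp a'.hx)) a'.inv)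
  refine ⟨k * (n * c), by rw [mul_smul, e'], ?_, by
    rw [← conj_smul_conj_smul, e, mem_normalizer_iff_conj_smul_eq.mp (mem_inf.mp hk).2]⟩
  rw [← mul_inv_cancel_right (c * x * c⁻¹) k, ← mem_centralizer_singleton_iff.mp (mem_inf.mp hk).1, ← h1]
  group

theorem disj (f : Four x V) (S : Sylow 3 G) : Disjoint V S :=
  disjoint_of_coprime_natCard (by rw [f.card, h.card_syl]; decide)

theorem dec (a : Vx S x V) (c1 : Commute g x) (c2 : g ∈ normalizer (V : Set G)) : ∃ v ∈ V, ∃ p ∈ S, v * p = g := by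
  refine (mem_sup_of_right_le_normalizer a.inv).mp ((eq_of_le_of_card_ge (K := centralizer {x} ⊓ normalizer (V : Set G))
    (sup_le (le_inf (h.syl a.toFour).le le_normalizer)
      (le_inf (fun p hp => mem_centralizer_singleton_iff.mpr (h.comm_syl hp a.hx)) a.inv)) ?_).ge
    (mem_inf.mpr ⟨mem_centralizer_singleton_iff.mpr c1, c2⟩))
  rw [card_sup_of_disjoint a.inv (h.disj a.toFour S), a.card, h.card_syl]
  refine Nat.le_of_dvd (by decide) (dvd_of_not 1 Nat.prime_five (fun e => ?_)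
    ((card_dvd_of_le inf_le_left).trans (h.cc3 a.ox).dvd))
  obtain ⟨y, hy, h5⟩ := exists_mem_of_prime_dvd Nat.prime_five e
  obtain ⟨w, hw, hc⟩ := exists_commute_of_not_dvd Nat.prime_five (y := y) (X := (V : Set G) \ {1})
    (h5 ▸ pow_orderOf_eq_one y) (fun v hv => ⟨conj_mem_of_mem_normalizer (mem_inf.mp hy).2 hv.1,
      fun e => hv.2 (conj_eq_one_iff.mp e)⟩)
    (by rw [Set.ncard_sdiff_singleton_of_mem (one_mem _), ncard_coe, a.card]; decide)
  exact absurd ((h.ord a.toFour hw.1 hw.2 ▸ orderOf_dvd_cc hc.symm).trans (h.cc5 h5)) (by decide)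

theorem memS (a : Vx S x V) (hg : g • S = S) (c1 : Commute g x) (c2 : g ∈ normalizer (V : Set G)) : g ∈ S := by
  obtain ⟨v, hv, p, hp, rfl⟩ := h.dec a c1 c2
  rw [mul_smul, smul_eq_of_mem hp] at hg
  refine mul_mem (h.mem_of_cent fun q hq => commutatorElement_eq_one_iff_commute.mp (disjoint_def.mp
    (h.disj a.toFour S) (mul_mem (conj_mem_of_mem_normalizer (a.inv hq) hv) (inv_mem hv)) ?_)) hp
  rw [commutatorElement_def, mul_assoc, mul_assoc, ← mul_assoc v]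
  exact mul_mem hq (conj_mem_syl hg (inv_mem hq))

theorem five {t : G} (a : Vx S x V) (h1 : t * x * t⁻¹ = x⁻¹) (h2 : ∀ v ∈ V, Commute t v) : False := by
  obtain ⟨t, h1, h2, h3⟩ : ∃ t, t * x * t⁻¹ = x⁻¹ ∧ (∀ v ∈ V, Commute t v) ∧ t • S = S := by
    obtain ⟨g, g1, g2, g3⟩ := h.trans a a.neg
    obtain ⟨v, hv, p, hp, e⟩ := h.dec a (comm_of_inv g2 (inv_inv_conj h1))
      (mul_mem (mem_normalizer_iff_conj_smul_eq.mpr g3) (inv_mem (centralizer_le_normalizer _
        fun v hv => (h2 v hv).symm)))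
    refine ⟨p⁻¹ * g, ?_, fun w hw => ?_, by rw [mul_smul, g1, smul_eq_of_mem (inv_mem hp)]⟩
    · calc _ = p⁻¹ * (g * x * g⁻¹) * p⁻¹⁻¹ := by group
        _ = _ := by rw [g2, (h.comm_syl (inv_mem hp) (inv_mem a.hx)).eq, mul_inv_cancel_right]
    · rw [show p⁻¹ * g = p⁻¹ * v * p * t by rw [eq_mul_of_mul_inv_eq e.symm]; group]
      exact (h.comm a.toFour (inv_conj_mem_of_mem_normalizer (a.inv hp) hv) hw).mul_left (h2 w hw)
  have h4 := comm_of_inv h1 h1
  have h5 := h.cube (h.memS a (g := t * t) (by rw [mul_smul, h3, h3]) h4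
    (centralizer_le_normalizer _ fun v hv => ((h2 v hv).mul_left (h2 v hv)).symm))
  have h6 : t ^ 3 * x * (t ^ 3)⁻¹ = x⁻¹ := by
    calc _ = t * (t * t * x * (t * t)⁻¹) * t⁻¹ := by rw [← pow_two]; group
      _ = _ := by rw [h4.eq, mul_inv_cancel_right, h1]
  have h7 : t ^ 3 * t ^ 3 = 1 := by rwa [← (Commute.refl t).mul_pow]
  have h8 : ∀ v ∈ V, Commute (t ^ 3) v := fun v hv => (h2 v hv).pow_left 3
  generalize t ^ 3 = s at h6 h7 h8
  have h9 : s ∉ V := fun e => ne_inv_of_three a.ox (by rw [← h6, (a.cen s e).eq, mul_inv_cancel_right])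
  have h10 : zpowers s ≤ normalizer (V : Set G) := zpowers_le.mpr (centralizer_le_normalizer _ fun v hv => (h8 v hv).symm)
  have h11 := card_sup_of_disjoint h10 (disjoint_def.mpr fun {b} h1 h2 =>
    (mem_zpowers_two h7 h2).resolve_right fun e => h9 (e ▸ h1))
  rw [a.card, Nat.card_zpowers, orderOf_eq_prime ((pow_two s).trans h7) fun e => h9 (e ▸ one_mem _)] at h11
  have h12 : V ⊔ zpowers s ≤ normalizer (zpowers x : Set G) := sup_le (fun v hv => mem_normalizer_three (.inl (by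
    rw [(a.cen v hv).eq, mul_inv_cancel_right]))) (zpowers_le.mpr (mem_normalizer_three (.inr h6)))
  have h13 := card_normalizer_three a.ox
  rw [← card_mul_relIndex h12, h11, h.cc3 a.ox] at h13
  obtain ⟨g, g1, g2⟩ := h.exists_inv3 a.ox
  have h14 := h.pow30 a.ox (comm_of_inv g1 g1)
  obtain ⟨n, -, h15⟩ := IsSylowIn.exists_le_conj (p := 2) ⟨h12, IsPGroup.of_card (n := 3) h11,
    fun e => absurd ((Nat.mul_dvd_mul_left (4 * 2) e).trans h13) (by decide)⟩
    (Q := zpowers (g ^ 15)) (by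
      obtain ⟨k, -, e⟩ := (Nat.dvd_prime_pow Nat.prime_two (m := 2)).mp (orderOf_dvd_of_pow_eq_one (x := g ^ 15) (by
        rw [← h14, ← pow_two, ← pow_mul, ← pow_mul]; rfl))
      exact IsPGroup.of_card ((Nat.card_zpowers _).trans e))
    (zpowers_le.mpr (pow_mem (mem_normalizer_three (.inr g1)) 15))
  obtain ⟨v, hv, b, hb, e⟩ := (mem_sup_of_right_le_normalizer h10).mp (mem_conj_smul_iff.mp (h15 (mem_zpowers _)))
  have h16 : v * b * (v * b) = 1 := by
    rcases mem_zpowers_two h7 hb with rfl | rfl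
    · simpa using h.sq a.toFour hv
    · rw [(h8 v hv).mul_mul_mul_comm, h.sq a.toFour hv, h7, mul_one]
  rw [e] at h16
  refine g2 (conj_eq_one_iff.mp (Eq.trans ?_ h16 : n⁻¹ * g ^ 30 * n⁻¹⁻¹ = 1))
  rw [show 30 = 15 + 15 from rfl, pow_add]
  group

theorem rot {a : G} (k : Vx S x V) (b : Bas S x u) (ha : a ∈ V) (h3 : a ≠ 1) :
    u * a * u⁻¹ ∈ V ∧ u * (u * a * u⁻¹) * u⁻¹ = a * (u * a * u⁻¹) ∧
      ∀ v ∈ V, v = 1 ∨ v = a ∨ v = u * a * u⁻¹ ∨ v = a * (u * a * u⁻¹) := by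
  have h4 := conj_mem_of_mem_normalizer (k.inv b.hu) ha
  have h5 : ¬ Commute a u := fun e => h3 (h.eq_one_of_comm b (h.sq k.toFour ha) (k.cen a ha) e)
  have h6 : ∀ v ∈ V, _ := fun v hv => mem_four k.card ha h4 h3 (fun e => h3 (conj_eq_one_iff.mp e))
    (fun e => h5 (mul_inv_eq_iff_eq_mul.mp e).symm) (h.sq k.toFour ha) hv
  refine ⟨h4, ?_, h6⟩
  rcases h6 _ (conj_mem_of_mem_normalizer (k.inv b.hu) h4) with e | e | e | e
  · exact absurd (conj_eq_one_iff.mp (conj_eq_one_iff.mp e)) h3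
  · have h7 : Commute a (u ^ 2) := (mul_inv_eq_iff_eq_mul.mp
      ((show u ^ 2 * a * (u ^ 2)⁻¹ = u * (u * a * u⁻¹) * u⁻¹ by rw [pow_two]; group).trans e)).symm
    have h8 := h7.pow_right 2
    rw [← pow_mul, pow_succ, h.cube b.hu, one_mul] at h8
    exact absurd h8 h5
  · exact absurd (mul_inv_eq_iff_eq_mul.mp (mul_left_cancel (mul_right_cancel e))).symm h5
  · exact e

theorem rot' {a : G} (k : Vx S x V) (b : Bas S x u) (ha : a ∈ V) (h3 : a ≠ 1) (hv : v ∈ V) (h1 : v ≠ 1) :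
    ∃ j : ℕ, u ^ j * a * (u ^ j)⁻¹ = v := by
  obtain ⟨-, h4, h5⟩ := h.rot k b ha h3
  rcases h5 v hv with rfl | rfl | rfl | rfl
  exacts [absurd rfl h1, ⟨0, by simp⟩, ⟨1, by simp⟩, ⟨2, by rw [← h4, pow_two]; group⟩]

theorem V_le {a : G} (k : Vx S x V) {B : Subgroup G} (hB : ↑S ≤ normalizer (B : Set G)) (ha : a ∈ V)
    (h3 : a ≠ 1) (h4 : a ∈ B) : V ≤ B := fun v hv => by
  obtain ⟨u, b⟩ := h.exists_bas k.hx k.h1
  by_cases h1 : v = 1
  · exact h1 ▸ one_mem _
  obtain ⟨j, rfl⟩ := h.rot' k b ha h3 hv h1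
  exact conj_mem_of_mem_normalizer (hB (pow_mem b.hu j)) h4

theorem neg_all (k : Vx S x V) (hg : g • S = S) (h1 : g ∈ normalizer (V : Set G)) (h2 : g * x * g⁻¹ = x⁻¹) :
    ∀ p ∈ S, g * p * g⁻¹ = p⁻¹ := fun p hp => by
  have h4 : g * g ∈ S := h.memS k (by rw [mul_smul, hg, hg]) (comm_of_inv h2 h2) (mul_mem h1 h1)
  have h5 : Commute g (g * p * g⁻¹ * p) := mul_inv_eq_iff_eq_mul.mp (by
    calc _ = (g * g) * p * (g * g)⁻¹ * (g * p * g⁻¹) := by group
      _ = _ := by rw [(h.comm_syl h4 hp).eq, mul_inv_cancel_right, (h.comm_syl hp (conj_mem_syl hg hp)).eq])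
  have h6 := mul_mem (conj_mem_syl hg hp) hp
  refine eq_inv_of_mul_eq_one_left (by_contra fun h7 => ?_)
  generalize g * p * g⁻¹ * p = q at h5 h6 h7
  have b : Bas S x q := ⟨k.hx, k.h1, h6, fun e => by
    rcases mem_zpowers_three (h.cube k.hx) e with rfl | rfl | rfl
    · exact h7 rfl
    · exact ne_inv_of_three k.ox (by rw [← h2, h5.eq, mul_inv_cancel_right])
    · exact ne_inv_of_three k.ox (by rw [← h2, (Commute.inv_right_iff.mp h5).eq, mul_inv_cancel_right]),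
    fun _ => h.cube, h.card_syl S⟩
  obtain ⟨a, ha, h8, -⟩ := k.exists_ne 1
  obtain ⟨j, e⟩ := h.rot' k b ha h8 (conj_mem_of_mem_normalizer h1 ha) fun e => h8 (conj_eq_one_iff.mp e)
  have h9 : Commute ((q ^ j)⁻¹ * g) a := mul_inv_eq_iff_eq_mul.mp (by
    calc _ = (q ^ j)⁻¹ * (g * a * g⁻¹) * q ^ j := by group
      _ = _ := by rw [← e]; group)
  have h10 : Commute ((q ^ j)⁻¹ * g) q := ((Commute.refl q).pow_left j).inv_left.mul_left h5
  refine h.five k (t := (q ^ j)⁻¹ * g) ?_ fun v hv => ?_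
  · calc _ = (q ^ j)⁻¹ * (g * x * g⁻¹) * (q ^ j)⁻¹⁻¹ := by group
      _ = _ := by rw [h2, (h.comm_syl (inv_mem (pow_mem h6 j)) (inv_mem k.hx)).eq, mul_inv_cancel_right]
  · by_cases h11 : v = 1
    · exact h11 ▸ Commute.one_right _
    obtain ⟨i, rfl⟩ := h.rot' k b ha h8 hv h11
    exact ((h10.pow_right i).mul_right h9).mul_right (h10.pow_right i).inv_right

theorem mem_of_neg {t : G} (h1 : ∀ p ∈ S, g * p * g⁻¹ = p⁻¹) (h2 : ∀ p ∈ S, t * p * t⁻¹ = p⁻¹) : g * t ∈ S :=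
  h.mem_of_cent fun p hp => (comm_of_inv (h1 p hp) (h2 p hp)).symm

theorem sq_neg (h1 : ∀ p ∈ S, g * p * g⁻¹ = p⁻¹) : g * g = 1 := by
  have h2 := h.mem_of_neg h1 h1
  have h3 := h1 _ h2
  rw [show g * (g * g) * g⁻¹ = g * g by group] at h3
  exact eq_one_of_two_three (mul_eq_one_iff_eq_inv.mpr h3) (h.cube h2)

theorem norm_of_neg (k : Vx S x V) (h1 : ∀ p ∈ S, g * p * g⁻¹ = p⁻¹) : g ∈ normalizer (V : Set G) := by
  obtain ⟨t, t1, t2, t3⟩ := h.trans k k.neg
  have h2 := mem_normalizer_iff_conj_smul_eq.mpr t3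
  exact (mul_mem_cancel_right h2).mp (k.inv (h.mem_of_neg h1 (h.neg_all k t1 h2 t2)))

theorem fix {x' : G} (k : Vx S x V) (k' : Vx S x' V') (hg : g • S = S) (h1 : MulAut.conj g • V = V)
    (h2 : g * x * g⁻¹ = x ∨ g * x * g⁻¹ = x⁻¹) : MulAut.conj g • V' = V' := by
  rw [← mem_normalizer_iff_conj_smul_eq] at h1 ⊢
  rcases h2 with e | e
  exacts [k'.inv (h.memS k hg (mul_inv_eq_iff_eq_mul.mp e) h1), h.norm_of_neg k' (h.neg_all k hg h1 e)]

theorem exists_t (k : Vx S x V) (hz : z ∈ V) (h2 : z ≠ 1) :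
    ∃ t, (∀ p ∈ S, t * p * t⁻¹ = p⁻¹) ∧ Commute t z := by
  obtain ⟨t, t1, t2, t3⟩ := h.trans k k.neg
  have h3 := mem_normalizer_iff_conj_smul_eq.mpr t3
  have h4 := h.neg_all k t1 h3 t2
  obtain ⟨a, ha, hc⟩ := exists_commute_of_not_dvd Nat.prime_two (y := t) (X := (V : Set G) \ {1})
    ((pow_two t).trans (h.sq_neg h4)) (fun v hv => ⟨conj_mem_of_mem_normalizer h3 hv.1,
      fun e => hv.2 (conj_eq_one_iff.mp e)⟩)
    (by rw [Set.ncard_sdiff_singleton_of_mem (one_mem _), ncard_coe, k.card]; decide)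
  obtain ⟨u, b⟩ := h.exists_bas k.hx k.h1
  obtain ⟨j, rfl⟩ := h.rot' k b ha.1 ha.2 hz h2
  refine ⟨_, fun p hp => ?_, commute_conj (u ^ j) hc⟩
  have h5 := pow_mem b.hu j
  generalize u ^ j = q at h5
  calc _ = q * (t * (q⁻¹ * p * q) * t⁻¹) * q⁻¹ := by group
    _ = _ := by rw [mul_assoc q⁻¹, (h.comm_syl hp h5).eq, inv_mul_cancel_left, h4 p hp,
      (h.comm_syl h5 (inv_mem hp)).eq, mul_inv_cancel_right]

end N23

end Cfsg.Agent.Mat
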