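import Cfsg.Agent.Mat.M23C

/-! The centralizer of the four-group. -/

set_option autoImplicit false
set_option linter.unusedSectionVars false

namespace Cfsg.Agent.Mat

open Subgroup MulAction Cfsg.Agent.M11 Cfsg.Agent.Local
open scoped Pointwise

variable {G : Type*} [Group G] [Finite G]

/-- The normal Sylow 2-subgroup of the centralizer. -/
structure IsW (V W : Subgroup G) : Prop where
  cen : W ≤ centralizer (V : Set G)
  two : IsPGroup 2 W
  norm : normalizer (V : Set G) ≤ normalizer (W : Set G)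
  max : ∀ B : Subgroup G, IsPGroup 2 B → B ≤ centralizer (V : Set G) → B ≤ W
  card : Nat.card W * 3 = Nat.card (centralizer (V : Set G))

theorem card_le_two_mul_inf {A B T : Subgroup G} (hA : A ≤ T) (hB : B ≤ T) (h : Nat.card T ≤ 2 * Nat.card A) :
    Nat.card B ≤ 2 * Nat.card ↥(A ⊓ B) := by
  have h1 := card_mul_relIndex hA
  have h2 := card_inf_mul_relIndex A B
  have h3 := Nat.card_pos (α := A)
  have h4 := relIndex_le_of_le_right (H := A) hB (by
    rintro e; rw [e] at h1; exact Nat.card_pos.ne h1)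
  have h5 : A.relIndex T ≤ 2 := by by_contra; nlinarith
  nlinarith

theorem card_le_two_mul_three {x : G} (hx : orderOf x = 3) {R : Subgroup G} (hR : R ≤ normalizer (zpowers x : Set G)) :
    Nat.card R ≤ Nat.card ↥(R ⊓ centralizer {x}) * 2 := by
  have h2 := Set.ncard_le_ncard (s := {w | ∃ r ∈ R, r * x * r⁻¹ = w}) (t := {x, x⁻¹}) (by
    rintro _ ⟨r, hr, rfl⟩
    exact (mem_zpowers_three (hx ▸ pow_orderOf_eq_one x) (conj_mem_of_mem_normalizer (hR hr)
      (mem_zpowers x))).resolve_left fun e => by simp [conj_eq_one_iff.mp e] at hx)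
  rw [Set.ncard_pair (ne_inv_of_three hx)] at h2
  rw [← card_inf_centralizer_mul R x]
  exact Nat.mul_le_mul_left _ h2

theorem conj_eq_or_three {x g : G} (hx : orderOf x = 3) (hg : g ∈ normalizer (zpowers x : Set G)) :
    g * x * g⁻¹ = x ∨ g * x * g⁻¹ = x⁻¹ :=
  (mem_zpowers_three (hx ▸ pow_orderOf_eq_one x) (conj_mem_of_mem_normalizer hg (mem_zpowers x))).resolve_left
    fun e => by simp [conj_eq_one_iff.mp e] at hx

theorem two_zpowers {B : Subgroup G} (hB : IsPGroup 2 B) {g : G} (hg : g ∈ B) : IsPGroup 2 (zpowers g) :=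
  hB.to_le (zpowers_le.mpr hg)

theorem two_of_dvd {B : Subgroup G} {k : ℕ} (hB : Nat.card B ∣ 2 ^ k) : IsPGroup 2 B := by
  obtain ⟨n, -, e⟩ := (Nat.dvd_prime_pow Nat.prime_two).mp hB
  exact IsPGroup.of_card e

theorem FF_eq (W : Subgroup G) (r : G) : FF W r = Nat.card ↥(W ⊓ centralizer {r}) :=
  congrArg Set.ncard (Set.ext fun _ => and_congr_right' mem_centralizer_singleton_iff.symm)

namespace N23

variable (h : N23 G) {S : Sylow 3 G} {x u v z g : G} {V V' W : Subgroup G}
include h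

theorem dvd128 {B : Subgroup G} (hB : IsPGroup 2 B) : Nat.card B ∣ 128 := by
  obtain ⟨n, hn'⟩ := IsPGroup.iff_card.mp hB
  exact Nat.Coprime.dvd_of_dvd_mul_right (n := 79695)
    (hn' ▸ Nat.Coprime.pow_left _ (by decide)) ((card_subgroup_dvd_card B).trans h.card.dvd)

theorem card_inv (f : Four x V) {B : Subgroup G} (hB : IsPGroup 2 B) (hn : x ∈ normalizer (B : Set G))
    (hV : V ≤ B) : Nat.card B = 4 ∨ Nat.card B = 16 ∨ Nat.card B = 64 := by
  have h2 : _ = FF B x % 3 := ncard_modEq_commute Nat.prime_three f.ox (X := B) fun u hu r hr =>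
    conj_mem_of_mem_normalizer (zpowers_le.mpr hn hr) hu
  rw [FF_eq, (h.syl f).eq_of_le hB.to_inf_left (le_inf hV (h.syl f).le) inf_le_right, ncard_coe, f.card] at h2
  have h3 := card_le_of_le hV
  rw [f.card] at h3
  exact (by decide +kernel : ∀ d ∈ Nat.divisors 128, d % 3 = 4 % 3 → 4 ≤ d → d = 4 ∨ d = 16 ∨ d = 64) _
    (Nat.mem_divisors.mpr ⟨h.dvd128 hB, by decide⟩) h2 h3

theorem le_cent (f : Four x V) : V ≤ centralizer (V : Set G) := fun _ hv _ hw => h.comm f hw hv

theorem cent_eq (f : Four x V) (hz : z ∈ V) (h1 : z ≠ 1) (hv : v ∈ V) (h2 : v ≠ 1) (h3 : v ≠ z) :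
    centralizer {z} ⊓ centralizer {v} = centralizer (V : Set G) := by
  refine le_antisymm (fun g hg w hw => ?_) (le_inf (centralizer_le (Set.singleton_subset_iff.mpr hz))
    (centralizer_le (Set.singleton_subset_iff.mpr hv)))
  have c1 : Commute g z := mem_centralizer_singleton_iff.mp (mem_inf.mp hg).1
  have c2 : Commute g v := mem_centralizer_singleton_iff.mp (mem_inf.mp hg).2
  rcases mem_four f.card hz hv h1 h2 h3 (h.sq f hz) hw with rfl | rfl | rfl | rfl
  exacts [by simp, c1.symm, c2.symm, (c1.mul_right c2).symm]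

theorem syl3 (f : Four x V) (hz : z ∈ V) (h1 : z ≠ 1) {D : Subgroup G} (hx : x ∈ D) (hD : D ≤ centralizer {z}) :
    IsSylowIn 3 (zpowers x) D := by
  have h2 := card_dvd_of_le hD
  rw [← cc, h.cc2 (h.ord f hz h1), ← card_mul_relIndex (zpowers_le.mpr hx), Nat.card_zpowers, f.ox] at h2
  exact ⟨zpowers_le.mpr hx, IsPGroup.of_card (n := 1) ((Nat.card_zpowers x).trans f.ox),
    fun e => absurd ((Nat.mul_dvd_mul_left 3 e).trans h2) (by decide)⟩

theorem exists_W (k : Vx S x V) : ∃ W, IsW V W := by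
  obtain ⟨z, hz, h1, -⟩ := k.exists_ne 1
  obtain ⟨v, hv, h2, h3⟩ := k.exists_ne z
  have h4 := centralizer_le (G := G) (Set.singleton_subset_iff.mpr hz)
  obtain ⟨W, w1, w2, w3⟩ := exists_compl (h.syl3 k.toFour hz h1 (D := centralizer (V : Set G)) k.cen h4)
    fun g hg hn => by
      rintro _ ⟨i, rfl⟩
      exact ((show Commute g x from mul_inv_eq_iff_eq_mul.mp ((conj_eq_or_three k.ox hn).resolve_right
        fun e => h.five k e fun v hv => (hg v hv).symm)).zpow_right i).symm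
  rw [Nat.card_zpowers, k.ox] at w3
  have h5 : Nat.card W * 3 ∣ 2 ^ 7 * 3 := w3 ▸ dvd_of_not 1 Nat.prime_seven (fun e => by
    obtain ⟨y, hy, h7⟩ := exists_mem_of_prime_dvd Nat.prime_seven e
    exact h3 (h.one7 h7 (h.ord k.toFour hz h1) (hy z hz) (h.ord k.toFour hv h2) (hy v hv)))
    ((card_dvd_of_le h4).trans (h.cc2 (h.ord k.toFour hz h1)).dvd)
  have h6 := two_of_dvd (Nat.dvd_of_mul_dvd_mul_right (by decide) h5)
  have h7 := card_mul_relIndex w1
  rw [← w3, Nat.mul_right_inj Nat.card_pos.ne'] at h7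
  have h8 : ∀ B : Subgroup G, IsPGroup 2 B → B ≤ centralizer (V : Set G) → B ≤ W := fun B hB hB' =>
    IsSylowIn.le_of_le_normalizer' ⟨w1, h6, by rw [h7]; decide⟩ hB hB' (hB'.trans w2)
  refine ⟨W, w1, h6, fun g hg => mem_normalizer_of_conj_mem fun w hw => h8 _ (h6.map _) ?_
    (conj_mem_conj_smul g hw), h8, w3⟩
  rintro _ ⟨a, ha, rfl⟩
  exact conj_mem_of_mem_normalizer (normalizer_le_normalizer_centralizer V hg) (w1 ha)

theorem le_W (f : Four x V) (w : IsW V W) : V ≤ W := w.max V f.two (h.le_cent f)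

theorem W_ne_four (k : Vx S x V) (w : IsW V W) : Nat.card W ≠ 4 := fun e => by
  obtain ⟨z, hz, h1, -⟩ := k.exists_ne 1
  obtain ⟨v, hv, h2, h3⟩ := k.exists_ne z
  obtain ⟨T, hT, h4⟩ := exists_isSylowIn_ge k.two ((h.le_cent k.toFour).trans
    (centralizer_le (Set.singleton_subset_iff.mpr hz)))
  have h5 : Nat.card T = 128 := by rw [hT.card_eq, ← cc, h.cc2 (h.ord k.toFour hz h1)]; decide +kernel
  have h6 := eq_of_le_of_card_ge (h.le_W k.toFour w) (e.trans k.card.symm).le
  refine not_selfcent h5 (v := ⟨v, h4 hv⟩) (z := ⟨z, h4 hz⟩) (fun g => Subtype.ext (orderOf_dvd_iff_pow_eq_one.mp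
    ((by decide : ∀ n ∈ ({1, 2, 3, 4, 5, 6, 7, 8, 11, 14, 15, 23} : Finset ℕ), n ∣ 128 → n ∣ 8) _ (h.spec g)
      (h5 ▸ orderOf_dvd_natCard _ g.2)))) (Subtype.ext (h.sq k.toFour hv)) (fun g hg => ?_)
    (fun g => Subtype.ext (mem_centralizer_singleton_iff.mp (hT.le g.2))) (Subtype.ext (h.sq k.toFour hz))
  simpa only [Subtype.ext_iff, coe_one, coe_mul] using mem_four k.card hz hv h1 h2 h3 (h.sq k.toFour hz) (h6.ge (w.max _
    (two_zpowers hT.isPGroup g.2) (zpowers_le.mpr ((h.cent_eq k.toFour hz h1 hv h2 h3).le (mem_inf.mpr ⟨hT.le g.2,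
      mem_centralizer_singleton_iff.mpr (congrArg Subtype.val hg)⟩))) (mem_zpowers _)))

theorem FF_cases (hW : IsPGroup 2 W) (hS : ↑S ≤ normalizer (W : Set G)) (hx : x ∈ S) (h1 : x ≠ 1) :
    FF W x = 4 ∧ Vx S x (W ⊓ centralizer {x}) ∨ FF W x = 1 := by
  have hx3 := h.ord_syl hx h1
  have h2 : ↑S ≤ normalizer ((W ⊓ centralizer {x} : Subgroup G) : Set G) := le_normalizer_inf hS
    fun p hp => le_normalizer (mem_centralizer_singleton_iff.mpr (h.comm_syl hp hx))
  have h3 := Nat.dvd_gcd (h.dvd128 (B := W ⊓ centralizer {x}) hW.to_inf_left)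
    ((card_dvd_of_le inf_le_right).trans (h.cc3 hx3).dvd)
  have h4 : Nat.card ↥(W ⊓ centralizer {x}) ≠ 2 := fun e => by
    obtain ⟨a, ha, hc⟩ := exists_fixed_of_not_dvd Nat.prime_three S.isPGroup'
      (X := ((W ⊓ centralizer {x} : Subgroup G) : Set G) \ {1}) (fun r hr v hv =>
        ⟨conj_mem_of_mem_normalizer (h2 hr) hv.1, fun e => hv.2 (conj_eq_one_iff.mp e)⟩)
      (by rw [Set.ncard_sdiff_singleton_of_mem (one_mem _), ncard_coe, e]; decide)
    exact ha.2 (eq_one_of_two_three (h.sq_of_comm hx3 (hc x hx).symm hW (mem_inf.mp ha.1).1) (h.cube (h.mem_of_cent hc)))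
  rw [FF_eq]
  rcases (by decide : ∀ d ∈ Nat.divisors 4, d ≠ 2 → d = 4 ∨ d = 1) _ (Nat.mem_divisors.mpr ⟨h3, by decide⟩) h4
    with e | e
  exacts [.inl ⟨e, ⟨hx3, e, fun v hv => mem_centralizer_singleton_iff.mp (mem_inf.mp hv).2⟩, hx, h2⟩, .inr e]

theorem FF_four (f : Four x V) (hW : IsPGroup 2 W) (hV : V ≤ W) : W ⊓ centralizer {x} = V :=
  (h.syl f).eq_of_le hW.to_inf_left (le_inf hV (h.syl f).le) inf_le_right

theorem count (k : Vx S x V) (b : Bas S x u) (hW : IsPGroup 2 W) (hS : ↑S ≤ normalizer (W : Set G)) (hV : V ≤ W) :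
    9 ∣ Nat.card W + 2 * (4 + FF W u + FF W (x * u) + FF W (x * u⁻¹)) := by
  have := nine_dvd_sum b.card b.hx b.hu b.ox (b.cube u b.hu) b.h2 hS
  rwa [FF_eq W x, h.FF_four k.toFour hW hV, k.card] at this

theorem disj' (k : Vx S x V) (k' : Vx S u V') (b : Bas S x u) : Disjoint V V' :=
  disjoint_def.mpr fun h1 h2 => h.eq_one_of_comm b (h.sq k.toFour h1) (k.cen _ h1) (k'.cen _ h2)

theorem card_sup (k : Vx S x V) (k' : Vx S u V') (b : Bas S x u) (hc : V' ≤ centralizer (V : Set G)) :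
    Nat.card ↥(V ⊔ V') = 16 := by
  rw [card_sup_of_disjoint (hc.trans (centralizer_le_normalizer _)) (h.disj' k k' b), k.card, k'.card]

theorem sup_le_cent (f : Four x V) (f' : Four u V') (hc : V' ≤ centralizer (V : Set G)) :
    V ⊔ V' ≤ centralizer ((V ⊔ V' : Subgroup G) : Set G) :=
  le_centralizer_iff.mp (sup_le (le_centralizer_iff.mp (sup_le (h.le_cent f) hc))
    (le_centralizer_iff.mp (sup_le (le_centralizer_iff.mp hc) (h.le_cent f'))))

theorem norm_V (f : Four x V) (hz : z ∈ V) (h1 : z ≠ 1) (c : Commute g z) (hg : g ∈ normalizer (zpowers x : Set G)) :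
    g ∈ normalizer (V : Set G) := by
  have f' := f.conj g
  refine mem_normalizer_iff_conj_smul_eq.mpr (h.ti f ⟨f.ox, f'.card, fun v hv => ?_⟩ hz (by
    have := conj_mem_conj_smul g hz
    rwa [c.eq, mul_inv_cancel_right] at this) h1)
  have := f'.cen v hv
  rcases conj_eq_or_three f.ox hg with e | e <;> rw [e] at this
  exacts [this, Commute.inv_right_iff.mp this]

theorem not_index_seven (k : Vx S x V) (hz : z ∈ V) (h1 : z ≠ 1) {L : Subgroup G} (hL : L ≤ centralizer {z})
    (hc : Nat.card L = 384) (hzL : z ∈ L) (hN : ∀ g ∈ centralizer {z}, g ∈ normalizer (zpowers x : Set G) → g ∈ L) :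
    168 ≤ Nat.card (centralizer (V : Set G)) := by
  have hH : Nat.card (centralizer {z}) = 2688 := h.cc2 (h.ord k.toFour hz h1)
  obtain ⟨K, k1, k2, k3, k4⟩ := exists_core' hL (n := 7) (by rw [hH, hc])
  have hzK := k4 z hzL fun c => mem_centralizer_singleton_iff.mp
  have hx : x ∈ centralizer {z} := mem_centralizer_singleton_iff.mpr (k.cen z hz).symm
  have h2 : ¬ 3 ∣ Nat.card K := fun e => by
    have h2 := (h.syl3 k.toFour hz h1 hx le_rfl).inf_of_le_normalizer (k1.trans hL) k2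
    have h3 : zpowers x ⊓ K = zpowers x := eq_of_le_of_card_ge inf_le_left (by
      rw [Nat.card_zpowers, k.ox]
      exact Nat.le_of_dvd Nat.card_pos (h2.dvd_card_iff.mpr e))
    rw [h3] at h2
    have h4 := card_le_of_le (show centralizer {z} ≤ L from fun g hg => by
      obtain ⟨n, hn, e⟩ := h2.frattini (k2 hg)
      exact (mul_mem_cancel_left (inv_mem (k1 hn))).mp (hN _ (mul_mem (inv_mem (hL (k1 hn))) hg) e))
    omega
  have h3 : Nat.card K ∣ 2 ^ 7 := dvd_of_not 1 Nat.prime_three h2 ((card_dvd_of_le k1).trans hc.dvd)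
  have h4 := two_of_dvd h3
  obtain ⟨y, hy, h5⟩ := exists_mem_of_prime_dvd (R := centralizer {z}) Nat.prime_seven (by rw [hH]; decide)
  have h6 := ncard_modEq_commute Nat.prime_seven h5 (X := K) fun u hu r hr =>
    conj_mem_of_mem_normalizer (k2 (zpowers_le.mpr hy hr)) hu
  have c : Commute z y := (mem_centralizer_singleton_iff.mp hy).symm
  rw [ncard_coe, show {u | u ∈ (K : Set G) ∧ Commute u y} = {1, z} from Set.ext fun u => ⟨fun hu => by
      have h7 := (orderOf_dvd_natCard _ hu.1).trans h3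
      have h8 := h.spec (u * y)
      rw [hu.2.orderOf_mul_eq_mul_orderOf_of_coprime (h5 ▸ Nat.Coprime.of_dvd_left h7 (by decide)), h5] at h8
      rcases (by decide +kernel : ∀ d ∈ Nat.divisors (2 ^ 7),
        d * 7 ∈ ({1, 2, 3, 4, 5, 6, 7, 8, 11, 14, 15, 23} : Finset ℕ) → d = 1 ∨ d = 2) _
        (Nat.mem_divisors.mpr ⟨h7, by decide⟩) h8 with e | e
      exacts [.inl (orderOf_eq_one_iff.mp e), .inr (h.one7 h5 (h.ord k.toFour hz h1) c e hu.2)], by
      rintro (rfl | rfl)
      exacts [⟨one_mem _, Commute.one_left y⟩, ⟨hzK, c⟩]⟩, Set.ncard_pair h1.symm] at h6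
  have h7 : V ≤ centralizer {z} := (h.le_cent k.toFour).trans (centralizer_le (Set.singleton_subset_iff.mpr hz))
  have h8 := h.card_inv k.toFour (k.two.to_sup_of_normal_right' h4 (h7.trans k2))
    (normalizer_inf_normalizer_le_normalizer_sup _ _ (mem_inf.mpr ⟨k.inv k.hx, k2 hx⟩)) le_sup_left
  have h9 := card_le_of_le (le_sup_right : K ≤ V ⊔ K)
  rw [hH] at k3
  have h10 := (by decide +kernel : ∀ d ∈ Nat.divisors (2 ^ 7), d % 7 = 2 % 7 → 2688 ∣ Nat.factorial 7 * d → d ≤ 64 →
    d = 16) _ (Nat.mem_divisors.mpr ⟨h3, by decide⟩) h6 k3 (by omega)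
  have h11 := ncard_modEq_commute Nat.prime_three k.ox (X := K) fun u hu r hr =>
    conj_mem_of_mem_normalizer (k2 (zpowers_le.mpr hx hr)) hu
  have h12 : {u | u ∈ (K : Set G) ∧ Commute u x} ⊆ V := fun u hu => h.mem_V k.toFour hz h1 hu.2
    (mem_centralizer_singleton_iff.mp (hL (k1 hu.1))) (h.sq_of_comm k.ox hu.2 h4 hu.1)
  have h13 := Set.ncard_le_ncard (s := {1, z}) (t := {u | u ∈ (K : Set G) ∧ Commute u x}) (by
    rintro _ (rfl | rfl)
    exacts [⟨one_mem _, Commute.one_left x⟩, ⟨hzK, k.cen _ hz⟩])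
  have h14 := Set.ncard_le_ncard h12
  rw [ncard_coe, k.card] at h14
  rw [Set.ncard_pair h1.symm] at h13
  rw [ncard_coe, h10] at h11
  obtain ⟨v, hv, h15, h16⟩ := k.exists_ne z
  have h17 := ((Set.eq_of_subset_of_ncard_le h12 (by rw [ncard_coe, k.card]; omega)).ge hv).1
  have h18 := card_inf_centralizer_mul (centralizer {z}) v
  have h19 := Set.ncard_le_ncard (s := {w | ∃ r ∈ centralizer {z}, r * v * r⁻¹ = w}) (t := K) (by
    rintro _ ⟨r, hr, rfl⟩; exact conj_mem_of_mem_normalizer (k2 hr) h17)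
  rw [h.cent_eq k.toFour hz h1 hv h15 h16, hH] at h18
  rw [ncard_coe, h10] at h19
  by_contra
  nlinarith

theorem W_ne_sixteen (k : Vx S x V) (w : IsW V W) : Nat.card W ≠ 16 := fun e => by
  have hS := k.inv.trans w.norm
  have hV := h.le_W k.toFour w
  obtain ⟨y, r, b, hy, hr, h0⟩ : ∃ y r, Bas S x y ∧ Vx S y (W ⊓ centralizer {y}) ∧ r ∈ S ∧ FF W r = 1 := by
    obtain ⟨u, b⟩ := h.exists_bas k.hx k.h1
    have h1 := h.count k b w.two hS hV
    rcases h.FF_cases w.two hS b.hu b.u1 with e1 | e1 <;>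
      rcases h.FF_cases w.two hS b.mul.hu b.mul.u1 with e2 | e2 <;>
      rcases h.FF_cases w.two hS b.inv.mul.hu b.inv.mul.u1 with e3 | e3
    exacts [by omega, by omega, by omega, ⟨_, _, b, e1.2, b.mul.hu, e2⟩, by omega, ⟨_, _, b.mul, e2.2, b.hu, e1⟩,
      ⟨_, _, b.inv.mul, e3.2, b.hu, e1⟩, by omega]
  have hab : W ≤ centralizer (W : Set G) := by
    have h1 := eq_of_le_of_card_ge (sup_le hV inf_le_left) (e.trans (h.card_sup k hy b (inf_le_left.trans w.cen)).symm).le
    have := h.sup_le_cent k.toFour hy.toFour (inf_le_left.trans w.cen)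
    rwa [h1] at this
  obtain ⟨z, hz, h1, -⟩ := k.exists_ne 1
  obtain ⟨v, hv, h2, h3⟩ := k.exists_ne z
  obtain ⟨t, t1, t2⟩ := h.exists_t k hz h1
  have t3 := h.sq_neg t1
  have t4 := w.norm (h.norm_of_neg k t1)
  have t5 : t ∉ W := fun e => h.five k (t1 x k.hx) fun v hv => (w.cen e v hv).symm
  have h4 := card_sup_of_disjoint (zpowers_le.mpr t4) (disjoint_def.mpr fun {b} h1 h2 =>
    (mem_zpowers_two t3 h2).resolve_right fun e => t5 (e ▸ h1))
  rw [e, Nat.card_zpowers, orderOf_eq_prime ((pow_two t).trans t3) fun e => t5 (e ▸ one_mem _)] at h4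
  have hH : Nat.card (centralizer {z}) = 2688 := h.cc2 (h.ord k.toFour hz h1)
  have hc := centralizer_le (G := G) (Set.singleton_subset_iff.mpr hz)
  have ht : t ∈ centralizer {z} := mem_centralizer_singleton_iff.mpr t2
  have h5 := norm_grow (sup_le (w.cen.trans hc) (zpowers_le.mpr ht)) (k := 5) h4 (by rw [hH]; decide)
  have h6 : normalizer ((W ⊔ zpowers t : Subgroup G) : Set G) ≤ normalizer (W : Set G) := fun g hg =>
    mem_normalizer_of_conj_mem fun a ha => by_contra fun h6 => by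
      obtain ⟨c, hc, d, hd, h7⟩ := (mem_sup_of_right_le_normalizer (zpowers_le.mpr t4)).mp
        (conj_mem_of_mem_normalizer hg (mem_sup_left ha))
      obtain rfl := (mem_zpowers_two t3 hd).resolve_left fun e => h6 (by rw [← h7, e, mul_one]; exact hc)
      have h8 := card_le_two_mul_inf (A := W) (B := MulAut.conj g • W) (T := W ⊔ zpowers d) le_sup_left (by
        rintro _ ⟨a, ha, rfl⟩; exact conj_mem_of_mem_normalizer hg (mem_sup_left ha)) (by omega)
      have h9 : W ⊓ MulAut.conj g • W ≤ centralizer {d} := fun f hf => by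
        obtain ⟨f', hf', e⟩ := (mem_inf.mp hf).2
        have h9 : Commute (c * d) f := by rw [h7, ← e]; exact commute_conj g (hab hf' a ha)
        have h10 : Commute c f := hab (mem_inf.mp hf).1 c hc
        simpa [mem_centralizer_singleton_iff] using (h10.inv_left.mul_left h9).symm.eq
      have h10 := card_le_two_mul_inf (A := W ⊓ MulAut.conj g • W) (B := MulAut.conj r • (W ⊓ MulAut.conj g • W))
        (T := W) inf_le_left (by
          rintro _ ⟨a, ha, rfl⟩; exact conj_mem_of_mem_normalizer (hS hr) (mem_inf.mp ha).1)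
          (by rwa [card_conj_smul] at h8)
      have h11 := card_le_of_le (show (W ⊓ MulAut.conj g • W) ⊓ MulAut.conj r • (W ⊓ MulAut.conj g • W) ≤
          W ⊓ centralizer {r} from fun f hf => mem_inf.mpr ⟨(mem_inf.mp (mem_inf.mp hf).1).1, by
        obtain ⟨f', hf', e⟩ := (mem_inf.mp hf).2
        have h11 : Commute f d := mem_centralizer_singleton_iff.mp (h9 (mem_inf.mp hf).1)
        have h12 : Commute f (r * d * r⁻¹) := e ▸ commute_conj r (mem_centralizer_singleton_iff.mp (h9 hf'))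
        have h13 := h11.mul_right h12
        rw [show d * (r * d * r⁻¹) = d * r * d⁻¹ * (d * d) * r⁻¹ by group, t1 r hr, t3, mul_one,
          b.sq (inv_mem hr), inv_inv] at h13
        exact mem_centralizer_singleton_iff.mpr h13⟩)
      rw [← FF_eq, h0] at h11
      rw [card_conj_smul] at h8 h10
      omega
  have h7 := h5.trans (card_dvd_of_le (inf_le_inf_left _ h6))
  set L := centralizer {z} ⊓ normalizer (W : Set G)
  have h8 := card_inf_centralizer_mul L v
  have h9 := Set.ncard_le_ncard (s := {w | ∃ r ∈ L, r * v * r⁻¹ = w}) (t := W) (by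
    rintro _ ⟨r, hr, rfl⟩; exact conj_mem_of_mem_normalizer (mem_inf.mp hr).2 (hV hv))
  have h10 : centralizer (V : Set G) ≤ L := le_inf hc ((centralizer_le_normalizer _).trans w.norm)
  rw [inf_right_comm, h.cent_eq k.toFour hz h1 hv h2 h3, inf_eq_left.mpr (h10.trans inf_le_right), ← w.card, e] at h8
  rw [ncard_coe, e] at h9
  have h11 := card_dvd_of_le (inf_le_left : L ≤ _)
  have h12 : Nat.card L = 192 ∨ Nat.card L = 384 := by
    rw [hH, ← h8] at h11
    rw [← h8] at h7 ⊢
    generalize Set.ncard _ = n at h7 h9 h11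
    interval_cases n <;> omega
  have h13 : ∀ g ∈ centralizer {z}, g ∈ normalizer (zpowers x : Set G) → g ∈ L := fun g h2 h3 =>
    mem_inf.mpr ⟨h2, w.norm (h.norm_V k.toFour hz h1 (mem_centralizer_singleton_iff.mp h2) h3)⟩
  rcases h12 with h12 | h12
  · have h14 := relIndex_normalizer_mod (h.syl3 k.toFour hz h1 (h10 k.cen) inf_le_left)
    have h15 := card_inf_mul_relIndex (normalizer (zpowers x : Set G)) L
    have h16 := card_le_two_mul_three k.ox (R := normalizer (zpowers x : Set G) ⊓ L) inf_le_left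
    have h17 := card_le_of_le (show normalizer (zpowers x : Set G) ⊓ L ⊓ centralizer {x} ≤ V ⊔ zpowers x from
      (h.CC k.toFour hz h1).ge.trans' (le_inf inf_le_right (inf_le_left.trans (inf_le_right.trans inf_le_left))))
    have h18 : V ⊔ zpowers x ≤ normalizer (zpowers x : Set G) ⊓ L := sup_le (le_inf (fun v hv => mem_normalizer_three
      (.inl (by rw [(k.cen v hv).eq, mul_inv_cancel_right]))) ((h.le_cent k.toFour).trans h10))
      (le_inf le_normalizer (zpowers_le.mpr (h10 k.cen)))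
    have h19 : Nat.card ↥(normalizer (zpowers x : Set G) ⊓ L) ≠ 12 := fun e => ne_inv_of_three k.ox (by
      have := (h.CC k.toFour hz h1).le ((eq_of_le_of_card_ge h18 (by rw [e, h.card_Vx k.toFour])).ge
        (mem_inf.mpr ⟨mem_normalizer_three (.inr (t1 x k.hx)), mem_inf.mpr ⟨ht, t4⟩⟩))
      rw [← t1 x k.hx, mem_centralizer_singleton_iff.mp (mem_inf.mp this).1, mul_inv_cancel_right])
    have h20 := card_dvd_of_le h18
    have h21 := Nat.card_pos (α := ↥(normalizer (zpowers x : Set G) ⊓ L))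
    rw [h.card_Vx k.toFour] at h17 h20
    rw [show Nat.card ↥(normalizer (zpowers x : Set G) ⊓ L) = 24 by omega, h12] at h15
    omega
  · have := h.not_index_seven k hz h1 inf_le_left h12 (h10 (h.le_cent k.toFour hz)) h13
    rw [← w.card, e] at this
    omega

theorem card_W (k : Vx S x V) (w : IsW V W) : Nat.card W = 64 :=
  ((h.card_inv k.toFour w.two (w.norm (k.inv k.hx)) (h.le_W k.toFour w)).resolve_left (h.W_ne_four k w)).resolve_left
    (h.W_ne_sixteen k w)

end N23

end Cfsg.Agent.Mat
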