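import Cfsg.Agent.Mat.M23D

/-! The graph of the invariant four-groups. -/

set_option autoImplicit false
set_option linter.unusedSectionVars false

namespace Cfsg.Agent.Mat

open Subgroup MulAction Cfsg.Agent.M11 Cfsg.Agent.Local
open scoped Pointwise

variable {G : Type*} [Group G] [Finite G]

/-- Linear action on the Sylow 3-subgroup. -/
def L9 (x u g : G) (a b : ZMod 3 × ZMod 3) : Prop := ∀ v, g * ee x u v * g⁻¹ = ee x u (v.1 • a + v.2 • b)

theorem L9.mul {x u g g' : G} {a b a' b' : ZMod 3 × ZMod 3} (h : L9 x u g a b) (h' : L9 x u g' a' b') :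
    L9 x u (g * g') (a'.1 • a + a'.2 • b) (b'.1 • a + b'.2 • b) := fun v => by
  calc _ = g * (g' * ee x u v * g'⁻¹) * g⁻¹ := by group
    _ = _ := by
      rw [h', h]
      congr 1
      ext <;> simp <;> ring

theorem L9.inv {x u g : G} {a b : ZMod 3 × ZMod 3} (h : L9 x u g a b) (a' b' : ZMod 3 × ZMod 3)
    (e : ∀ v : ZMod 3 × ZMod 3, (v.1 • a' + v.2 • b').1 • a + (v.1 • a' + v.2 • b').2 • b = v := by decide) :
    L9 x u g⁻¹ a' b' := fun v => by
  have := h (v.1 • a' + v.2 • b')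
  rw [e] at this
  rw [← this]; group

theorem ee_x (x u : G) : ee x u (1, 0) = x := by simp [ee, ZMod.val_one]

theorem ee_u (x u : G) : ee x u (0, 1) = u := by simp [ee, ZMod.val_one]

theorem L9.cx {x u g : G} {a b : ZMod 3 × ZMod 3} (h : L9 x u g a b) : g * x * g⁻¹ = ee x u a := by
  simpa [ee_x] using h (1, 0)

theorem L9.cu {x u g : G} {a b : ZMod 3 × ZMod 3} (h : L9 x u g a b) : g * u * g⁻¹ = ee x u b := by
  simpa [ee_u] using h (0, 1)

namespace Bas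

variable {S : Sylow 3 G} {x u g : G} (b : Bas S x u)
include b

theorem ee_add (v w : ZMod 3 × ZMod 3) : ee x u (v + w) = ee x u v * ee x u w :=
  Mat.ee_add (b.cube x b.hx) (b.cube u b.hu) (b.comm b.hx b.hu) v w

theorem ee_nsmul (v : ZMod 3 × ZMod 3) (n : ℕ) : ee x u (n • v) = ee x u v ^ n := by
  induction n with
  | zero => simp [ee]
  | succ n ih => rw [succ_nsmul, b.ee_add, ih, pow_succ]

theorem l9 {a c : ZMod 3 × ZMod 3} (h1 : g * x * g⁻¹ = ee x u a) (h2 : g * u * g⁻¹ = ee x u c) : L9 x u g a c :=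
  fun v => by
    rw [b.ee_add, ← ZMod.natCast_zmod_val v.1, ← ZMod.natCast_zmod_val v.2, Nat.cast_smul_eq_nsmul,
      Nat.cast_smul_eq_nsmul, b.ee_nsmul, b.ee_nsmul, ← h1, ← h2, conj_pow, conj_pow, conj_mul]
    rfl

theorem ee_xi : ee x u (2, 0) = x⁻¹ := by
  simpa [ee, show (2 : ZMod 3).val = 2 from rfl, pow_two] using b.sq b.hx

theorem ee_ui : ee x u (0, 2) = u⁻¹ := by
  simpa [ee, show (2 : ZMod 3).val = 2 from rfl, pow_two] using b.sq b.hu

theorem ee_w : ee x u (1, 2) = x * u⁻¹ := by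
  rw [show ((1, 2) : ZMod 3 × ZMod 3) = (1, 0) + (0, 2) from rfl, b.ee_add, ee_x, b.ee_ui]

theorem ee_inj : Function.Injective (ee x u) := ee_injective b.ox (b.cube u b.hu) (b.comm b.hx b.hu) b.h2

theorem exists_l9 (hg : g • S = S) : ∃ a c, L9 x u g a c := by
  have k : ∀ p ∈ S, ∃ v, ee x u v = p := fun p hp => (Set.eq_of_subset_of_ncard_le (s := Set.range (ee x u))
    (t := (S : Subgroup G)) (by rintro _ ⟨v, rfl⟩; exact mul_mem (pow_mem b.hx _) (pow_mem b.hu _)) (by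
      rw [ncard_coe, b.card, Set.ncard_range_of_injective b.ee_inj]; simp)).ge hp
  obtain ⟨a, ha⟩ := k _ (conj_mem_syl hg b.hx)
  obtain ⟨c, hc⟩ := k _ (conj_mem_syl hg b.hu)
  exact ⟨a, c, b.l9 ha.symm hc.symm⟩

theorem neg {a c : ZMod 3 × ZMod 3} (h : L9 x u g a c) (e : a = (2, 0) ∧ c = (0, 2) := by decide) :
    ∀ p ∈ S, g * p * g⁻¹ = p⁻¹ := fun p hp => by
  have h1 := h.cx
  have h2 := h.cu
  rw [e.1, b.ee_xi] at h1
  rw [e.2, b.ee_ui] at h2
  have c := b.comm b.hx b.hu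
  rcases b.mem hp with rfl | rfl | rfl | rfl | rfl | rfl | rfl | rfl | rfl <;>
    simp only [← conj_mul, ← conj_inv, h1, h2, mul_inv_rev, inv_inv, c.inv_inv.eq, c.inv_left.eq, c.eq, c.inv_right.eq,
      mul_one, mul_inv_cancel, inv_one]

theorem third : Bas S u (x * u⁻¹) := by simpa using b.swap.inv.mul.inv

end Bas

/-- A vertex with its two neighbours. -/
structure Nb (S : Sylow 3 G) (x u : G) (V A B : Subgroup G) : Prop where
  b : Bas S x u
  k : Vx S x V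
  a : Vx S u A
  c : Vx S (x * u⁻¹) B
  hA : A ≤ centralizer (V : Set G)
  hB : B ≤ centralizer (V : Set G)
  all : ∀ y Y, Vx S y Y → Y ≤ centralizer (V : Set G) → Y = V ∨ Y = A ∨ Y = B

theorem Nb.swap {S : Sylow 3 G} {x u : G} {V A B : Subgroup G} (n : Nb S x u V A B) : Nb S x (x * u⁻¹) V B A :=
  ⟨n.b.inv.mul, n.k, n.c, by
    rw [mul_inv_rev, inv_inv, ← mul_assoc, (n.b.comm n.b.hx n.b.hu).eq, mul_inv_cancel_right]; exact n.a, n.hB, n.hA,
    fun y Y h1 h2 => (n.all y Y h1 h2).imp_right Or.symm⟩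

theorem adj_conj {A V : Subgroup G} (h : A ≤ centralizer (V : Set G)) (g : G) :
    MulAut.conj g • A ≤ centralizer ((MulAut.conj g • V : Subgroup G) : Set G) := by
  rw [centralizer_conj_smul]
  exact pointwise_smul_le_pointwise_smul_iff.mpr h

theorem Nb.all' {S : Sylow 3 G} {x u g y : G} {V A B Y : Subgroup G} (n : Nb S x u V A B) (hg : g • S = S)
    (h1 : Vx S y Y) (h2 : Y ≤ centralizer ((MulAut.conj g • V : Subgroup G) : Set G)) :
    MulAut.conj g • V = Y ∨ MulAut.conj g • A = Y ∨ MulAut.conj g • B = Y := by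
  have := n.all _ _ (h1.conj (inv_smul_eq_iff.mpr hg.symm)) (by
    simpa [conj_smul_conj_smul] using adj_conj h2 g⁻¹)
  simp only [map_inv, inv_smul_eq_iff] at this
  exact this.imp Eq.symm (Or.imp Eq.symm Eq.symm)

namespace N23

variable (h : N23 G) {S : Sylow 3 G} {x u y g : G} {V A B Y : Subgroup G}
include h

theorem exists_nb (k : Vx S x V) : ∃ u A B, Nb S x u V A B := by
  obtain ⟨W, w⟩ := h.exists_W k
  have hS := k.inv.trans w.norm
  have hV := h.le_W k.toFour w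
  obtain ⟨u, b, h1, h2, h3⟩ : ∃ u, Bas S x u ∧ Vx S u (W ⊓ centralizer {u}) ∧
      Vx S (x * u⁻¹) (W ⊓ centralizer {x * u⁻¹}) ∧ FF W (x * u) = 1 := by
    obtain ⟨u, b⟩ := h.exists_bas k.hx k.h1
    have h1 := h.count k b w.two hS hV
    rw [h.card_W k w] at h1
    have k1 : ∀ u, Bas S x u → FF W u = 4 → Vx S u (W ⊓ centralizer {u}) := fun u b e =>
      ((h.FF_cases w.two hS b.hu b.u1).resolve_right (by omega)).2
    have e1 := (h.FF_cases w.two hS b.hu b.u1).imp_left And.left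
    have e2 := (h.FF_cases w.two hS b.mul.hu b.mul.u1).imp_left And.left
    have e3 := (h.FF_cases w.two hS b.inv.mul.hu b.inv.mul.u1).imp_left And.left
    rcases (by omega : FF W u = 4 ∧ FF W (x * u⁻¹) = 4 ∧ FF W (x * u) = 1 ∨
      FF W u = 4 ∧ FF W (x * u) = 4 ∧ FF W (x * u⁻¹) = 1 ∨ FF W (x * u⁻¹) = 4 ∧ FF W (x * u) = 4 ∧ FF W u = 1)
      with e | e | e
    · exact ⟨u, b, k1 _ b e.1, k1 _ b.inv.mul e.2.1, e.2.2⟩
    · exact ⟨u⁻¹, b.inv, k1 _ b.inv ((FF_inv W u).trans e.1), k1 _ b.inv.inv.mul (by rw [inv_inv, e.2.1]), e.2.2⟩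
    · refine ⟨(x * u⁻¹)⁻¹, b.inv.mul.inv, k1 _ b.inv.mul.inv ((FF_inv W _).trans e.1),
        k1 _ b.inv.mul.inv.inv.mul ?_, ?_⟩
      · rw [inv_inv, ← mul_assoc, b.sq b.hx, (b.comm b.hx b.hu).inv_inv.eq, ← mul_inv_rev, FF_inv, e.2.1]
      · rw [mul_inv_rev, inv_inv, ← mul_assoc, (b.comm b.hx b.hu).eq, mul_inv_cancel_right, e.2.2]
  refine ⟨u, _, _, b, k, h1, h2, inf_le_left.trans w.cen, inf_le_left.trans w.cen, fun y Y a hY => ?_⟩
  have h4 : ∀ r, y = r ∨ y = r⁻¹ → Y ≤ W ⊓ centralizer {r} := fun r e => le_inf (w.max Y a.two hY) fun v hv =>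
    mem_centralizer_singleton_iff.mpr (by
      rcases e with rfl | rfl
      exacts [a.cen v hv, Commute.inv_right_iff.mp (a.cen v hv)])
  have h5 : ∀ r Z, Vx S r Z → Y ≤ Z → Y = Z := fun r Z a' e => eq_of_le_of_card_ge e (a'.card.trans a.card.symm).le
  have h6 : ¬ Y ≤ W ⊓ centralizer {x * u} := fun e => by
    have := card_le_of_le e
    rw [← FF_eq, h3, a.card] at this
    omega
  have h7 := h.FF_four k.toFour w.two hV
  rcases b.mem a.hx with e | e | e | e | e | e | e | e | e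
  exacts [absurd e a.h1, .inl (h5 _ _ k (h7 ▸ h4 _ (.inl e))), .inl (h5 _ _ k (h7 ▸ h4 _ (.inr e))),
    .inr (.inl (h5 _ _ h1 (h4 _ (.inl e)))), .inr (.inl (h5 _ _ h1 (h4 _ (.inr e)))), absurd (h4 _ (.inl e)) h6,
    absurd (h4 _ (.inr e)) h6, .inr (.inr (h5 _ _ h2 (h4 _ (.inl e)))), .inr (.inr (h5 _ _ h2 (h4 _ (.inr e))))]

theorem ne (k : Vx S x V) (a : Vx S u A) (b : Bas S x u) : V ≠ A := fun e => by
  obtain ⟨z, hz, h1, -⟩ := k.exists_ne 1
  exact h1 (disjoint_def.mp (h.disj' k a b) hz (e ▸ hz))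

theorem line (k : Vx S x V) (a : Vx S y V) : y = x ∨ y = x⁻¹ := by_contra fun e =>
  h.ne k a ⟨k.hx, k.h1, a.hx, fun e' => e ((mem_zpowers_three (h.cube k.hx) e').resolve_left a.h1),
    fun _ => h.cube, h.card_syl S⟩ rfl

theorem fix' (k : Vx S x V) (a : Vx S y Y) (hg : g • S = S) (h1 : MulAut.conj g • V = V) : MulAut.conj g • Y = Y :=
  h.fix k a hg h1 (h.line k (h1 ▸ k.conj hg))

theorem bas_of_adj (k : Vx S x V) (a : Vx S y Y) (h1 : Y ≤ centralizer (V : Set G)) (h2 : Y ≠ V) : Bas S x y :=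
  ⟨k.hx, k.h1, a.hx, fun e => h2 (eq_of_le_of_card_ge (fun v hv => by
    obtain ⟨z, hz, h3, -⟩ := k.exists_ne 1
    refine h.mem_V k.toFour hz h3 ?_ (h1 hv z hz).symm (h.sq a.toFour hv)
    rcases (mem_zpowers_three (h.cube k.hx) e).resolve_left a.h1 with rfl | rfl
    exacts [a.cen v hv, Commute.inv_right_iff.mp (a.cen v hv)]) (k.card.trans a.card.symm).le),
    fun _ => h.cube, h.card_syl S⟩

theorem norm_E (k : Vx S x V) (a : Vx S u A) (b : Bas S x u) (hA : A ≤ centralizer (V : Set G)) (hY : IsPGroup 2 Y)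
    (h1 : Y ≤ centralizer (V : Set G)) : Y ≤ normalizer ((V ⊔ A : Subgroup G) : Set G) := by
  obtain ⟨W, w⟩ := h.exists_W k
  have h2 : V ⊔ A ≤ W := sup_le (h.le_W k.toFour w) (w.max A a.two hA)
  have h3 := norm_grow h2 (k := 4) (h.card_sup k a b hA) (by rw [h.card_W k w]; decide)
  have h4 := h.card_inv k.toFour (B := W ⊓ normalizer ((V ⊔ A : Subgroup G) : Set G)) w.two.to_inf_left
    (inf_normalizer_le_normalizer_inf (mem_inf.mpr ⟨w.norm (k.inv k.hx),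
      le_normalizer (le_normalizer_sup k.inv a.inv k.hx)⟩)) (le_sup_left.trans (le_inf h2 le_normalizer))
  exact (w.max Y hY h1).trans ((eq_of_le_of_card_ge inf_le_left (by rw [h.card_W k w]; omega)).ge.trans inf_le_right)

theorem inf_E (k : Vx S x V) (a : Vx S u A) (c : Vx S y B) (b : Bas S x u) (b' : Bas S x y)
    (hA : A ≤ centralizer (V : Set G)) (hB : B ≤ centralizer (V : Set G)) (h1 : ¬ B ≤ centralizer (A : Set G)) :
    (V ⊔ A) ⊓ (V ⊔ B) ≤ V := by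
  have h2 := h.card_sup k a b hA
  have h3 := h.card_sup k c b' hB
  have h4 := h.card_inv k.toFour (IsPGroup.of_card (n := 4) h2).to_inf_left (le_normalizer_inf
    (le_normalizer_sup k.inv a.inv) (le_normalizer_sup k.inv c.inv) k.hx) (le_inf le_sup_left le_sup_left)
  have h5 := card_le_of_le (inf_le_left : (V ⊔ A) ⊓ (V ⊔ B) ≤ _)
  refine (eq_of_le_of_card_ge (le_inf le_sup_left le_sup_left) (le_of_not_gt fun h6 => h1 ?_)).ge
  rw [k.card] at h6
  have h7 := eq_of_le_of_card_ge (inf_le_right : (V ⊔ A) ⊓ (V ⊔ B) ≤ _) (by omega)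
  exact ((le_sup_right.trans h7.ge).trans inf_le_left).trans
    ((h.sup_le_cent k.toFour a.toFour hA).trans (centralizer_le (le_sup_right : A ≤ V ⊔ A)))

variable (n : Nb S x u V A B)
include n

theorem not_tri : ¬ B ≤ centralizer (A : Set G) := fun e => by
  obtain ⟨g, g1, -, rfl⟩ := h.trans n.k n.a
  have h1 := h.ne n.k n.a n.b
  have h2 := h.ne n.a n.c n.b.third
  rcases (n.all' g1 n.k (le_centralizer_iff.mp n.hA)).resolve_left h1.symm with e1 | e1 <;>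
    rcases (n.all' g1 n.c e).resolve_left h2 with e2 | e2
  · exact h.ne n.k n.c n.b.inv.mul (e1.symm.trans e2)
  · exact h1 (h.fix' n.c n.k g1 e2).symm
  · refine h1 (mem_normalizer_iff_conj_smul_eq.mp (h.pow3 g1 n.k.inv (mem_normalizer_iff_conj_smul_eq.mpr ?_))).symm
    rw [pow_three, ← conj_smul_conj_smul, ← conj_smul_conj_smul, e2, e1]
  · exact h.ne n.k n.c n.b.inv.mul (e1.symm.trans e2)

theorem not_square (a : Vx S y Y) (h1 : Y ≤ centralizer (A : Set G)) (h2 : Y ≤ centralizer (B : Set G)) : Y = V := by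
  by_contra h3
  have h4 : Y ≠ A := fun e => h.not_tri n (le_centralizer_iff.mp (e ▸ h2))
  have h5 : Y ≠ B := fun e => h.not_tri n (e ▸ h1)
  have hA := le_centralizer_iff.mp n.hA
  have hB := le_centralizer_iff.mp n.hB
  have b1 := h.bas_of_adj n.a a h1 h4
  have b2 := h.bas_of_adj n.c a h2 h5
  refine ((n.all y Y a fun w hw v hv => commutatorElement_eq_one_iff_commute.mp (by_contra fun h6 => h3
    (eq_of_le_of_card_ge (h.V_le a n.k.inv ?_ h6 ?_) (n.k.card.trans a.card.symm).le))).resolve_left h3).elim h4 h5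
  · refine h.inf_E a n.a n.c b1.swap b2.swap (le_centralizer_iff.mp h1) (le_centralizer_iff.mp h2) (h.not_tri n)
      (mem_inf.mpr ⟨?_, ?_⟩) <;> rw [sup_comm]
    exacts [mul_mem (conj_mem_of_mem_normalizer (h.norm_E n.a a b1 h1 n.k.two hA hv) (mem_sup_right hw))
      (mem_sup_right (inv_mem hw)), mul_mem (conj_mem_of_mem_normalizer (h.norm_E n.c a b2 h2 n.k.two hB hv)
        (mem_sup_right hw)) (mem_sup_right (inv_mem hw))]
  · refine h.inf_E n.k n.a n.c n.b n.b.inv.mul n.hA n.hB (h.not_tri n) (mem_inf.mpr ⟨?_, ?_⟩) <;>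
      rw [sup_comm, commutatorElement_def, mul_assoc, mul_assoc, ← mul_assoc w]
    exacts [mul_mem (mem_sup_right hv) (conj_mem_of_mem_normalizer (h.norm_E n.a n.k n.b.swap hA a.two h1 hw)
      (mem_sup_right (inv_mem hv))), mul_mem (mem_sup_right hv) (conj_mem_of_mem_normalizer
        (h.norm_E n.c n.k n.b.inv.mul.swap hB a.two h2 hw) (mem_sup_right (inv_mem hv)))]

theorem exists_swap : ∃ g, g • S = S ∧ MulAut.conj g • V = A ∧ MulAut.conj g • A = V ∧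
    (L9 x u g (0, 1) (1, 0) ∨ L9 x u g (0, 1) (2, 0)) := by
  obtain ⟨g, g1, g2, g3⟩ := h.trans n.k n.a
  have h1 := h.ne n.k n.a n.b
  obtain ⟨a, c, l⟩ := n.b.exists_l9 g1
  obtain rfl : a = (0, 1) := n.b.ee_inj (l.cx.symm.trans (g2.trans (ee_u x u).symm))
  have h2 : MulAut.conj g • A = V := by
    by_contra h2
    have h3 := ((n.all' g1 n.k (g3 ▸ le_centralizer_iff.mp n.hA)).resolve_left (g3 ▸ h1.symm)).resolve_left h2
    have h4 := h.line n.k (h3 ▸ n.c.conj g1)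
    rw [← n.b.ee_w, l, ← n.b.ee_xi] at h4
    rcases (by decide : ∀ c : ZMod 3 × ZMod 3, ((1 : ZMod 3) • ((0, 1) : ZMod 3 × ZMod 3) + (2 : ZMod 3) • c = (1, 0) ∨
      (1 : ZMod 3) • ((0, 1) : ZMod 3 × ZMod 3) + (2 : ZMod 3) • c = (2, 0)) → c = (2, 1) ∨ c = (1, 1)) c
      (h4.imp (fun e => n.b.ee_inj (e.trans (ee_x x u).symm)) fun e => n.b.ee_inj e) with rfl | rfl
    · refine h1 ((mem_normalizer_iff_conj_smul_eq.mp (h.pow3 g1 n.k.inv ?_)).symm.trans g3)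
      rw [pow_three]
      exact h.norm_of_neg n.k (n.b.neg (l.mul (l.mul l)))
    · have h5 := mem_normalizer_iff_conj_smul_eq.mp (h.norm_of_neg n.k (n.b.neg (l.mul (l.mul (l.mul l)))))
      rw [← conj_smul_conj_smul, ← conj_smul_conj_smul, ← conj_smul_conj_smul, g3, ← h3, smul_left_cancel_iff] at h5
      refine h2 (h.not_square n (n.a.conj g1) (g3 ▸ adj_conj n.hA g) (le_centralizer_iff.mp ?_))
      have := adj_conj (adj_conj n.hA g) g
      rwa [g3, h5] at this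
  refine ⟨g, g1, g3, h2, ?_⟩
  have h4 := h.line n.k (h2 ▸ n.a.conj g1)
  rw [l.cu, ← n.b.ee_xi] at h4
  rcases h4 with e | e
  exacts [.inl (n.b.ee_inj (e.trans (ee_x x u).symm) ▸ l), .inr (n.b.ee_inj e ▸ l)]

theorem exists_swap' : ∃ g, g • S = S ∧ MulAut.conj g • V = B ∧ MulAut.conj g • B = V ∧
    (L9 x u g (1, 2) (0, 2) ∧ L9 x (x * u⁻¹) g (0, 1) (1, 0) ∨ L9 x u g (1, 2) (2, 2)) := by
  obtain ⟨g, g1, g2, g3, g4⟩ := h.exists_swap n.swap
  obtain ⟨a, c, l⟩ := n.b.exists_l9 g1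
  have h1 := l (1, 2)
  obtain rfl : a = (1, 2) := n.b.ee_inj (l.cx.symm.trans (by
    rw [n.b.ee_w]; exact g4.elim (fun e => e.cx.trans (ee_u _ _)) fun e => e.cx.trans (ee_u _ _)))
  rw [n.b.ee_w] at h1
  refine ⟨g, g1, g2, g3, g4.imp (fun e => ⟨?_, e⟩) fun e => ?_⟩
  · exact (by decide : ∀ c : ZMod 3 × ZMod 3, (1 : ZMod 3) • ((1, 2) : ZMod 3 × ZMod 3) + (2 : ZMod 3) • c = (1, 0) →
      c = (0, 2)) c (n.b.ee_inj (h1.symm.trans (e.cu.trans ((ee_x _ _).trans (ee_x _ _).symm)))) ▸ l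
  · exact (by decide : ∀ c : ZMod 3 × ZMod 3, (1 : ZMod 3) • ((1, 2) : ZMod 3 × ZMod 3) + (2 : ZMod 3) • c = (2, 0) →
      c = (2, 2)) c (n.b.ee_inj (h1.symm.trans (e.cu.trans (n.swap.b.ee_xi.trans n.b.ee_xi.symm)))) ▸ l

theorem mem_of_l9 {a c : ZMod 3 × ZMod 3} (l : L9 x u g a c) (e : a = (1, 0) ∧ c = (0, 1) := by decide) : g ∈ S :=
  h.mem_of_comm n.b (mul_inv_eq_iff_eq_mul.mp (l.cx.trans (e.1 ▸ ee_x x u)))
    (mul_inv_eq_iff_eq_mul.mp (l.cu.trans (e.2 ▸ ee_u x u)))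

theorem swaps : ∃ c g, c • S = S ∧ MulAut.conj c • V = A ∧ MulAut.conj c • A = V ∧ g • S = S ∧
    MulAut.conj g • V = B ∧ MulAut.conj g • B = V ∧ (L9 x u c (0, 1) (2, 0) ∧ L9 x u g (1, 2) (0, 2) ∨
      L9 x u c (0, 1) (1, 0) ∧ L9 x u g (1, 2) (2, 2)) := by
  obtain ⟨c, c1, c2, c3, c4⟩ := h.exists_swap n
  obtain ⟨g, g1, g2, g3, g4⟩ := h.exists_swap' n
  refine ⟨c, g, c1, c2, c3, g1, g2, g3, ?_⟩
  rcases c4 with c4 | c4 <;> rcases g4 with ⟨g4, -⟩ | g4
  · have h1 := c4.mul g4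
    have h2 := h.pow3 (g := c * g) (by rw [mul_smul, g1, c1]) le_rfl (by
      rw [pow_three]; exact h.mem_of_l9 n (h1.mul (h1.mul h1)))
    have h3 := h1.cx
    rw [(h.comm_syl h2 n.b.hx).eq, mul_inv_cancel_right] at h3
    exact absurd (n.b.ee_inj ((ee_x x u).trans h3)) (by decide)
  · exact .inr ⟨c4, g4⟩
  · exact .inl ⟨c4, g4⟩
  · have h1 := mem_normalizer_iff_conj_smul_eq.mp (h.norm_of_neg n.k (n.b.neg (((g4.mul c4).inv (1, 1) (1, 2)).mul
      (c4.mul g4))))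
    rw [← conj_smul_conj_smul, map_inv, inv_smul_eq_iff, ← conj_smul_conj_smul, ← conj_smul_conj_smul, c2, g2] at h1
    have h2 := h.not_square n (n.c.conj c1) (c2 ▸ adj_conj n.hB c) (h1 ▸ g2 ▸ adj_conj n.hA g)
    exact absurd (smul_left_cancel _ (c3.trans h2.symm)) (h.ne n.a n.c n.b.third)

end N23

end Cfsg.Agent.Mat
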