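import Cfsg.Agent.Mat.M23A

/-! Order statistics of a group with the order and same-order counts of `M24`. -/

set_option autoImplicit false
set_option linter.unusedSectionVars false

namespace Cfsg.Agent.Mat

open Subgroup MulAction Cfsg.Agent.M11

variable {G : Type*} [Group G] [Finite G]

theorem eq_of_sum {S : Finset ℕ} {f : ℕ → ℕ} (hf : ∀ c ∈ S, c = mo G (f c)) (hG : Nat.card G = ∑ c ∈ S, c)
    {n : ℕ} (hn : mo G n ≠ 0) : ∃ c ∈ S, f c = n := by
  classical
  have h2 := ncard_eq_sum_mo (G := G) (S.image f)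
  rw [Finset.sum_image fun a ha b hb e => by rw [hf a ha, hf b hb, e],
    Finset.sum_congr rfl fun c hc => (hf c hc).symm, ← hG, ← Set.ncard_univ] at h2
  obtain ⟨g, rfl⟩ := exists_ord hn
  exact Finset.mem_image.mp ((Set.eq_of_subset_of_ncard_le (Set.subset_univ _) h2.ge).ge (Set.mem_univ g))

theorem mo_modEq {p : ℕ} (hp : p.Prime) {y : G} (hy : orderOf y = p) (n : ℕ) :
    mo G n % p = {u | orderOf u = n ∧ Commute u y}.ncard % p :=
  ncard_modEq_commute hp hy (X := {u | orderOf u = n}) fun u hu r _ => (orderOf_conj' r u).trans hu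

/-- The element orders. -/
def sp24 : Finset ℕ := {1, 2, 3, 4, 5, 6, 7, 8, 10, 11, 12, 14, 15, 21, 23}

/-- The order statistics. -/
structure N24 (G : Type*) [Group G] : Prop where
  card : Nat.card G = 244823040
  spec : ∀ g : G, orderOf g ∈ sp24
  m2 : mo G 2 = 43263
  m3 : mo G 3 = 712448
  m5 : mo G 5 = 4080384
  m7 : mo G 7 = 11658240
  m10 : mo G 10 = 12241152
  m14 : mo G 14 = 34974720
  m15 : mo G 15 = 32643072
  m21 : mo G 21 = 23316480
  m612 : mo G 6 + mo G 12 = 61205760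

/-- The values left for the remaining orders. -/
def v24 : List ℕ := [0, 5100480, 15301440, 20401920, 40803840]

theorem arith24a : ∀ a ∈ v24, ∀ b ∈ v24, ∀ c ∈ v24, ∀ d ∈ v24, ∀ e ∈ v24, (a = 0 → b = 0) → (b = 0 → c = 0) →
    (c = 0 → d = 0) → (d = 0 → e = 0) → (b = 0 ∨ b ≠ a) → (c = 0 ∨ c ≠ a ∧ c ≠ b) →
    (d = 0 ∨ d ≠ a ∧ d ≠ b ∧ d ≠ c) → (e = 0 ∨ e ≠ a ∧ e ≠ b ∧ e ≠ c ∧ e ≠ d) → e = 0 ∧
      (1024 ∣ 43264 + (a + (b + (c + d))) → b = 0 ∧ a = 20401920 ∨ a + b = 20401920 ∧ a ≠ 0 ∧ b ≠ 0) := by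
  decide +kernel

set_option synthInstance.maxSize 1000 in
theorem arith24b : ∀ a ∈ v24, ∀ b ∈ v24, ∀ c ∈ v24, ∀ d ∈ v24, ∀ e ∈ v24,
    (b = 0 ∧ a = 20401920 ∨ a + b = 20401920 ∧ a ≠ 0 ∧ b ≠ 0) → (b = 0 → e = 0) → (d = 0 → e = 0) →
    (c = 0 → d = 0) → (c = 0 ∨ c ≠ a ∧ c ≠ b) → (d = 0 ∨ d ≠ a ∧ d ≠ b ∧ d ≠ c) →
    (e = 0 ∨ e ≠ a ∧ e ≠ b ∧ e ≠ c ∧ e ≠ d) → e = 0 ∧ (1024 ∣ 712448 + (c + d) → c + d = 61205760 ∧
      ∀ k ∈ v24, k = 0 ∨ k = a ∨ k = b ∨ k = c ∨ k = d) := by
  decide +kernel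

theorem n24_of_nse (hG : Nat.card G = 244823040) (h : ∀ c, (0 < c ∧ ∃ n, c = mo G n) ↔
    c ∈ ({1, 43263, 712448, 5100480, 4080384, 20401920, 11658240, 15301440, 12241152, 22256640, 40803840, 34974720,
      32643072, 23316480, 21288960} : Finset ℕ)) : N24 G := by
  classical
  have h1 : ∀ c ∈ ({1, 43263, 712448, 5100480, 4080384, 20401920, 11658240, 15301440, 12241152, 22256640, 40803840,
    34974720, 32643072, 23316480, 21288960} : Finset ℕ), ∃ n, c = mo G n := fun c hc => ((h c).mpr hc).2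
  choose! f hf using h1
  have hv : ∀ n, mo G n = 0 ∨ mo G n = 1 ∨ mo G n = 43263 ∨ mo G n = 712448 ∨ mo G n = 5100480 ∨ mo G n = 4080384 ∨
      mo G n = 20401920 ∨ mo G n = 11658240 ∨ mo G n = 15301440 ∨ mo G n = 12241152 ∨ mo G n = 22256640 ∨
      mo G n = 40803840 ∨ mo G n = 34974720 ∨ mo G n = 32643072 ∨ mo G n = 23316480 ∨ mo G n = 21288960 := fun n => by
    rcases Nat.eq_zero_or_pos (mo G n) with h0 | h0
    · exact .inl h0
    · exact .inr (by simpa using (h _).mp ⟨h0, n, rfl⟩)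
  have hne : ∀ a b, a ≠ b → mo G a = 0 ∨ mo G a ≠ mo G b := fun a b hab => by
    by_contra! hn
    obtain ⟨c, hc, rfl⟩ := eq_of_sum hf (by rw [hG]; decide) hn.1
    obtain ⟨d, hd, rfl⟩ := eq_of_sum hf (by rw [hG]; decide) (hn.2 ▸ hn.1)
    exact hab (by rw [hf c hc, hn.2, ← hf d hd])
  have m1 : mo G 1 = 1 := by simp [mo]
  have m2 : mo G 2 = 43263 := by
    rcases le_two_of_odd_mo (G := G) (n := f 43263) (by rw [← hf 43263 (by decide)]) with e | e
    · have := hf 43263 (by decide)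
      rw [e, m1] at this
      omega
    · exact e ▸ (hf 43263 (by decide)).symm
  have F := fun (p : ℕ) (hp : p.Prime) a (ha : p ^ a ∣ 244823040) => pow_dvd_sum_mo (G := G) hp (hG ▸ ha)
  have p23 : Nat.Prime 23 := by decide
  have f3 := F 3 Nat.prime_three 1 (by decide)
  have f5 := F 5 Nat.prime_five 1 (by decide)
  have f7 := F 7 Nat.prime_seven 1 (by decide)
  have f11 := F 11 Nat.prime_eleven 1 (by decide)
  have f23 := F 23 p23 1 (by decide)
  have f2 := F 2 Nat.prime_two 10 (by decide)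
  have g2 := pow_dvd_sum_iv (A := 10) (m := 239085) Nat.prime_two hG (by decide) (X := ordS G 3) conj_mem_ordS
  rw [sum_iv (by decide) (by decide) (by decide)] at g2
  rw [show Nat.divisors (3 ^ 1) = {1, 3} by decide] at f3
  rw [show Nat.divisors (5 ^ 1) = {1, 5} by decide] at f5
  rw [show Nat.divisors (7 ^ 1) = {1, 7} by decide] at f7
  rw [show Nat.divisors (11 ^ 1) = {1, 11} by decide] at f11
  rw [show Nat.divisors (23 ^ 1) = {1, 23} by decide] at f23
  rw [show Nat.divisors (2 ^ 10) = {1, 2, 4, 8, 16, 32, 64, 128, 256, 512, 1024} by decide +kernel] at f2 g2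
  simp only [Finset.mem_insert, Finset.mem_singleton, Finset.sum_insert, Finset.sum_singleton,
    Nat.reduceEqDiff, or_self, not_false_eq_true, m1, Nat.reducePow, Nat.reduceMul] at f3 f5 f7 f11 f23 f2 g2
  have m3 : mo G 3 = 712448 := by have := hv 3; clear * - this f3; omega
  have m5 : mo G 5 = 4080384 := by have := hv 5; clear * - this f5; omega
  have m7 : mo G 7 = 11658240 := by have := hv 7; clear * - this f7; omega
  have m11 : mo G 11 = 22256640 := by have := hv 11; clear * - this f11; omega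
  have m23 : mo G 23 = 21288960 := by have := hv 23; clear * - this f23; omega
  have := Fact.mk Nat.prime_five
  have := Fact.mk Nat.prime_seven
  obtain ⟨y5, o5⟩ := exists_ord (m5.trans_ne (by decide))
  obtain ⟨y7, o7⟩ := exists_ord (m7.trans_ne (by decide))
  have k5 := fun a ha h0 => mo_mul_prime (p := 5) (m := 48964608) hG (by decide) (a := a) ha h0 o5
  have k7 := fun a ha h0 => mo_mul_prime (p := 7) (m := 34974720) hG (by decide) (a := a) ha h0 o7
  have hle : ∀ n, mo G n ≤ 40803840 := fun n => by have := hv n; clear * - this; omega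
  have m14 : mo G (2 * 7) = 34974720 := by
    have h1 := k7 2 (by decide) (by decide)
    have h2 := mo_modEq Nat.prime_seven o7 2
    have h3 := hle (2 * 7)
    rw [m7] at h1; rw [m2] at h2
    clear * - h1 h2 h3
    omega
  have m21 : mo G (3 * 7) = 23316480 := by
    have h1 := k7 3 (by decide) (by decide)
    have h2 := mo_modEq Nat.prime_seven o7 3
    have h3 := hle (3 * 7)
    rw [m7] at h1; rw [m3] at h2
    clear * - h1 h2 h3
    omega
  have m15 : mo G (3 * 5) = 32643072 := by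
    have h1 := k5 3 (by decide) (by decide)
    have h2 := mo_modEq Nat.prime_five o5 3
    have h3 := hle (3 * 5)
    have h4 := totient_dvd_comm y5 3
    rw [m5] at h1; rw [m3] at h2; rw [show Nat.totient 3 = 2 by decide] at h4
    clear * - h1 h2 h3 h4
    omega
  have m10 : mo G (2 * 5) = 12241152 := by
    have h1 := k5 2 (by decide) (by decide)
    have h2 := mo_modEq Nat.prime_five o5 2
    have h3 := hle (2 * 5)
    have h4 := hne (2 * 5) (3 * 5) (by decide)
    rw [m5] at h1; rw [m2] at h2; rw [m15] at h4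
    clear * - h1 h2 h3 h4
    omega
  have hw : ∀ n, n ∉ ({1, 2, 3, 5, 7, 10, 11, 14, 15, 21, 23} : Finset ℕ) → mo G n ∈ v24 := fun n hn => by
    simp only [Finset.mem_insert, Finset.mem_singleton, not_or] at hn
    obtain ⟨n1, n2, n3, n5, n7, n10, n11, n14, n15, n21, n23⟩ := hn
    have e1 := hne n 1 n1
    have e2 := hne n 2 n2
    have e3 := hne n 3 n3
    have e5 := hne n 5 n5
    have e7 := hne n 7 n7
    have e10 := hne n (2 * 5) n10
    have e11 := hne n 11 n11
    have e14 := hne n (2 * 7) n14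
    have e15 := hne n (3 * 5) n15
    have e21 := hne n (3 * 7) n21
    have e23 := hne n 23 n23
    have e := hv n
    rw [m1] at e1; rw [m2] at e2; rw [m3] at e3; rw [m5] at e5; rw [m7] at e7; rw [m10] at e10; rw [m11] at e11
    rw [m14] at e14; rw [m15] at e15; rw [m21] at e21; rw [m23] at e23
    simp only [v24, List.mem_cons, List.not_mem_nil, or_false]
    generalize mo G n = k at e e1 e2 e3 e5 e7 e10 e11 e14 e15 e21 e23
    clear * - e e1 e2 e3 e5 e7 e10 e11 e14 e15 e21 e23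
    omega
  have z : ∀ n d, d ∣ n → mo G d = 0 → mo G n = 0 := fun n d hd h0 =>
    by_contra fun hn => mo_ne_zero_of_dvd hn hd h0
  have n2 : ∀ a b c, a ≠ b → a ≠ c → mo G a = 0 ∨ mo G a ≠ mo G b ∧ mo G a ≠ mo G c := fun a b c h1 h2 =>
    or_and_left.mpr ⟨hne a b h1, hne a c h2⟩
  have n3 : ∀ a b c d, a ≠ b → a ≠ c → a ≠ d → mo G a = 0 ∨ mo G a ≠ mo G b ∧ mo G a ≠ mo G c ∧ mo G a ≠ mo G d :=
    fun a b c d h1 h2 h3 => or_and_left.mpr ⟨hne a b h1, n2 a c d h2 h3⟩
  have n4 : ∀ a b c d e, a ≠ b → a ≠ c → a ≠ d → a ≠ e →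
      mo G a = 0 ∨ mo G a ≠ mo G b ∧ mo G a ≠ mo G c ∧ mo G a ≠ mo G d ∧ mo G a ≠ mo G e :=
    fun a b c d e h1 h2 h3 h4 => or_and_left.mpr ⟨hne a b h1, n3 a c d e h2 h3 h4⟩
  obtain ⟨a1, a2⟩ := arith24a _ (hw 4 (by decide)) _ (hw 8 (by decide)) _ (hw 16 (by decide)) _ (hw 32 (by decide))
    _ (hw 64 (by decide)) (z 8 4 (by decide)) (z 16 8 (by decide)) (z 32 16 (by decide)) (z 64 32 (by decide))
    (hne 8 4 (by decide)) (n2 16 4 8 (by decide) (by decide)) (n3 32 4 8 16 (by decide) (by decide) (by decide))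
    (n4 64 4 8 16 32 (by decide) (by decide) (by decide) (by decide))
  rw [m2, a1, z 128 64 (by decide) a1, z 256 64 (by decide) a1, z 512 64 (by decide) a1,
    z 1024 64 (by decide) a1] at f2
  obtain ⟨b1, b2⟩ := arith24b _ (hw 4 (by decide)) _ (hw 8 (by decide)) _ (hw 6 (by decide)) _ (hw 12 (by decide))
    _ (hw 24 (by decide)) (a2 (by simpa [← add_assoc] using f2)) (z 24 8 (by decide)) (z 24 12 (by decide))
    (z 12 6 (by decide)) (n2 6 4 8 (by decide) (by decide)) (n3 12 4 8 6 (by decide) (by decide) (by decide))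
    (n4 24 4 8 6 12 (by decide) (by decide) (by decide) (by decide))
  rw [m3, b1, z 48 24 (by decide) b1, z 96 24 (by decide) b1, z 192 24 (by decide) b1, z 384 24 (by decide) b1,
    z 768 24 (by decide) b1, z 1536 24 (by decide) b1, z 3072 24 (by decide) b1] at g2
  obtain ⟨b3, b4⟩ := b2 (by simpa using g2)
  refine ⟨hG, fun g => by_contra fun hn => ?_, m2, m3, m5, m7, m10, m14, m15, m21, b3⟩
  simp only [sp24, Finset.mem_insert, Finset.mem_singleton, not_or] at hn
  have h7 := b4 _ (hw (orderOf g) (by simp [hn]))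
  have h8 := n4 (orderOf g) 4 8 6 12 hn.2.2.2.1 hn.2.2.2.2.2.2.2.1 hn.2.2.2.2.2.1 hn.2.2.2.2.2.2.2.2.2.2.1
  have h9 := mo_ne_zero g
  tauto

end Cfsg.Agent.Mat
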