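import Cfsg.Agent.Mat.M24A
import Cfsg.Agent.Mat.Gen4

/-! Centralizers of elements of order 5 and 7. -/

set_option autoImplicit false
set_option linter.unusedSectionVars false

namespace Cfsg.Agent.Mat

open Subgroup MulAction Cfsg.Agent.M11 Cfsg.Agent.Local
open scoped Pointwise

variable {G : Type*} [Group G] [Finite G]

/-- The number of elements of order `n` in a centralizer. -/
noncomputable def kk (n : ℕ) (x : G) : ℕ := {u | orderOf u = n ∧ Commute u x}.ncard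

theorem kk_conj (n : ℕ) (c x : G) : kk n (c * x * c⁻¹) = kk n x :=
  ncard_conj (P := fun u x => orderOf u = n ∧ Commute u x)
    (fun c u _ h => ⟨(orderOf_conj' c u).trans h.1, commute_conj c h.2⟩) c x

theorem kk_inv (n : ℕ) (x : G) : kk n x⁻¹ = kk n x := by simp only [kk, Commute.inv_right_iff]

theorem kk_zero {n : ℕ} {x : G} (h : ¬ n ∣ cc x) : kk n x = 0 :=
  (Set.ncard_eq_zero (Set.toFinite _)).mpr (Set.eq_empty_of_forall_notMem fun _ hu => h (hu.1 ▸ orderOf_dvd_cc hu.2))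

theorem mem_cent_zpowers {s u : G} : u ∈ centralizer (zpowers s : Set G) ↔ Commute u s :=
  ⟨fun h => (h s (mem_zpowers s)).symm, fun h => by rintro _ ⟨k, rfl⟩; exact (h.zpow_right k).symm⟩

theorem comm_of_norm {r s u : G} (hr : r ∈ normalizer (zpowers s : Set G)) (hu : Commute u s) :
    Commute (r * u * r⁻¹) s :=
  mem_cent_zpowers.mp (conj_mem_of_mem_normalizer (normalizer_le_normalizer_centralizer _ hr) (mem_cent_zpowers.mpr hu))

theorem nn_mul_kk {a b : ℕ} (h : a.Coprime b) (h0 : 0 < a * b) {x : G} (hx : orderOf x = b)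
    (h1 : ∀ w, orderOf w = b → a ∣ cc w → Rt x w) : nn x * kk a x = mo G (a * b) := by
  rw [mo_mul h h0]
  refine ((cls_ordS b).sum (mem_ordS.mpr hx) (kk_conj a) (kk_inv a)).symm ▸ ?_
  rw [Finset.sum_eq_zero fun w hw => kk_zero fun e => (mem_rm.mp hw).2 (h1 w (mem_ordS.mp (mem_rm.mp hw).1) e),
    add_zero]

theorem dvd_kk {p : ℕ} (hp : p.Prime) {x : G} (h : p ∣ cc x) : p ∣ kk p x + 1 := iv_prime hp x ▸ dvd_iv hp h

theorem comm_of_sq_conj {a y : G} (ha : orderOf a = 3) (h : a * y * a⁻¹ = y ∨ a * y * a⁻¹ = y⁻¹) : Commute a y := by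
  rcases h with e | e
  · exact mul_inv_eq_iff_eq_mul.mp e
  · have := (comm_of_inv e e).pow_left 2
    rwa [← pow_two, ← pow_mul, pow_succ, ← ha, pow_orderOf_eq_one, one_mul] at this

instance factFive : Fact (Nat.Prime 5) := ⟨Nat.prime_five⟩

instance factSeven : Fact (Nat.Prime 7) := ⟨Nat.prime_seven⟩

/-- The configuration inside the normalizer of a Sylow 7-subgroup. -/
structure B7 (y a z : G) : Prop where
  b : B9 y a
  oz : orderOf z = 2
  zy : z * y * z⁻¹ = y⁻¹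
  za : Commute z a
  y7 : 7 ∣ cc y
  z7 : 7 ∣ cc z

theorem B7.conj {y a z : G} (k : B7 y a z) (g : G) : B7 (g * y * g⁻¹) (g * a * g⁻¹) (g * z * g⁻¹) :=
  ⟨k.b.conj g, (orderOf_conj' g z).trans k.oz, by rw [conj_inv (a := y), ← k.zy]; group, commute_conj g k.za,
    (cc_conj g y).symm ▸ k.y7, (cc_conj g z).symm ▸ k.z7⟩

namespace N24

variable (h : N24 G) {f s x y z u w : G}
include h

theorem nc {a b : G} {m n : ℕ} (hc : Commute a b) (ha : orderOf a = m) (hb : orderOf b = n) (hmn : m.Coprime n) :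
    m * n ∈ sp24 := by
  have := h.spec (a * b)
  rwa [hc.orderOf_mul_eq_mul_orderOf_of_coprime (by rwa [ha, hb]), ha, hb] at this

theorem not_dvd {p n : ℕ} (hx : orderOf x = n) (hp : p.Prime := by decide) (h1 : p.Coprime n := by decide)
    (h2 : p * n ∉ sp24 := by decide) : ¬ p ∣ cc x :=
  (Nat.Prime.coprime_iff_not_dvd hp).mp (coprime_cc h.spec hp (hx ▸ h1) (hx ▸ h2)).symm

theorem kk0 {m n : ℕ} (hx : orderOf x = n) (h1 : m.Coprime n := by decide) (h2 : m * n ∉ sp24 := by decide) :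
    kk m x = 0 :=
  (Set.ncard_eq_zero (Set.toFinite _)).mpr (Set.eq_empty_of_forall_notMem fun _ hu => h2 (h.nc hu.2 hu.1 hx h1))

theorem mo_zero {n : ℕ} (hn : n ∉ sp24 := by decide) : mo G n = 0 :=
  by_contra fun e => by obtain ⟨x, rfl⟩ := exists_ord e; exact hn (h.spec x)

theorem card_syl (S : Sylow 3 G) : Nat.card S = 27 := card_sylow_eq S 3 9067520 h.card (by decide)

theorem cube' (hx : x ^ 27 = 1) : x ^ 3 = 1 :=
  orderOf_dvd_iff_pow_eq_one.mp ((by decide : ∀ n ∈ sp24, n ∣ 27 → n ∣ 3) _ (h.spec x) (orderOf_dvd_of_pow_eq_one hx))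

theorem cube {S : Sylow 3 G} (hx : x ∈ S) : x ^ 3 = 1 :=
  h.cube' (orderOf_dvd_iff_pow_eq_one.mp (h.card_syl S ▸ orderOf_dvd_natCard _ hx))

theorem ord_syl {S : Sylow 3 G} (hx : x ∈ S) (h1 : x ≠ 1) : orderOf x = 3 := orderOf_eq_prime (h.cube hx) h1

theorem cc_dvd' (hx : orderOf x = 2 ∨ orderOf x = 3) : cc x ∣ 2 ^ 10 * 27 * 5 ^ 1 * 7 ^ 1 :=
  dvd_of_not 1 Nat.prime_eleven (hx.elim (h.not_dvd ·) (h.not_dvd ·)) (dvd_of_not (p := 23) 1 (by decide)
    (hx.elim (h.not_dvd ·) (h.not_dvd ·)) ((cc_dvd x).trans h.card.dvd))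

theorem nine_dvd (hx : orderOf x = 3) : 9 ∣ cc x := nine_dvd_cc (h.card ▸ by decide) hx

theorem k7 {a : ℕ} (hs : orderOf s = 7) (ha : a.Coprime 7 := by decide) (h0 : 0 < a := by decide) :
    mo G (a * 7) = 11658240 * kk a s := h.m7 ▸ mo_mul_prime (m := 34974720) h.card (by decide) ha h0 hs

theorem k5 {a : ℕ} (hs : orderOf s = 5) (ha : a.Coprime 5 := by decide) (h0 : 0 < a := by decide) :
    mo G (a * 5) = 4080384 * kk a s := h.m5 ▸ mo_mul_prime (m := 48964608) h.card (by decide) ha h0 hs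

theorem k27 (hs : orderOf s = 7) : kk 2 s = 3 := by have := h.k7 (a := 2) hs; rw [h.m14] at this; omega

theorem k37 (hs : orderOf s = 7) : kk 3 s = 2 := by have := h.k7 (a := 3) hs; rw [h.m21] at this; omega

theorem k25 (hs : orderOf s = 5) : kk 2 s = 3 := by have := h.k5 (a := 2) hs; rw [h.m10] at this; omega

theorem k35 (hs : orderOf s = 5) : kk 3 s = 8 := by have := h.k5 (a := 3) hs; rw [h.m15] at this; omega

theorem two7 (hs : orderOf s = 7) (hy : orderOf y = 3) (hc : Commute y s) (hu : orderOf u = 3) (hc' : Commute u s) :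
    u = y ∨ u = y⁻¹ :=
  (Set.eq_of_subset_of_ncard_le (s := {y, y⁻¹}) (t := {u | orderOf u = 3 ∧ Commute u s}) (by
    rintro _ (rfl | rfl)
    exacts [⟨hy, hc⟩, ⟨(orderOf_inv y).trans hy, hc.inv_left⟩])
    (by rw [Set.ncard_pair (ne_inv_of_three hy)]; exact (h.k37 hs).le)).ge ⟨hu, hc'⟩

theorem ex7 (hs : orderOf s = 7) : ∃ y z, orderOf y = 3 ∧ Commute y s ∧ orderOf z = 2 ∧ Commute z s := by
  obtain ⟨y, hy⟩ := Set.nonempty_of_ncard_ne_zero ((h.k37 hs).trans_ne (by decide))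
  obtain ⟨z, hz⟩ := Set.nonempty_of_ncard_ne_zero ((h.k27 hs).trans_ne (by decide))
  exact ⟨y, z, hy.1, hy.2, hz⟩

theorem inv7 (hs : orderOf s = 7) (hy : orderOf y = 3) (hc : Commute y s) (hz : orderOf z = 2) (hc' : Commute z s) :
    z * y * z⁻¹ = y⁻¹ := by
  refine (h.two7 hs hy hc ((orderOf_conj' z y).trans hy) ((hc'.mul_left hc).mul_left hc'.inv_left)).resolve_left
    fun e => absurd (h.nc (hc.mul_right (mul_inv_eq_iff_eq_mul.mp e).symm) hy (n := 14) ?_ (by decide)) (by decide)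
  rw [hc'.symm.orderOf_mul_eq_mul_orderOf_of_coprime (by rw [hs, hz]; decide), hs, hz]

theorem card_N7 (hs : orderOf s = 7) : Nat.card (normalizer (zpowers s : Set G)) = 126 := by
  obtain ⟨P, hP⟩ := exists_sylow_mem hs
  have h1 := card_normalizer_mul P
  have h2 := mo_prime (p := 7) (m := 34974720) h.card (by decide)
  rw [← eq_zpowers_of_card (card_syl_prime (m := 34974720) h.card (by decide) P) hs hP, h.card] at h1
  rw [h.m7] at h2
  rw [show Nat.card (Sylow 7 G) = 1943040 by omega] at h1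
  omega

theorem cc7 (hs : orderOf s = 7) : cc s = 42 := by
  have h1 : cc s ∣ 126 := cc_dvd_of_prime (m := 34974720) h.card (by decide) hs (by rw [h.m7, h.card])
  obtain ⟨y, z, hy, c1, hz, c2⟩ := h.ex7 hs
  have h2 := hy ▸ orderOf_dvd_cc c1
  have h3 := hz ▸ orderOf_dvd_cc c2
  have h4 := hs ▸ orderOf_dvd_cc (Commute.refl s)
  have h5 : ¬ 9 ∣ cc s := fun e => by
    obtain ⟨K, -, k1, k2⟩ := Pres.exists_le_card_pow_succ (p := 3) (k := 1) (H := centralizer {s}) (P := zpowers y)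
      (zpowers_le.mpr (mem_centralizer_singleton_iff.mpr c1)) (by rw [Nat.card_zpowers, hy]; rfl) e
    have := Set.ncard_le_ncard (s := (K : Set G) \ {1}) (t := {u | orderOf u = 3 ∧ Commute u s}) fun u hu =>
      ⟨orderOf_eq_prime (h.cube' (orderOf_dvd_iff_pow_eq_one.mp ((k2 ▸ orderOf_dvd_natCard _ hu.1).trans (by decide))))
        hu.2, mem_centralizer_singleton_iff.mp (k1 hu.1)⟩
    rw [Set.ncard_sdiff_singleton_of_mem (one_mem _), ncard_coe, k2] at this
    exact absurd (this.trans (h.k37 hs).le) (by decide)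
  revert h2 h3 h4 h5
  exact (by decide +kernel : ∀ d ∈ Nat.divisors 126, 3 ∣ d → 2 ∣ d → 7 ∣ d → ¬ 9 ∣ d → d = 42) _
    (Nat.mem_divisors.mpr ⟨h1, by decide⟩)

theorem exists_a (hs : orderOf s = 7) (hz : orderOf z = 2) (hc : Commute z s) :
    ∃ a, orderOf a = 3 ∧ Commute a z ∧ a ∈ normalizer (zpowers s : Set G) ∧ ¬ Commute a s := by
  have h1 := card_clR (normalizer (zpowers s : Set G)) z
  have h2 := Set.ncard_le_ncard (s := clR (normalizer (zpowers s : Set G)) z) (t := {u | orderOf u = 2 ∧ Commute u s})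
    (by rintro _ ⟨r, hr, rfl⟩; exact ⟨(orderOf_conj' r z).trans hz, comm_of_norm hr hc⟩)
  have h3 := h2.trans (h.k27 hs).le
  rw [h.card_N7 hs] at h1
  obtain ⟨a, ha, h4⟩ := exists_mem_of_prime_dvd (R := normalizer (zpowers s : Set G) ⊓ centralizer {z})
    Nat.prime_three (by
      generalize Set.ncard _ = k at h1 h3
      interval_cases k <;> omega)
  have c : Commute a z := mem_centralizer_singleton_iff.mp (mem_inf.mp ha).2
  exact ⟨a, h4, c, (mem_inf.mp ha).1, fun e => ne_inv_of_three h4 (by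
    rw [← h.inv7 hs h4 e hz hc, ← c.eq, mul_inv_cancel_right])⟩

theorem not_real7 (hs : orderOf s = 7) : ¬ IsConj s s⁻¹ := fun e => by
  obtain ⟨g, hg⟩ := isConj_iff.mp e
  have h1 := card_clR (normalizer (zpowers s : Set G)) s
  rw [h.card_N7 hs, inf_eq_right.mpr (fun r hr => centralizer_le_normalizer _
    (mem_cent_zpowers.mpr (mem_centralizer_singleton_iff.mp hr))), ← cc, h.cc7 hs] at h1
  have h2 : g ∈ normalizer (zpowers s : Set G) := mem_normalizer_of_conj_mem (by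
    rintro _ ⟨k, rfl⟩
    rw [← conj_zpow, hg]
    exact zpow_mem (inv_mem (mem_zpowers s)) k)
  have h3 := dvd_ncard_of_fibers (Set.toFinite (clR (normalizer (zpowers s : Set G)) s)) (fun w => ({w, w⁻¹} : Set G))
    (d := 2) (by
      rintro _ ⟨r, hr, rfl⟩
      have h4 : r * s * r⁻¹ ≠ (r * s * r⁻¹)⁻¹ := fun e => absurd (orderOf_dvd_of_pow_eq_one
        ((pow_two _).trans (mul_eq_one_iff_eq_inv.mpr e))) (by rw [orderOf_conj', hs]; decide)
      rw [← Set.ncard_pair h4]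
      refine (congrArg Set.ncard (Set.ext fun w => ⟨fun hw => hw.2.le (.inl rfl), ?_⟩)).symm.dvd
      rintro (rfl | rfl)
      exacts [⟨⟨r, hr, rfl⟩, rfl⟩, ⟨⟨r * g, mul_mem hr h2, by rw [conj_inv, ← hg]; group⟩, by
        rw [inv_inv, Set.pair_comm]⟩])
  omega

theorem exists_b7 : ∃ y a z : G, B7 y a z := by
  obtain ⟨s, hs⟩ := exists_ord (h.m7.trans_ne (by decide))
  obtain ⟨y, z, hy, c1, hz, c2⟩ := h.ex7 hs
  obtain ⟨a, ha, c3, h1, -⟩ := h.exists_a hs hz c2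
  have h2 := h.inv7 hs hy c1 hz c2
  refine ⟨y, a, z, ⟨hy, ha ▸ pow_orderOf_eq_one a, (comm_of_sq_conj ha (h.two7 hs hy c1 ((orderOf_conj' a y).trans hy)
    (comm_of_norm h1 c1))).symm, fun e => ?_⟩, hz, h2, c3.symm, hs ▸ orderOf_dvd_cc c1.symm,
    hs ▸ orderOf_dvd_cc c2.symm⟩
  obtain ⟨k, rfl⟩ := e
  refine ne_inv_of_three ha ?_
  rw [← inv_zpow, ← h2, conj_zpow, ← c3.eq, mul_inv_cancel_right]

theorem realB (hy : orderOf y = 3) (h7 : 7 ∣ cc y) : IsConj y y⁻¹ := by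
  obtain ⟨s, hs, hc⟩ := exists_of_prime_dvd_cc Nat.prime_seven h7
  obtain ⟨-, z, -, -, hz, c2⟩ := h.ex7 hs
  exact isConj_iff.mpr ⟨z, h.inv7 hs hy hc.symm hz c2⟩

theorem exists_conj7 (h1 : 7 ∣ cc x) (h2 : 7 ∣ cc y) : ∃ s c, orderOf s = 7 ∧ Commute (c * x * c⁻¹) s ∧ Commute y s := by
  obtain ⟨a, ha, hc⟩ := exists_of_prime_dvd_cc Nat.prime_seven h1
  obtain ⟨b, hb, hc'⟩ := exists_of_prime_dvd_cc Nat.prime_seven h2
  obtain ⟨c, e⟩ := exists_conj_zpowers (m := 34974720) h.card (by decide) ha hb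
  obtain ⟨k, hk⟩ := e.le (mem_zpowers b)
  exact ⟨b, c, hb, hk ▸ (commute_conj c hc.symm).zpow_right k, hc'.symm⟩

theorem conjB (hy : orderOf y = 3) (h7 : 7 ∣ cc y) (hw : orderOf w = 3) (h7' : 7 ∣ cc w) : IsConj y w := by
  obtain ⟨s, c, hs, c1, c2⟩ := h.exists_conj7 h7 h7'
  refine Rt.isConj ?_ (h.realB hy h7)
  rcases h.two7 hs ((orderOf_conj' c y).trans hy) c1 hw c2 with rfl | rfl
  exacts [(Rt.refl y).conj c, .inr (isConj_iff.mpr ⟨c, (conj_inv).symm⟩)]

theorem nnB (hy : orderOf y = 3) (h7 : 7 ∣ cc y) : nn y * cc y = 244823040 :=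
  ((nn_cases y).resolve_right fun e => e.1 (h.realB hy h7)).2.trans h.card

theorem kkB (hy : orderOf y = 3) (h7 : 7 ∣ cc y) : nn y * kk 7 y = 23316480 :=
  (nn_mul_kk (by decide) (by decide) hy fun _ hw e => .inl (h.conjB hy h7 hw e)).trans h.m21

theorem ccB (hy : orderOf y = 3) (h7 : 7 ∣ cc y) : ∃ n, cc y = 63 * n ∧ n % 7 = 1 := by
  have h1 := h.nnB hy h7
  have h2 := h.kkB hy h7
  have h3 := dvd_kk Nat.prime_seven h7
  obtain ⟨n, hn⟩ : 6 ∣ kk 7 y := (by decide : Nat.totient 7 = 6) ▸ totient_dvd_comm y 7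
  have h4 : nn y * cc y = nn y * (63 * n) := by
    rw [hn, mul_left_comm] at h2
    rw [mul_left_comm]
    omega
  exact ⟨n, Nat.eq_of_mul_eq_mul_left (Nat.pos_of_ne_zero fun e => by simp [e] at h1) h4, by omega⟩

theorem conj2_7 (hz : orderOf z = 2) (h7 : 7 ∣ cc z) (hw : orderOf w = 2) (h7' : 7 ∣ cc w) : IsConj z w := by
  obtain ⟨s, c, hs, c1, c2⟩ := h.exists_conj7 h7 h7'
  obtain ⟨d, -, e⟩ := exists_conj_involution (H := centralizer {s}) (m := 21) (h.cc7 hs) (by decide)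
    (mem_centralizer_singleton_iff.mpr c1) (mem_centralizer_singleton_iff.mpr c2) ((orderOf_conj' c z).trans hz) hw
  exact isConj_iff.mpr ⟨d * c, by rw [← e]; group⟩

theorem four5 (hf : orderOf f = 5) : ∃ T : Subgroup G, Nat.card T = 4 ∧ (∀ u, u ∈ T ↔ u ^ 2 = 1 ∧ Commute u f) ∧
    cc f = 60 := by
  have h1 : cc f ∣ 240 := cc_dvd_of_prime (m := 48964608) h.card (by decide) hf (by rw [h.m5, h.card])
  have h2 : 60 ≤ cc f := le_cc_of_mo (by rw [hf, h.m5, h.card])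
  obtain ⟨T, hT⟩ := exists_isSylowIn 2 (centralizer {f})
  have h3 : (T : Set G) ⊆ {u | u ^ 2 = 1 ∧ Commute u f} := fun u hu => by
    have c : Commute u f := mem_centralizer_singleton_iff.mp (hT.le hu)
    obtain ⟨k, hk⟩ := IsPGroup.iff_card.mp hT.isPGroup
    have h3 := Nat.Coprime.of_dvd_left (hk ▸ orderOf_dvd_natCard _ hu) (Nat.Coprime.pow_left k (by decide : Nat.Coprime 2 15))
    exact ⟨orderOf_dvd_iff_pow_eq_one.mp ((by decide : ∀ n ∈ sp24, n.Coprime 15 → n * 5 ∈ sp24 → n ∣ 2) _ (h.spec u) h3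
      (h.nc c rfl hf (h3.of_dvd_right (by decide)))), c⟩
  have h4 : iv 2 f = 4 := by rw [iv_prime Nat.prime_two]; exact congrArg (· + 1) (h.k25 hf)
  have h5 := (Set.ncard_le_ncard h3).trans h4.le
  have h6 := hT.card_eq
  rw [← cc] at h6
  rw [ncard_coe, h6] at h5
  have h7 : cc f = 60 := by
    revert h2 h5
    refine (by decide +kernel : ∀ d ∈ Nat.divisors 240, 60 ≤ d → 2 ^ d.factorization 2 ≤ 4 → d = 60) _ ?_
    exact Nat.mem_divisors.mpr ⟨h1, by decide⟩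
  rw [h7] at h6
  have h8 : Nat.card T = 4 := h6.trans (by decide +kernel)
  exact ⟨T, h8, fun u => Set.ext_iff.mp (Set.eq_of_subset_of_ncard_le h3 (h4.trans h8.symm).le) u, h7⟩

theorem cc5 (hf : orderOf f = 5) : cc f = 60 := (h.four5 hf).elim fun _ k => k.2.2

theorem conj5 (hx : orderOf x = 5) (hy : orderOf y = 5) : IsConj x y :=
  conj_of_cc (by rw [h.cc5 hx, hx, h.m5, h.card]) (hy.trans hx.symm)

theorem noinv5 {g : G} (hf : orderOf f = 5) (hx : orderOf x = 3) (hc : Commute x f) (hg : Commute g f) :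
    g * x * g⁻¹ ≠ x⁻¹ := fun e => by
  obtain ⟨T, h1, h2, -⟩ := h.four5 hf
  have h3 : (g ^ 15) ^ 2 = 1 := by
    rw [← pow_mul]
    refine orderOf_dvd_iff_pow_eq_one.mp ((by decide : ∀ n ∈ sp24, (n.Coprime 5 → n * 5 ∈ sp24) → n ∣ 15 * 2) _
      (h.spec g) (h.nc hg rfl hf))
  have h4 : g ^ 15 * x * (g ^ 15)⁻¹ = x⁻¹ := by
    have := (comm_of_inv e e).pow_left 7
    rw [pow_succ', mul_inv_rev, mul_assoc g, show g ^ 14 = (g * g) ^ 7 by rw [← pow_two, ← pow_mul], this.eq, ← e]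
    group
  have h5 := (h2 _).mpr ⟨h3, hg.pow_left 15⟩
  generalize g ^ 15 = t at h3 h4 h5
  have h6 := mul_mem h5 ((h2 (x * t⁻¹ * x⁻¹)).mpr ⟨by rw [conj_pow, inv_pow, h3]; simp,
    (hc.mul_left ((h2 t).mp h5).2.inv_left).mul_left hc.inv_left⟩)
  rw [← mul_assoc, ← mul_assoc, h4, ← mul_inv_rev, inv_mem_iff, ← pow_two] at h6
  exact absurd (h1 ▸ orderOf_dvd_natCard _ h6) (by rw [orderOf_pow, hx]; decide)

theorem card_cl5 (hf : orderOf f = 5) (hx : orderOf x = 3) (hc : Commute x f) : (clR (centralizer {f}) x).ncard = 4 := by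
  have h1 := card_clR (centralizer {f}) x
  have c : orderOf (x * f) = 15 := by
    rw [hc.orderOf_mul_eq_mul_orderOf_of_coprime (by rw [hx, hf]; decide), hx, hf]
  have h2 : Nat.card ↥(centralizer {f} ⊓ centralizer {x} : Subgroup G) ∣ cc (x * f) := card_dvd_cc fun r hr =>
    Commute.mul_right (mem_centralizer_singleton_iff.mp (mem_inf.mp hr).2)
      (mem_centralizer_singleton_iff.mp (mem_inf.mp hr).1)
  have h3 := c ▸ orderOf_dvd_natCard (centralizer {f} ⊓ centralizer {x} : Subgroup G) (mem_inf.mpr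
    ⟨mem_centralizer_singleton_iff.mpr (hc.mul_left (Commute.refl f)),
      mem_centralizer_singleton_iff.mpr ((Commute.refl x).mul_left hc.symm)⟩)
  have h4 := dvd_of_not (a := 15) 2 Nat.prime_two (fun e => absurd (e.trans h2) (h.not_dvd c))
    ((Dvd.intro _ h1).trans (h.cc5 hf).dvd)
  rw [Nat.dvd_antisymm h4 h3, ← cc, h.cc5 hf] at h1
  omega

theorem conjA (hx : orderOf x = 3) (h5 : 5 ∣ cc x) (hw : orderOf w = 3) (h5' : 5 ∣ cc w) : Rt x w := by
  obtain ⟨a, ha, hc⟩ := exists_of_prime_dvd_cc Nat.prime_five h5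
  obtain ⟨f, hf, hc'⟩ := exists_of_prime_dvd_cc Nat.prime_five h5'
  obtain ⟨c, rfl⟩ := isConj_iff.mp (h.conj5 ha hf)
  have h1 := (orderOf_conj' c x).trans hx
  have h2 := commute_conj c hc.symm
  refine ((Rt.refl x).conj c).trans ?_
  generalize c * x * c⁻¹ = v at h1 h2
  generalize c * a * c⁻¹ = f at hf hc' h2
  have h3 := (Set.eq_of_subset_of_ncard_le (s := clR (centralizer {f}) v ∪ clR (centralizer {f}) v⁻¹)
    (t := {u | orderOf u = 3 ∧ Commute u f}) (by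
      rintro _ (⟨r, hr, rfl⟩ | ⟨r, hr, rfl⟩) <;> have c : Commute r f := mem_centralizer_singleton_iff.mp hr
      exacts [⟨(orderOf_conj' r v).trans h1, (c.mul_left h2).mul_left c.inv_left⟩,
        ⟨(orderOf_conj' r _).trans ((orderOf_inv v).trans h1), (c.mul_left h2.inv_left).mul_left c.inv_left⟩]) (by
      rw [Set.ncard_union_eq (Set.disjoint_left.mpr ?_), h.card_cl5 hf h1 h2,
        h.card_cl5 hf ((orderOf_inv v).trans h1) h2.inv_left]
      · exact (h.k35 hf).le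
      rintro _ ⟨r, hr, rfl⟩ ⟨r', hr', e⟩
      refine h.noinv5 hf h1 h2 (mem_centralizer_singleton_iff.mp (mul_mem (inv_mem hr') hr)) ?_
      calc _ = r'⁻¹ * (r * v * r⁻¹) * r' := by group
        _ = _ := by rw [← e]; group)).ge ⟨hw, hc'.symm⟩
  exact h3.imp (fun ⟨r, _, e⟩ => isConj_iff.mpr ⟨r, e⟩) fun ⟨r, _, e⟩ => isConj_iff.mpr ⟨r, e⟩

theorem kkA (hx : orderOf x = 3) (h5 : 5 ∣ cc x) : nn x * kk 5 x = 32643072 :=
  (nn_mul_kk (by decide) (by decide) hx fun _ hw e => h.conjA hx h5 hw e).trans h.m15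

theorem exists_A : ∃ x : G, orderOf x = 3 ∧ 5 ∣ cc x := by
  obtain ⟨f, hf⟩ := exists_ord (h.m5.trans_ne (by decide))
  obtain ⟨x, hx⟩ := Set.nonempty_of_ncard_ne_zero ((h.k35 hf).trans_ne (by decide))
  exact ⟨x, hx.1, hf ▸ orderOf_dvd_cc hx.2.symm⟩

theorem conj2_5 (hz : orderOf z = 2) (h5 : 5 ∣ cc z) (hw : orderOf w = 2) (h5' : 5 ∣ cc w) : IsConj z w := by
  obtain ⟨a, ha, hc⟩ := exists_of_prime_dvd_cc Nat.prime_five h5
  obtain ⟨f, hf, hc'⟩ := exists_of_prime_dvd_cc Nat.prime_five h5'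
  obtain ⟨c, rfl⟩ := isConj_iff.mp (h.conj5 ha hf)
  have h1 := (orderOf_conj' c z).trans hz
  have h2 := commute_conj c hc.symm
  refine (isConj_iff.mpr ⟨c, rfl⟩).trans ?_
  generalize c * z * c⁻¹ = v at h1 h2
  generalize c * a * c⁻¹ = f at hf hc' h2
  have h3 := card_clR (centralizer {f}) v
  have c : orderOf (v * f) = 10 := by
    rw [h2.orderOf_mul_eq_mul_orderOf_of_coprime (by rw [h1, hf]; decide), h1, hf]
  have h4 : Nat.card ↥(centralizer {f} ⊓ centralizer {v} : Subgroup G) ∣ cc (v * f) := card_dvd_cc fun r hr =>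
    Commute.mul_right (mem_centralizer_singleton_iff.mp (mem_inf.mp hr).2)
      (mem_centralizer_singleton_iff.mp (mem_inf.mp hr).1)
  have h6 := Nat.le_of_dvd (by decide) (dvd_of_not (a := 20) 1 Nat.prime_three
    (fun e => absurd (e.trans h4) (h.not_dvd c)) ((Dvd.intro _ h3).trans (h.cc5 hf).dvd))
  rw [← cc, h.cc5 hf] at h3
  obtain ⟨r, -, e⟩ := (Set.eq_of_subset_of_ncard_le (s := clR (centralizer {f}) v)
    (t := {u | orderOf u = 2 ∧ Commute u f}) (by
      rintro _ ⟨r, hr, rfl⟩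
      have c : Commute r f := mem_centralizer_singleton_iff.mp hr
      exact ⟨(orderOf_conj' r v).trans h1, (c.mul_left h2).mul_left c.inv_left⟩)
    ((h.k25 hf).le.trans (by by_contra; nlinarith))).ge ⟨hw, hc'.symm⟩
  exact isConj_iff.mpr ⟨r, e⟩

end N24

end Cfsg.Agent.Mat
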