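import Cfsg.Agent.Mat.M24B

/-! Counting in centralizers of elements of order 3; the Sylow 3-subgroups are not abelian. -/

set_option autoImplicit false
set_option linter.unusedSectionVars false

namespace Cfsg.Agent.Mat

open Subgroup MulAction Cfsg.Agent.M11 Cfsg.Agent.Local
open scoped Pointwise

variable {G : Type*} [Group G] [Finite G]

open Classical in
/-- The elements of order 3 completing `x` to a basis. -/
noncomputable def XX (x : G) : Finset G := (ordS G 3).filter fun e => Commute e x ∧ e ∉ zpowers x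

theorem mem_XX {x e : G} : e ∈ XX x ↔ orderOf e = 3 ∧ Commute e x ∧ e ∉ zpowers x := by
  classical
  exact Finset.mem_filter.trans (and_congr_left' mem_ordS)

theorem B9.mem_XX {x e : G} (b : B9 x e) : e ∈ XX x := Mat.mem_XX.mpr ⟨b.ou, b.comm.symm, b.h2⟩

theorem b9_of_mem {x e : G} (hx : orderOf x = 3) (he : e ∈ XX x) : B9 x e :=
  ⟨hx, (mem_XX.mp he).1 ▸ pow_orderOf_eq_one e, (mem_XX.mp he).2.1.symm, (mem_XX.mp he).2.2⟩

theorem B9.conj' {x e r : G} (b : B9 x e) (hr : Commute r x) : B9 x (r * e * r⁻¹) := by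
  have := b.conj r
  rwa [hr.eq, mul_inv_cancel_right] at this

theorem conj_mem_XX {x : G} (hx : orderOf x = 3) : ∀ e ∈ XX x, ∀ r ∈ centralizer {x}, r * e * r⁻¹ ∈ XX x :=
  fun _ he _ hr => ((b9_of_mem hx he).conj' (mem_centralizer_singleton_iff.mp hr)).mem_XX

/-- The number of `2`-elements commuting with two elements. -/
noncomputable def i2 (x e : G) : ℕ := {u | u ^ 2 ^ 10 = 1 ∧ Commute u x ∧ Commute u e}.ncard

theorem i2_conj {x r : G} (hr : r ∈ centralizer {x}) (e : G) : i2 x (r * e * r⁻¹) = i2 x e := by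
  have c : Commute r x := mem_centralizer_singleton_iff.mp hr
  rw [i2, i2, ← Set.ncard_image_of_injective {u | u ^ 2 ^ 10 = 1 ∧ Commute u x ∧ Commute u e} (MulAut.conj r).injective]
  congr 1
  ext u
  constructor
  · intro hu
    exact ⟨r⁻¹ * u * r⁻¹⁻¹, ⟨by rw [conj_pow, hu.1]; simp, (c.inv_left.mul_left hu.2.1).mul_left c.inv_left.inv_left,
      by simpa [mul_assoc] using commute_conj r⁻¹ hu.2.2⟩, by simp [mul_assoc]⟩
  · rintro ⟨v, hv, rfl⟩
    exact ⟨by rw [MulAut.conj_apply, conj_pow, hv.1]; simp, (c.mul_left hv.2.1).mul_left c.inv_left,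
      commute_conj r hv.2.2⟩

/-- The centralizer of two elements. -/
abbrev CE (x e : G) : Subgroup G := centralizer {x} ⊓ centralizer {e}

theorem mem_CE {x e g : G} : g ∈ CE x e ↔ Commute g x ∧ Commute g e :=
  mem_inf.trans (and_congr mem_centralizer_singleton_iff mem_centralizer_singleton_iff)

theorem B9.EE_le_CE {x e : G} (b : B9 x e) : EE x e ≤ CE x e := fun _ hp =>
  mem_CE.mpr ⟨b.comm' hp (left_mem_EE x e), b.comm' hp (right_mem_EE x e)⟩

namespace N24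

variable (h : N24 G) {x y e g u : G}
include h

theorem ordC (hx : orderOf x = 3) (hc : Commute g x) : g ^ (140 * 3) = 1 :=
  orderOf_dvd_iff_pow_eq_one.mp ((by decide : ∀ n ∈ sp24, (n.Coprime 3 → n * 3 ∈ sp24) → n ∣ 140 * 3) _ (h.spec g)
    (h.nc hc rfl hx))

theorem ordC' (hx : orderOf x = 3) (hc : Commute g x) (hg : g ^ 140 = 1 ∨ g ^ 2 ^ 10 = 1) :
    orderOf g ∣ 4 ∨ orderOf g = 5 ∨ orderOf g = 7 :=
  (by decide +kernel : ∀ n ∈ sp24, (n.Coprime 3 → n * 3 ∈ sp24) → n ∣ 140 ∨ n ∣ 2 ^ 10 → n ∣ 4 ∨ n = 5 ∨ n = 7) _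
    (h.spec g) (h.nc hc rfl hx) (hg.imp orderOf_dvd_of_pow_eq_one orderOf_dvd_of_pow_eq_one)

theorem pow4 (hx : orderOf x = 3) (hc : Commute g x) (hg : g ^ 2 ^ 10 = 1) : g ^ 4 = 1 := by
  have h1 := orderOf_dvd_of_pow_eq_one hg
  rcases h.ordC' hx hc (.inr hg) with e | e | e
  exacts [orderOf_dvd_iff_pow_eq_one.mp e, absurd (e ▸ h1) (by decide), absurd (e ▸ h1) (by decide)]

theorem cnt (hx : orderOf x = 3) :
    cc x = 3 * (iv (2 ^ 10) x + kk 5 x + kk 7 x) + ∑ e ∈ XX x, i2 x e := by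
  classical
  have c3 : x ^ 3 = 1 := hx ▸ pow_orderOf_eq_one x
  have x1 : x ≠ 1 := fun e => by simp [e] at hx
  have h1 := sum_pairs (A := 140) (B := 3) (by decide) {u | u ^ 140 = 1 ∧ Commute u x}
    (insert 1 (insert x (insert x⁻¹ (XX x)))) (fun u hu => hu.1) (by
      simp only [Finset.mem_insert]
      rintro e (rfl | rfl | rfl | he)
      exacts [one_pow 3, c3, by rw [inv_pow, c3, inv_one], (b9_of_mem hx he).cu])
  have n1 : ∀ w ∈ zpowers x, w ∉ XX x := fun w hw e => (mem_XX.mp e).2.2 hw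
  have n2 : ∀ w ∈ zpowers x, {u | u ∈ {u | u ^ 140 = 1 ∧ Commute u x} ∧ Commute u w}.ncard =
      iv (2 ^ 10) x + kk 5 x + kk 7 x := fun w hw => by
    rw [iv, kk, kk, ← Set.ncard_union_eq (Set.disjoint_left.mpr fun u h1 h2 =>
        absurd (h2.1 ▸ orderOf_dvd_of_pow_eq_one h1.1) (by decide)),
      ← Set.ncard_union_eq (Set.disjoint_left.mpr fun u h1 h2 => h1.elim
        (fun h1 => absurd (h2.1 ▸ orderOf_dvd_of_pow_eq_one h1.1) (by decide)) fun h1 => by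
          have := h1.1.symm.trans h2.1; omega)]
    refine congrArg Set.ncard (Set.ext fun u => ⟨fun hu => ?_, fun hu => ?_⟩)
    · rcases h.ordC' hx hu.1.2 (.inl hu.1.1) with e | e | e
      exacts [.inl (.inl ⟨orderOf_dvd_iff_pow_eq_one.mp (e.trans (by decide)), hu.1.2⟩), .inl (.inr ⟨e, hu.1.2⟩),
        .inr ⟨e, hu.1.2⟩]
    · have c : Commute u x := by rcases hu with (hu | hu) | hu <;> exact hu.2
      refine ⟨⟨orderOf_dvd_iff_pow_eq_one.mp ?_, c⟩, (mem_cent_zpowers.mpr c w hw).symm⟩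
      rcases hu with (hu | hu) | hu
      exacts [(orderOf_dvd_of_pow_eq_one (h.pow4 hx c hu.1)).trans (by decide), hu.1 ▸ by decide, hu.1 ▸ by decide]
  have n3 : ∀ e ∈ XX x, {u | u ∈ {u | u ^ 140 = 1 ∧ Commute u x} ∧ Commute u e}.ncard = i2 x e := fun e he => by
    refine congrArg Set.ncard (Set.ext fun u => ⟨fun hu => ⟨?_, hu.1.2, hu.2⟩, fun hu => ⟨⟨orderOf_dvd_iff_pow_eq_one.mp
      ((orderOf_dvd_of_pow_eq_one (h.pow4 hx hu.2.1 hu.1)).trans (by decide)), hu.2.1⟩, hu.2.2⟩⟩)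
    have h9 := (b9_of_mem hx he).nine_dvd hu.1.2 hu.2
    rcases h.ordC' hx hu.1.2 (.inl hu.1.1) with e | e | e
    exacts [orderOf_dvd_iff_pow_eq_one.mp (e.trans (by decide)), absurd (h.cc5 e ▸ h9) (by decide),
      absurd (h.cc7 e ▸ h9) (by decide)]
  rw [Finset.sum_insert (by simp [x1.symm, x1, n1 1 (one_mem _)]), Finset.sum_insert (by
      simp [ne_inv_of_three hx, n1 x (mem_zpowers x)]), Finset.sum_insert (n1 _ (inv_mem (mem_zpowers x))),
    n2 1 (one_mem _), n2 x (mem_zpowers x), n2 _ (inv_mem (mem_zpowers x)), Finset.sum_congr rfl n3] at h1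
  rw [cc, ← ncard_coe]
  refine Eq.trans (congrArg Set.ncard (Set.ext fun g => ⟨fun hg => ?_, ?_⟩)) (h1.symm.trans (by ring))
  · have c : Commute g x := mem_centralizer_singleton_iff.mp hg
    obtain ⟨u, e, h2, h3, h4, h5, h6, h7⟩ := exists_decomp (by decide) (h.ordC hx c)
    refine ⟨u, ⟨h2, (mem_cent_zpowers.mpr c.symm u h6)⟩, e, ?_, h4, h5⟩
    simp only [Finset.mem_insert]
    by_cases h8 : e ∈ zpowers x
    · exact (mem_zpowers_three c3 h8).imp_right (Or.imp_right .inl)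
    · exact .inr (.inr (.inr (B9.mem_XX ⟨hx, h3, (mem_cent_zpowers.mpr c.symm e h7).symm, h8⟩)))
  · rintro ⟨u, hu, e, he, -, rfl⟩
    simp only [Finset.mem_insert] at he
    refine mem_centralizer_singleton_iff.mpr (Commute.mul_left hu.2 ?_)
    rcases he with rfl | rfl | rfl | he
    exacts [Commute.one_left x, Commute.refl _, (Commute.refl x).inv_left, (mem_XX.mp he).2.1]

theorem card_CE (b : B9 x e) : Nat.card (CE x e) ∣ 27 * 2 ^ 10 := by
  have k : ∀ p, p.Prime → (∀ f : G, orderOf f = p → ¬ 9 ∣ cc f) → ¬ p ∣ Nat.card (CE x e) := fun p hp h1 h2 => by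
    obtain ⟨f, hf, h3⟩ := exists_mem_of_prime_dvd hp h2
    exact h1 f h3 (b.nine_dvd (mem_CE.mp hf).1 (mem_CE.mp hf).2)
  exact dvd_of_not 1 Nat.prime_five (k 5 Nat.prime_five fun f hf => by rw [h.cc5 hf]; decide) (dvd_of_not 1
    Nat.prime_seven (k 7 Nat.prime_seven fun f hf => by rw [h.cc7 hf]; decide)
      ((card_dvd_of_le inf_le_left).trans (h.cc_dvd' (.inr b.ox))))

theorem i2_facts (b : B9 x e) : Nat.card (CE x e) ≤ 27 * i2 x e ∧
    (¬ 27 ∣ Nat.card (CE x e) → 9 * i2 x e = Nat.card (CE x e)) := by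
  obtain ⟨T, hT⟩ := exists_isSylowIn 2 (CE x e)
  have h1 := card_mul_relIndex hT.le
  have h2 := dvd_of_not 10 Nat.prime_two hT.not_dvd ((Dvd.intro_left _ h1).trans (h.card_CE b))
  obtain ⟨k, hk⟩ := IsPGroup.iff_card.mp hT.isPGroup
  have h3 : (T : Set G) ⊆ {u | u ^ 2 ^ 10 = 1 ∧ Commute u x ∧ Commute u e} := fun u hu => ⟨orderOf_dvd_iff_pow_eq_one.mp
    ((orderOf_dvd_natCard _ hu).trans ((hk ▸ Nat.Coprime.pow_left k (by decide)).dvd_of_dvd_mul_left
      ((Dvd.intro _ h1).trans (h.card_CE b)))), mem_CE.mp (hT.le hu)⟩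
  have h4 : Nat.card T ≤ i2 x e := Set.ncard_le_ncard h3
  refine ⟨by rw [← h1, mul_comm]; exact Nat.mul_le_mul (Nat.le_of_dvd (by decide) h2) h4, fun h5 => ?_⟩
  have h6 : EE x e ≤ normalizer (T : Set G) := fun p hp => centralizer_le_normalizer _ fun t ht =>
    b.commute (mem_CE.mp (hT.le ht)).1 (mem_CE.mp (hT.le ht)).2 hp
  have h7 := card_sup_of_disjoint h6 (disjoint_def.mpr (eq_one_of_mem_of_coprime
    (by rw [hk, b.card]; exact Nat.Coprime.pow_left k (by decide))))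
  have h8 := card_dvd_of_le (sup_le hT.le b.EE_le_CE)
  rw [h7, b.card, ← h1] at h8
  have h9 : T.relIndex (CE x e) = 9 := (by decide : ∀ d ∈ Nat.divisors 27, 9 ∣ d → ¬ 27 ∣ d → d = 9) _
    (Nat.mem_divisors.mpr ⟨h2, by decide⟩) (Nat.dvd_of_mul_dvd_mul_left Nat.card_pos h8)
    fun e => h5 (e.trans (Dvd.intro_left _ h1))
  have h10 := eq_of_le_of_card_ge (sup_le hT.le b.EE_le_CE) (by rw [h7, ← h1, h9, b.card])
  rw [← h1, h9, mul_comm, i2, ← Set.eq_of_subset_of_ncard_le h3 (Set.ncard_le_ncard fun u hu => ?_), ncard_coe]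
  have h11 := zpowers_le.mpr (mem_CE.mpr hu.2)
  exact hT.le_of_le_normalizer' (two_of_dvd (Nat.card_zpowers u ▸ orderOf_dvd_of_pow_eq_one hu.1)) h11
    (h11.trans (h10.ge.trans (sup_le le_normalizer h6))) (mem_zpowers u)

theorem sum_iv3 : ∑ x ∈ ordS G 3, iv (2 ^ 10) x = 61918208 := by
  have h3 := sum_iv (G := G) (A := 2 ^ 10) (b := 3) (by decide) (by decide) (by decide)
  rw [show Nat.divisors (2 ^ 10) = {1, 2, 4, 8, 16, 32, 64, 128, 256, 512, 1024} by decide +kernel] at h3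
  simp only [Finset.mem_insert, Finset.mem_singleton, Finset.sum_insert, Finset.sum_singleton,
    Nat.reduceEqDiff, or_self, not_false_eq_true, Nat.reduceMul, h.m3, h.mo_zero (n := 24), h.mo_zero (n := 48),
    h.mo_zero (n := 96), h.mo_zero (n := 192), h.mo_zero (n := 384), h.mo_zero (n := 768), h.mo_zero (n := 1536),
    h.mo_zero (n := 3072)] at h3
  have := h.m612
  omega

theorem dvd_cl {d k : ℕ} (hx : cc x ∣ 2 ^ 10 * k) (e : d * k = 239085 := by decide) :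
    2 ^ 10 * d ∣ {w | IsConj x w}.ncard * iv (2 ^ 10) x :=
  dvd_class_iv (by rw [e, h.card]; rfl) (by rw [e]; decide) hx

theorem dvd_nn {d k : ℕ} (hx : cc x ∣ 2 ^ 10 * k) (e : d * k = 239085 := by decide) :
    2 ^ 10 * d ∣ nn x * iv (2 ^ 10) x :=
  (h.dvd_cl hx e).trans (Nat.mul_dvd_mul_right (class_dvd_nn x) _)

theorem dvd_sum {X : Finset G} (hX : Cls X) {d k : ℕ} (h1 : ∀ x ∈ X, cc x ∣ 2 ^ 10 * k)
    (e : d * k = 239085 := by decide) : 2 ^ 10 * d ∣ ∑ x ∈ X, iv (2 ^ 10) x :=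
  dvd_sum_of_class hX.conj (fun x _ c => iv_conj _ c x) fun x hx => h.dvd_cl (h1 x hx) e

theorem rest (hx : orderOf x = 3) (h5 : ¬ 5 ∣ cc x) (h7 : ¬ 7 ∣ cc x) : cc x ∣ 2 ^ 10 * 27 :=
  dvd_of_not 1 Nat.prime_five h5 (dvd_of_not 1 Nat.prime_seven h7 (h.cc_dvd' (.inr hx)))

theorem rest35 (hy : orderOf y = 3) (h5 : 5 ∣ cc y) (h7 : 7 ∣ cc y) : ∀ w ∈ rm (ordS G 3) y, cc w ∣ 2 ^ 10 * 27 :=
  fun _ hw => have h1 := mem_ordS.mp (mem_rm.mp hw).1
    h.rest h1 (fun e => (mem_rm.mp hw).2 (h.conjA hy h5 h1 e)) fun e => (mem_rm.mp hw).2 (.inl (h.conjB hy h7 h1 e))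

theorem cc35 (hy : orderOf y = 3) (h5 : 5 ∣ cc y) (h7 : 7 ∣ cc y) : cc y = 60480 ∧ nn y = 4048 := by
  have h1 := h.nnB hy h7
  have h2 := (cls_ordS 3).card (mem_ordS.mpr hy)
  have h3 := dvd_card_of_class ((cls_ordS 3).rm y) (d := 8855) (h.card ▸ by decide) fun w hw =>
    Nat.Coprime.of_dvd_right (h.rest35 hy h5 h7 w hw) (by decide)
  rw [card_ordS, h.m3] at h2
  obtain ⟨k, hk⟩ : 315 ∣ cc y := Nat.Coprime.mul_dvd_of_dvd_of_dvd (m := 9) (n := 35) (by decide) (h.nine_dvd hy)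
    (Nat.Coprime.mul_dvd_of_dvd_of_dvd (m := 5) (n := 7) (by decide) h5 h7)
  obtain ⟨l, hl⟩ := h.cc_dvd' (.inr hy)
  have h4 : l * k = 3072 := by rw [hk, mul_assoc 315, mul_comm k] at hl; omega
  have h6 : nn y = 253 * l := Nat.eq_of_mul_eq_mul_right (cc_pos y) (by rw [h1, mul_assoc, mul_comm l, ← hl]; rfl)
  have h8 := (by decide +kernel : ∀ d ∈ Nat.divisors 3072, d % 35 = 16 → d = 16) l
    (Nat.mem_divisors.mpr ⟨Dvd.intro _ h4, by decide⟩) (by omega)
  subst h8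
  omega

theorem five_of (hy : orderOf y = 3) (h7 : 7 ∣ cc y) (h27 : 27 ∣ cc y) : 5 ∣ cc y := by_contra fun h5 => by
  obtain ⟨n, hn, h1⟩ := h.ccB hy h7
  have h2 := h.cc_dvd' (.inr hy)
  rw [mul_right_comm] at h2
  have h3 := dvd_of_not 1 Nat.prime_five h5 h2
  rw [hn] at h3 h27
  exact (by decide +kernel : ∀ d ∈ Nat.divisors 3072, 27 ∣ 63 * d → d % 7 ≠ 1) n
    (Nat.mem_divisors.mpr ⟨Nat.dvd_of_mul_dvd_mul_left (by decide : 0 < 63) h3, by decide⟩) h27 h1

theorem card_norm (S : Sylow 3 G) : Nat.card (stabilizer G S) ∣ 27 * 2 ^ 10 := by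
  have k : ∀ p, p.Prime → (∀ f : G, orderOf f = p → ¬ 27 ∣ cc f) → (∀ d ∈ Nat.divisors 27, 27 % p = d % p → d = 27) →
      ¬ p ∣ Nat.card (stabilizer G S) := fun p hp h1 h2 h3 => by
    obtain ⟨f, hf, h4⟩ := exists_mem_of_prime_dvd hp h3
    have h5 := ncard_modEq_commute hp h4 (X := (S : Subgroup G)) fun u hu r hr =>
      conj_mem_syl (zpowers_le.mpr hf hr) hu
    change _ = FF S f % p at h5
    rw [ncard_coe, h.card_syl, FF_eq] at h5
    exact h1 f h4 (h2 _ (Nat.mem_divisors.mpr ⟨h.card_syl S ▸ card_dvd_of_le inf_le_left, by decide⟩) h5 ▸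
      card_dvd_of_le inf_le_right)
  refine dvd_of_not 1 Nat.prime_five (k 5 Nat.prime_five (fun f hf => by rw [h.cc5 hf]; decide) (by decide))
    (dvd_of_not 1 Nat.prime_seven (k 7 Nat.prime_seven (fun f hf => by rw [h.cc7 hf]; decide) (by decide))
    (dvd_of_not 1 Nat.prime_eleven (k 11 Nat.prime_eleven (fun f hf e => h.not_dvd (p := 3) hf (by decide) (by decide)
      (by decide) (dvd_trans (by decide) e)) (by decide)) (dvd_of_not (p := 23) 1 (by decide) (k 23 (by decide)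
      (fun f hf e => h.not_dvd (p := 3) hf (by decide) (by decide) (by decide) (dvd_trans (by decide) e)) (by decide))
      ((card_subgroup_dvd_card _).trans h.card.dvd))))

theorem exists_b7' (S : Sylow 3 G) : ∃ y a z : G, B7 y a z ∧ y ∈ S ∧ a ∈ S := by
  obtain ⟨y, a, z, k⟩ := h.exists_b7
  obtain ⟨P, hP⟩ := k.b.three.exists_le_sylow
  obtain ⟨g, rfl⟩ := exists_smul_eq G P S
  exact ⟨_, _, _, k.conj g, conj_mem_smul g (hP (left_mem_EE y a)), conj_mem_smul g (hP (right_mem_EE y a))⟩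

variable {S : Sylow 3 G} (hab : ∀ x ∈ S, ∀ y ∈ S, Commute x y)
include hab

theorem ab_orb (hx : x ∈ S) : {w | w ∈ S ∧ IsConj x w}.ncard ∣ 2 ^ 10 := by
  have h1 := card_clR (stabilizer G S) x
  obtain ⟨k, hk⟩ := card_dvd_of_le (show ↑S ≤ stabilizer G S ⊓ centralizer {x} from fun p hp =>
    mem_inf.mpr ⟨smul_eq_of_mem hp, mem_centralizer_singleton_iff.mpr (hab p hp x hx)⟩)
  have h2 := h.card_norm S
  rw [← h1, hk, h.card_syl, mul_assoc] at h2
  rw [show {w | w ∈ S ∧ IsConj x w} = clR (stabilizer G S) x from Set.ext fun w => ⟨fun hw => fusion hab hx hw.1 hw.2, by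
    rintro ⟨r, hr, rfl⟩; exact ⟨conj_mem_syl hr hx, isConj_iff.mpr ⟨r, rfl⟩⟩⟩]
  exact (Dvd.intro_left k rfl).trans (Nat.dvd_of_mul_dvd_mul_left (by decide) h2)

theorem ab_small : ∃ x ∈ S, x ≠ 1 ∧ ¬ 4 ∣ {w | w ∈ S ∧ IsConj x w}.ncard := by
  by_contra! h1
  have h2 := dvd_ncard_of_fibers (Set.toFinite {w | w ∈ (S : Subgroup G) ∧ w ≠ 1}) ConjClasses.mk (d := 4)
    fun x hx => by
      convert h1 x hx.1 hx.2 using 2
      ext w
      simp only [Set.mem_ofPred_eq, ConjClasses.mk_eq_mk_iff_isConj]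
      exact ⟨fun hw => ⟨hw.1.1, hw.2.symm⟩, fun hw => ⟨⟨hw.1, fun e => hx.2 (isConj_one_left.mp (e ▸ hw.2))⟩, hw.2.symm⟩⟩
  have h3 := ncard_sharp (S : Subgroup G)
  rw [h.card_syl] at h3
  omega

theorem ab_two (b : B9 y x) (hy : y ∈ S) (hx : x ∈ S) (he : e ∈ S) {D : Subgroup G} (h1 : D ≤ stabilizer G S)
    (h2 : D ≤ CE y x) : (clR D e).ncard ≤ 2 := by
  have k : ∀ g ∈ D, g * e * g⁻¹ * e⁻¹ ∈ EE y x → g * e * g⁻¹ = e := fun g hg h3 => by
    have c := b.commute (mem_CE.mp (h2 hg)).1 (mem_CE.mp (h2 hg)).2 h3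
    have h4 := b.cube h3
    generalize hq : g * e * g⁻¹ * e⁻¹ = q at c h4
    have h5 : ∀ n : ℕ, g ^ n * e * (g ^ n)⁻¹ = q ^ n * e := fun n => by
      induction n with
      | zero => simp
      | succ n ih =>
        calc _ = g * (g ^ n * e * (g ^ n)⁻¹) * g⁻¹ := by rw [pow_succ']; group
          _ = (g * q ^ n * g⁻¹) * (g * e * g⁻¹ * e⁻¹) * e := by rw [ih]; group
          _ = _ := by rw [(c.pow_right n).eq, hq, mul_inv_cancel_right, pow_succ]
    have h6 := h5 3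
    rw [h4, one_mul] at h6
    exact mul_inv_eq_iff_eq_mul.mpr (mem_centralizer_singleton_iff.mp (pow3' (h1 hg) (K := centralizer {e})
      (fun p hp => mem_centralizer_singleton_iff.mpr (hab p hp e he))
      (mem_centralizer_singleton_iff.mpr (mul_inv_eq_iff_eq_mul.mp h6))))
  have k1 : ∀ g ∈ D, ∀ p ∈ EE y x, g * p * g⁻¹ = p := fun g hg p hp => by
    rw [(b.commute (mem_CE.mp (h2 hg)).1 (mem_CE.mp (h2 hg)).2 hp).eq, mul_inv_cancel_right]
  by_cases h3 : e ∈ EE y x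
  · exact (Set.ncard_le_ncard (t := {e}) (by rintro _ ⟨g, hg, rfl⟩; exact k1 g hg e h3)).trans (by simp)
  have hE : EE y x ≤ S := EE_le hy hx
  have h4 : zpowers e ≤ normalizer (EE y x : Set G) := zpowers_le.mpr (centralizer_le_normalizer _
    fun p hp => hab p (hE hp) e he)
  have h5 := eq_of_le_of_card_ge (sup_le hE (zpowers_le.mpr he)) (by
    rw [card_sup_of_disjoint h4 (disjoint_def.mpr fun h1 h2 => by
      rcases mem_zpowers_three (h.cube he) h2 with e | rfl | rfl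
      exacts [e, absurd h1 h3, absurd (inv_mem_iff.mp h1) h3]), b.card, Nat.card_zpowers,
      h.ord_syl he fun e => h3 (e ▸ one_mem _), h.card_syl])
  refine (Set.ncard_le_ncard (t := insert e {w | w ∈ clR D e ∧ w * e ∈ EE y x}) ?_).trans
    ((Set.ncard_insert_le _ _).trans (Nat.succ_le_succ ((Set.ncard_le_one (Set.toFinite _)).mpr ?_)))
  · rintro _ ⟨g, hg, rfl⟩
    obtain ⟨r, hr, q, hq, e1⟩ := (mem_sup_of_right_le_normalizer h4).mp (h5.ge (conj_mem_syl (h1 hg) he))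
    rcases mem_zpowers_three (h.cube he) hq with rfl | rfl | rfl
    · refine absurd ?_ h3
      rwa [show e = g⁻¹ * (r * 1) * g⁻¹⁻¹ by rw [e1]; group, mul_one, k1 _ (inv_mem hg) r hr]
    · exact .inl (k g hg (by rwa [← e1, mul_inv_cancel_right]))
    · exact .inr ⟨⟨g, hg, rfl⟩, by rwa [← e1, inv_mul_cancel_right]⟩
  · rintro _ ⟨⟨a, ha, rfl⟩, h6⟩ _ ⟨⟨c, hc, rfl⟩, h7⟩
    have h8 := k (c⁻¹ * a) (mul_mem (inv_mem hc) ha) (by
      rw [show c⁻¹ * a * e * (c⁻¹ * a)⁻¹ * e⁻¹ = c⁻¹ * (a * e * a⁻¹ * e * (c * e * c⁻¹ * e)⁻¹) * c⁻¹⁻¹ by group,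
        k1 _ (inv_mem hc) _ (mul_mem h6 (inv_mem h7))]
      exact mul_mem h6 (inv_mem h7))
    calc _ = c * (c⁻¹ * a * e * (c⁻¹ * a)⁻¹) * c⁻¹ := by group
      _ = _ := by rw [h8]

theorem ab_false : False := by
  classical
  obtain ⟨y, a, z, k, hy, -⟩ := h.exists_b7' S
  have o3 := k.b.ox
  have d27 : ∀ w ∈ S, 27 ∣ cc w := fun w hw => h.card_syl S ▸ card_dvd_cc fun p hp => hab p hp w hw
  have h5 := h.five_of o3 k.y7 (d27 y hy)
  obtain ⟨c1, c2⟩ := h.cc35 o3 h5 k.y7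
  have k5 := h.kkA o3 h5
  have k7 := h.kkB o3 k.y7
  have e1 := (cls_ordS 3).sum (mem_ordS.mpr o3) (iv_conj (2 ^ 10)) (iv_inv _)
  have e2 := h.dvd_sum ((cls_ordS 3).rm y) (d := 8855) (h.rest35 o3 h5 k.y7)
  have e3 := pow_dvd_iv (A := 10) (m := 239085) (a := 6) Nat.prime_two h.card (by decide) (x := y) (c1 ▸ by decide)
  have e4 := h.cnt o3
  have e5 := kap_mul_le (conj_mem_XX o3) (f := i2 y) (fun e _ r hr => i2_conj hr e) (d := 2240) fun e he => by
    have b := b9_of_mem o3 he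
    have h1 := card_clR (centralizer {y}) e
    have h2 := Nat.mul_le_mul_right (clR (centralizer {y}) e).ncard (h.i2_facts b).1
    rw [h1, ← cc, c1, mul_assoc, mul_comm (i2 y e)] at h2
    omega
  rw [h.sum_iv3, c2] at e1
  rw [c2] at k5 k7
  have e6 : kap (centralizer {y}) (XX y) ≤ 6 := by omega
  obtain ⟨x, hx, x1, h4⟩ := h.ab_small hab
  have p2 : ∀ d ∈ Nat.divisors (2 ^ 10), (¬ 4 ∣ d → d ≤ 2) ∧ (d % 3 = 1 → 2 ≤ d → 4 ∣ d) := by decide +kernel
  have f1 := (p2 _ (Nat.mem_divisors.mpr ⟨h.ab_orb hab hx, by decide⟩)).1 h4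
  have f2 : 4 ∣ {w | w ∈ S ∧ IsConj y w}.ncard := by
    refine (p2 _ (Nat.mem_divisors.mpr ⟨h.ab_orb hab hy, by decide⟩)).2 ?_ ?_
    · have h1 := congrArg (· % 3) (ncard_class_mul_ns S y)
      have h2 := cc_mul y
      rw [c1, h.card] at h2
      simp only [Nat.mul_mod _ (ns 3 y), Nat.mul_mod (Nat.card (Sylow 3 G)), ns_modEq o3,
        show Nat.card (Sylow 3 G) % 3 = 1 from card_sylow_modEq_one 3 G] at h1
      omega
    · rw [← Set.ncard_pair (ne_inv_of_three o3)]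
      refine Set.ncard_le_ncard ?_
      rintro _ (rfl | rfl)
      exacts [⟨hy, IsConj.refl _⟩, ⟨inv_mem hy, h.realB o3 k.y7⟩]
  have b : B9 y x := ⟨o3, h.cube hx, hab y hy x hx, fun e => h4 (by
    have h1 : IsConj y x := by
      rcases (mem_zpowers_three k.b.cx e).resolve_left x1 with rfl | rfl
      exacts [IsConj.refl _, h.realB o3 k.y7]
    rwa [show {w | w ∈ S ∧ IsConj x w} = {w | w ∈ S ∧ IsConj y w} from
      Set.ext fun w => and_congr_right' ⟨h1.trans, h1.symm.trans⟩])⟩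
  set D := stabilizer G S ⊓ centralizer {y}
  have f3 : (clR D x).ncard ≤ 2 := (Set.ncard_le_ncard (by
    rintro _ ⟨r, hr, rfl⟩
    exact ⟨conj_mem_syl (mem_inf.mp hr).1 hx, isConj_iff.mpr ⟨r, rfl⟩⟩)).trans f1
  have f4 : ∀ e ∈ S, (clR D e).ncard ≤ 4 := fun e he => by
    have h1 := card_clR D x
    have h2 := card_clR D e
    have h3 := card_clR (D ⊓ centralizer {x}) e
    have h4 := h.ab_two hab b hy hx he (D := D ⊓ centralizer {x}) (inf_le_left.trans inf_le_left)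
      (inf_le_inf_right _ inf_le_right)
    have h5 := card_le_of_le (inf_le_inf_right (centralizer {e}) (inf_le_left : D ⊓ centralizer {x} ≤ D))
    have h6 := Nat.card_pos (α := ↥(D ⊓ centralizer {e}))
    by_contra
    nlinarith [Nat.mul_le_mul h5 h4, Nat.mul_le_mul_left (Nat.card ↥(D ⊓ centralizer {x})) f3]
  have f5 : ∀ e ∈ S, ∀ w ∈ S, clR (centralizer {y}) w = clR (centralizer {y}) e → w ∈ clR D e := fun e he w hw e1 => by
    obtain ⟨c, hc, rfl⟩ := mem_of_clR_eq e1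
    have c0 : Commute c y := mem_centralizer_singleton_iff.mp hc
    obtain ⟨r, hr, e2⟩ := exists_smul_of_le (H := CE y (c * e * c⁻¹)) (P := c • S) (Q := S) (fun u hu => mem_CE.mpr
      ⟨by simpa [mul_assoc, c0.eq] using commute_conj c (hab _ (mem_smul_syl.mp hu) y hy),
        by simpa [mul_assoc] using commute_conj c (hab _ (mem_smul_syl.mp hu) e he)⟩)
      fun u hu => mem_CE.mpr ⟨hab u hu y hy, hab u hu _ hw⟩
    refine ⟨r * c, mem_inf.mpr ⟨(mul_smul r c S).trans e2, mul_mem (mem_inf.mp hr).1 hc⟩, ?_⟩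
    calc _ = r * (c * e * c⁻¹) * r⁻¹ := by group
      _ = _ := by rw [(mem_CE.mp hr).2.eq, mul_inv_cancel_right]
  have f6 := ncard_mul_le (s := (((S : Subgroup G) : Set G) \ zpowers y) \ clR D x)
    (t := (clR (centralizer {y}) '' XX y) \ {clR (centralizer {y}) x}) (Set.toFinite _) (Set.toFinite _)
    (fun w c => clR (centralizer {y}) w = c) (m := 1) (n := 4) (fun w hw => (Set.ncard_pos (Set.toFinite _)).mpr
      ⟨_, ⟨⟨w, B9.mem_XX ⟨o3, h.cube hw.1.1, hab y hy w hw.1.1, hw.1.2⟩, rfl⟩, fun e => hw.2 (f5 x hx w hw.1.1 e)⟩,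
        rfl⟩) fun c _ => by
      rcases Set.eq_empty_or_nonempty {w | w ∈ (((S : Subgroup G) : Set G) \ zpowers y) \ clR D x ∧
        clR (centralizer {y}) w = c} with e | ⟨e, he⟩
      · rw [e]; simp
      · exact (Set.ncard_le_ncard fun w hw => f5 e he.1.1.1 w hw.1.1.1 (hw.2.trans he.2.symm)).trans (f4 e he.1.1.1)
  have f7 := Set.ncard_sdiff_singleton_add_one (s := clR (centralizer {y}) '' XX y) ⟨x, b.mem_XX, rfl⟩
  have f8 := Set.ncard_le_ncard_sdiff_add_ncard (((S : Subgroup G) : Set G) \ zpowers y) (clR D x)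
  have f9 := Set.ncard_le_ncard_sdiff_add_ncard ((S : Subgroup G) : Set G) (zpowers y)
  rw [ncard_coe, ncard_coe, h.card_syl, Nat.card_zpowers, o3] at f9
  rw [← kap] at f7
  omega

end N24

end Cfsg.Agent.Mat
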