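import Cfsg.Agent.Mat.M24C

/-! The extraspecial Sylow 3-subgroup. -/

set_option autoImplicit false
set_option linter.unusedSectionVars false

namespace Cfsg.Agent.Mat

open Subgroup MulAction Cfsg.Agent.M11 Cfsg.Agent.Local
open scoped Pointwise

variable {G : Type*} [Group G] [Finite G]

theorem Cen.inv {S : Sylow 3 G} {x : G} (hx : Cen S x) : Cen S x⁻¹ :=
  ⟨inv_mem hx.mem, (orderOf_inv x).trans hx.ord, fun s hs => (hx.comm s hs).inv_right⟩

theorem Cen.le {S : Sylow 3 G} {x : G} (hx : Cen S x) : ↑S ≤ centralizer {x} := fun s hs =>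
  mem_centralizer_singleton_iff.mpr (hx.comm s hs)

theorem B9.dec {x u p : G} (b : B9 x u) (hp : p ∈ EE x u) (h : p ∉ zpowers x) :
    ∃ q ∈ zpowers x, p = q * u ∨ p = q * u⁻¹ := by
  obtain ⟨q, hq, r, hr, rfl⟩ := (mem_sup_of_left_le_normalizer (zpowers_le.mpr (mem_normalizer_three
    (.inl (by rw [b.comm.eq, mul_inv_cancel_right]))))).mp hp
  rcases mem_zpowers_three b.cu hr with rfl | rfl | rfl
  exacts [absurd (by simpa using hq) h, ⟨q, hq, .inl rfl⟩, ⟨q, hq, .inr rfl⟩]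

/-- The stabilizer of a coset. -/
def cosK (x y : G) : Subgroup G where
  carrier := {g | Commute g x ∧ g * y * g⁻¹ * y⁻¹ ∈ zpowers x}
  one_mem' := ⟨Commute.one_left x, by simp⟩
  mul_mem' := fun {a b} ha hb => ⟨ha.1.mul_left hb.1, by
    rw [show a * b * y * (a * b)⁻¹ * y⁻¹ = a * (b * y * b⁻¹ * y⁻¹) * a⁻¹ * (a * y * a⁻¹ * y⁻¹) by group,
      ← mem_cent_zpowers.mpr ha.1 _ hb.2, mul_inv_cancel_right]
    exact mul_mem hb.2 ha.2⟩
  inv_mem' := fun {a} ha => ⟨ha.1.inv_left, by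
    rw [show a⁻¹ * y * a⁻¹⁻¹ * y⁻¹ = a⁻¹ * (a * y * a⁻¹ * y⁻¹)⁻¹ * a by group, mul_assoc,
      mem_cent_zpowers.mpr ha.1 _ (inv_mem ha.2), inv_mul_cancel_left]
    exact inv_mem ha.2⟩

namespace N24

variable (h : N24 G) {S : Sylow 3 G} {x y e w a z g : G}
include h

theorem cen_of_le (hx : orderOf x = 3) (hS : ∀ s ∈ S, Commute s x) : Cen S x :=
  ⟨mem_of_stab (hx ▸ pow_orderOf_eq_one x) (smul_eq_of_conj_mem fun s hs => by
    rwa [← (hS s hs).eq, mul_inv_cancel_right]), hx, hS⟩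

theorem exists_cen (S : Sylow 3 G) : ∃ x, Cen S x := by
  obtain ⟨x, hx, h1⟩ := exists_fixed_of_not_dvd Nat.prime_three S.isPGroup' (X := ((S : Subgroup G) : Set G) \ {1})
    (fun r hr u hu => ⟨mul_mem (mul_mem hr hu.1) (inv_mem hr), fun e => hu.2 (conj_eq_one_iff.mp e)⟩)
    (by rw [Set.ncard_sdiff_singleton_of_mem (one_mem _), ncard_coe, h.card_syl]; decide)
  exact ⟨x, hx.1, h.ord_syl hx.1 hx.2, h1⟩

theorem dvd_of_cen (hx : Cen S x) : 27 ∣ cc x := h.card_syl S ▸ card_dvd_cc fun s hs => hx.comm s hs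

theorem exists_syl {E K : Subgroup G} (hE : IsPGroup 3 E) (h1 : E ≤ K) (h2 : 27 ∣ Nat.card K) :
    ∃ S : Sylow 3 G, E ≤ S ∧ ↑S ≤ K := by
  obtain ⟨P, hP, h3⟩ := exists_isSylowIn_ge hE h1
  obtain ⟨S, hS⟩ := hP.isPGroup.exists_le_sylow
  have h4 := card_mul_relIndex hP.le
  have h5 := (Nat.Coprime.pow_left 3 ((Nat.Prime.coprime_iff_not_dvd Nat.prime_three).mpr hP.not_dvd)
    ).dvd_of_dvd_mul_right (h4 ▸ h2)
  exact ⟨S, h3.trans hS, (eq_of_le_of_card_ge hS (h.card_syl S ▸ Nat.le_of_dvd Nat.card_pos h5)).ge.trans hP.le⟩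

theorem cen_of_dvd {E : Subgroup G} (hx : orderOf x = 3) (h1 : 27 ∣ cc x) (hE : IsPGroup 3 E)
    (h2 : E ≤ centralizer {x}) : ∃ S : Sylow 3 G, Cen S x ∧ E ≤ S := by
  obtain ⟨S, h3, h4⟩ := h.exists_syl hE h2 h1
  exact ⟨S, h.cen_of_le hx fun s hs => mem_centralizer_singleton_iff.mp (h4 hs), h3⟩

theorem card_center (hx : Cen S x) : zpowers x = (S : Subgroup G) ⊓ centralizer (S : Set G) := by
  set Z := (S : Subgroup G) ⊓ centralizer (S : Set G) with hZ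
  have h1 : zpowers x ≤ Z := zpowers_le.mpr (mem_inf.mpr ⟨hx.mem, fun s hs => hx.comm s hs⟩)
  by_contra h2
  refine h.ab_false (S := S) fun a ha b hb => by_contra fun h3 => ?_
  have h4 : Z < (S : Subgroup G) ⊓ centralizer {a} := lt_of_le_of_ne
    (inf_le_inf_left _ (centralizer_le (Set.singleton_subset_iff.mpr ha))) fun e =>
      h3 ((mem_inf.mp (e.ge (mem_inf.mpr ⟨ha, mem_centralizer_singleton_iff.mpr rfl⟩))).2 b hb).symm
  have h5 : (S : Subgroup G) ⊓ centralizer {a} < S := lt_of_le_of_ne inf_le_left fun e =>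
    h3 (mem_centralizer_singleton_iff.mp (mem_inf.mp (e.ge hb)).2).symm
  have key : ∀ {A B : Subgroup G}, A < B → B ≤ S → 3 * Nat.card A ≤ Nat.card B := fun {A B} hAB hB => by
    obtain ⟨k, hk⟩ := card_dvd_of_le hAB.le
    have e1 : k ∣ 3 ^ 3 := (Dvd.intro_left _ hk.symm).trans ((card_dvd_of_le hB).trans (h.card_syl S).dvd)
    have e2 : k ≠ 1 := fun e => hAB.ne (eq_of_le_of_card_ge hAB.le (by rw [hk, e, mul_one]))
    have e3 := Nat.le_of_dvd (by decide) e1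
    rw [hk, mul_comm]
    refine Nat.mul_le_mul_left _ ?_
    interval_cases k <;> simp at e1 e2 ⊢
  have h6 := key (lt_of_le_of_ne h1 h2) inf_le_left
  have h7 := key h4 inf_le_left
  have h8 := key h5 le_rfl
  rw [Nat.card_zpowers, hx.ord] at h6
  rw [h.card_syl] at h8
  omega

theorem mem_center (hx : Cen S x) (hy : y ∈ S) (hc : ∀ s ∈ S, Commute s y) : y ∈ zpowers x :=
  (h.card_center hx).ge (mem_inf.mpr ⟨hy, fun s hs => hc s hs⟩)

theorem comm_mem {a b : G} (hx : Cen S x) (ha : a ∈ S) (hb : b ∈ S) : a * b * a⁻¹ * b⁻¹ ∈ zpowers x := by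
  have h1 : (center S).map (S : Subgroup G).subtype = zpowers x := by
    rw [h.card_center hx]
    ext g
    constructor
    · rintro ⟨u, hu, rfl⟩
      exact mem_inf.mpr ⟨u.2, fun s hs => congrArg Subtype.val (mem_center_iff.mp hu ⟨s, hs⟩)⟩
    · intro hg
      exact ⟨⟨g, (mem_inf.mp hg).1⟩, mem_center_iff.mpr fun s => Subtype.ext ((mem_inf.mp hg).2 s s.2), rfl⟩
  have h2 := card_eq_card_quotient_mul_card_subgroup (center S)
  rw [h.card_syl, ← card_subtype, h1, Nat.card_zpowers, hx.ord] at h2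
  have h3 := (IsPGroup.isMulCommutative_of_card_eq_prime_sq (p := 3) (G := S ⧸ center S) (by omega)).is_comm.comm
    (⟨a, ha⟩ : S) (⟨b, hb⟩ : S)
  rw [← QuotientGroup.mk_mul, ← QuotientGroup.mk_mul, QuotientGroup.eq_iff_div_mem] at h3
  rw [← h1]
  exact ⟨_, h3, by simp [div_eq_mul_inv, mul_assoc]⟩

theorem conj_cen (hx : Cen S x) (hy : orderOf y = 3) (h1 : 27 ∣ cc y) : Rt x y := by
  obtain ⟨P, hP, -⟩ := h.cen_of_dvd hy h1 IsPGroup.of_bot bot_le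
  obtain ⟨g, rfl⟩ := exists_smul_eq G S P
  have h2 := h.mem_center hx (mem_smul_syl.mp hP.mem) fun s hs => by
    simpa [mul_assoc] using commute_conj g⁻¹ (hP.comm _ (conj_mem_smul g hs))
  rcases mem_zpowers_three (h.cube hx.mem) h2 with e | e | e
  · have : y = 1 := conj_eq_one_iff.mp (by rwa [inv_inv] : g⁻¹ * y * g⁻¹⁻¹ = 1)
    rw [this] at hy; simp at hy
  · exact .inl (isConj_iff.mpr ⟨g, by rw [← e]; group⟩)
  · exact .inr (isConj_iff.mpr ⟨g, by rw [← e]; group⟩)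

theorem b9 (hx : Cen S x) (he : e ∈ S) (hn : e ∉ zpowers x) : B9 x e := ⟨hx.ord, h.cube he, (hx.comm e he).symm, hn⟩

theorem transv (hx : Cen S x) (hy : y ∈ S) (hn : y ∉ zpowers x) : ∃ g ∈ S, g * y * g⁻¹ = x * y := by
  obtain ⟨s, hs, h1⟩ : ∃ s ∈ S, ¬ Commute s y := by
    by_contra! h1
    exact hn (h.mem_center hx hy h1)
  rcases mem_zpowers_three (h.cube hx.mem) (h.comm_mem hx hs hy) with e | e | e
  · exact absurd (commutatorElement_eq_one_iff_commute.mp e) h1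
  · exact ⟨s, hs, mul_inv_eq_iff_eq_mul.mp e⟩
  · refine ⟨s⁻¹, inv_mem hs, ?_⟩
    calc _ = s⁻¹ * (s * y * s⁻¹ * y⁻¹)⁻¹ * s * y := by group
      _ = _ := by rw [e, inv_inv, mul_assoc s⁻¹, ← (hx.comm s hs).eq, inv_mul_cancel_left]

theorem coset (hx : Cen S x) (he : e ∈ S) (hn : e ∉ zpowers x) {q : G} (hq : q ∈ zpowers x) : q * e ∈ clR S e := by
  rcases mem_zpowers_three (h.cube hx.mem) hq with rfl | rfl | rfl
  exacts [by simpa using mem_clR _ e, h.transv hx he hn, h.transv hx.inv he (by rwa [zpowers_inv])]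

theorem coset' (hx : Cen S x) (he : e ∈ S) (hn : e ∉ zpowers x) {q : G} (hq : q ∈ zpowers x) :
    clR (centralizer {x}) (q * e) = clR (centralizer {x}) e := by
  obtain ⟨r, hr, e1⟩ := h.coset hx he hn hq
  exact clR_eq ⟨r, hx.le hr, e1⟩

theorem not27 (b : B9 x e) : ¬ 27 ∣ Nat.card (CE x e) := fun h1 => by
  obtain ⟨S, h2, h3⟩ := h.exists_syl b.three b.EE_le_CE h1
  exact b.h2 (h.mem_center (h.cen_of_le b.ox fun s hs => (mem_CE.mp (h3 hs)).1) (h2 (right_mem_EE x e))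
    fun s hs => (mem_CE.mp (h3 hs)).2)

theorem cnt' (hx : orderOf x = 3) : 9 * (nn x * cc x) = 27 * (nn x * iv (2 ^ 10) x + nn x * kk 5 x + nn x * kk 7 x) +
    kap (centralizer {x}) (XX x) * (nn x * cc x) := by
  have h1 := sum_eq_kap (conj_mem_XX hx) (f := i2 x) (fun e _ r hr => i2_conj hr e) (m := 9) (d := cc x) fun e he => by
    have b := b9_of_mem hx he
    rw [mul_left_comm, (h.i2_facts b).2 (h.not27 b), mul_comm, card_clR, cc]
  have h2 := h.cnt hx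
  generalize ∑ e ∈ XX x, i2 x e = s at h1 h2
  linear_combination 9 * nn x * h2 + nn x * h1

theorem mem_EE (hx : Cen S x) (he : e ∈ S) (hn : e ∉ zpowers x) (hw : w ∈ S) (hc : Commute w e) : w ∈ EE x e := by
  have b := h.b9 hx he hn
  have h1 : (S : Subgroup G) ⊓ centralizer {e} ≤ CE x e := inf_le_inf_right _ hx.le
  have h2 := (by decide : ∀ d ∈ Nat.divisors 27, d ≠ 27 → d ≤ 9) _ (Nat.mem_divisors.mpr
    ⟨h.card_syl S ▸ card_dvd_of_le (inf_le_left : (S : Subgroup G) ⊓ centralizer {e} ≤ S), by decide⟩)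
    fun e1 => h.not27 b (e1 ▸ card_dvd_of_le h1)
  exact (eq_of_le_of_card_ge (le_inf (EE_le hx.mem he) (b.EE_le_CE.trans inf_le_right)) (b.card ▸ h2)).ge
    (mem_inf.mpr ⟨hw, mem_centralizer_singleton_iff.mpr hc⟩)

theorem rt_of_mem (hx : Cen S x) (he : e ∈ S) (hn : e ∉ zpowers x) (hw : w ∈ EE x e) (hn' : w ∉ zpowers x) : Rt e w := by
  obtain ⟨q, hq, rfl | rfl⟩ := (h.b9 hx he hn).dec hw hn'
  exacts [.inl (isConj_iff.mpr ((h.coset hx he hn hq).imp fun _ => And.right)),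
    .inr (isConj_iff.mpr ((h.coset hx (inv_mem he) (by rwa [inv_mem_iff]) hq).imp fun _ => And.right))]

theorem not_mem (hx : Cen S x) (h1 : ¬ 27 ∣ cc e) : e ∉ zpowers x := fun ⟨k, hk⟩ =>
  h1 (h.card_syl S ▸ card_dvd_cc fun s hs => hk ▸ (hx.comm s hs).zpow_right k)

theorem line (hx : Cen S x) (he : e ∈ S) (h1 : ¬ 27 ∣ cc e) (hw : w ∈ EE x e) (h2 : 27 ∣ cc w) (h3 : w ≠ 1) :
    w = x ∨ w = x⁻¹ :=
  (mem_zpowers_three (h.cube hx.mem) (by_contra fun h4 =>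
    h1 ((h.rt_of_mem hx he (h.not_mem hx h1) hw h4).cc ▸ h2))).resolve_left h3

theorem not5 (hy : orderOf y = 3) (h7 : 7 ∣ cc y) : ¬ 5 ∣ cc y := fun h5 => by
  obtain ⟨c1, c2⟩ := h.cc35 hy h5 h7
  obtain ⟨S, hS, -⟩ := h.cen_of_dvd hy (c1 ▸ by decide) IsPGroup.of_bot bot_le
  have h2 := (cls_ordS 3).card (mem_ordS.mpr hy)
  have h3 := dvd_sum_of_class ((cls_ordS 3).rm y).conj (f := fun _ => 1) (fun _ _ _ => rfl) (d := 3) fun w hw => by
    have h3 := cc_mul w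
    by_contra h4
    rw [mul_one] at h4
    exact (mem_rm.mp hw).2 (h.conj_cen hS (mem_ordS.mp (mem_rm.mp hw).1) ((Nat.Coprime.pow_left 3
      ((Nat.Prime.coprime_iff_not_dvd Nat.prime_three).mpr h4)).dvd_of_dvd_mul_right (by rw [h3, h.card]; decide)))
  rw [← Finset.card_eq_sum_ones] at h3
  rw [card_ordS, h.m3] at h2
  omega

theorem not27B (hy : orderOf y = 3) (h7 : 7 ∣ cc y) : ¬ 27 ∣ cc y := fun e => h.not5 hy h7 (h.five_of hy h7 e)

theorem cenB (k : B7 y a z) (hy : y ∈ S) (ha : a ∈ S) : Cen S a := by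
  obtain ⟨x, hx⟩ := h.exists_cen S
  have h1 := h.not27B k.b.ox k.y7
  have h2 := h.not_mem hx h1
  have h3 : EE y a = EE x y := (h.b9 hx hy h2).EE_eq' k.b (right_mem_EE x y) (h.mem_EE hx hy h2 ha k.b.comm.symm)
  have l : L9 y a z (2, 0) (0, 1) := k.b.l9 (k.zy.trans k.b.ee_xi.symm) (by rw [ee_u, k.za.eq, mul_inv_cancel_right])
  obtain ⟨v, rfl⟩ := k.b.exists_ee (h3.ge (left_mem_EE x y))
  have h4 := h.line hx hy h1 (h3.le (l v ▸ ee_mem y a _)) ((cc_conj z _).symm ▸ h.dvd_of_cen hx)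
    fun e => (h.b9 hx hy h2).x1 (conj_eq_one_iff.mp e)
  rw [l, ← k.b.ee_neg] at h4
  rcases (by decide : ∀ v : ZMod 3 × ZMod 3, v.1 • ((2, 0) : ZMod 3 × ZMod 3) + v.2 • (0, 1) = v ∨
    v.1 • ((2, 0) : ZMod 3 × ZMod 3) + v.2 • (0, 1) = -v → v = 0 ∨ v = (0, 1) ∨ v = (0, 2) ∨ v = (1, 0) ∨ v = (2, 0)) v
    (h4.imp (k.b.ee_inj ·) (k.b.ee_inj ·)) with rfl | rfl | rfl | rfl | rfl
  · exact absurd (ee_zero y a) (h.b9 hx hy h2).x1
  · rwa [ee_u] at hx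
  · simpa [k.b.ee_ui] using hx.inv
  · exact absurd (by rw [ee_x]; exact mem_zpowers y) h2
  · exact absurd (by rw [k.b.ee_xi, zpowers_inv]; exact mem_zpowers y) h2

theorem into (hx : Cen S x) (he : e ∈ XX x) :
    ∃ w ∈ S, w ∉ zpowers x ∧ w ∈ clR (centralizer {x}) e := by
  have b := b9_of_mem hx.ord he
  obtain ⟨P, hP, h1⟩ := h.cen_of_dvd hx.ord (h.dvd_of_cen hx) b.three (b.EE_le_CE.trans inf_le_left)
  obtain ⟨r, hr, rfl⟩ := exists_smul_of_le hP.le hx.le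
  exact ⟨_, conj_mem_smul r (h1 (right_mem_EE x e)), (b.conj' (mem_centralizer_singleton_iff.mp hr)).h2, r, hr, rfl⟩

theorem kap0_le (k : B7 y a z) (hy : y ∈ S) (ha : a ∈ S) : kap (centralizer {a}) (XX a) ≤ 4 := by
  have c := h.cenB k hy ha
  have b := k.b.swap
  have hz : z ∈ centralizer {a} := mem_centralizer_singleton_iff.mpr k.za
  obtain ⟨r, hr, e1⟩ := exists_smul_of_le (H := cosK a y) (P := z • S) (Q := S) (fun u hu => ⟨by
      simpa [mul_assoc, k.za.eq] using commute_conj z (c.comm _ (mem_smul_syl.mp hu)), by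
      have h1 := conj_mem_of_mem_normalizer (mem_normalizer_three (.inl (mul_inv_eq_iff_eq_mul.mpr k.za.eq)))
        (h.comm_mem c (mem_smul_syl.mp hu) (inv_mem hy))
      rw [inv_inv, ← conj_mul, ← conj_mul, ← conj_mul, ← conj_inv (a := y), k.zy] at h1
      simpa [mul_assoc] using h1⟩) fun u hu => ⟨c.comm u hu, h.comm_mem c hu hy⟩
  rw [← mul_smul] at e1
  have t1 : Commute (r * z) a := hr.1.mul_left k.za
  have t2 : r * z * y * (r * z)⁻¹ * y ∈ zpowers a := by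
    rw [show r * z * y * (r * z)⁻¹ * y = r * (z * y * z⁻¹) * r⁻¹ * y by group, k.zy,
      show r * y⁻¹ * r⁻¹ * y = y⁻¹ * (r * y * r⁻¹ * y⁻¹)⁻¹ * y by group, mul_assoc,
      mem_cent_zpowers.mpr k.b.comm _ (inv_mem hr.2), inv_mul_cancel_left]
    exact inv_mem hr.2
  generalize r * z = t at e1 t1 t2
  obtain ⟨p, hp, e2⟩ := h.transv c hy b.h2
  have k1 : ∀ w ∈ S, w * y * w⁻¹ * y⁻¹ = a → ∃ v ∈ [y, p, p * y, p * y⁻¹],
      clR (centralizer {a}) w = clR (centralizer {a}) v := fun w hw e3 => by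
    have h1 := h.mem_EE c hy b.h2 (mul_mem (inv_mem hp) hw) (mul_inv_eq_iff_eq_mul.mp (by
      calc _ = p⁻¹ * (w * y * w⁻¹ * y⁻¹ * y) * p := by group
        _ = _ := by rw [e3, ← e2]; group))
    have h2 : ∀ v ∈ S, Commute v y → ∀ q ∈ zpowers a, p⁻¹ * w = q * v →
        clR (centralizer {a}) w = clR (centralizer {a}) (p * v) := fun v hv c1 q hq e4 => by
      rw [← h.coset' c (mul_mem hp hv) (fun e5 => b.x1 ?_) hq, ← mul_assoc, mem_cent_zpowers.mpr (c.comm p hp) q hq,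
        mul_assoc, ← e4, mul_inv_cancel_left]
      have c2 : Commute p y := by
        simpa using (Commute.symm (mem_cent_zpowers.mpr k.b.comm _ e5).symm).mul_left c1.inv_left
      rwa [c2.eq, mul_inv_cancel_right, right_eq_mul] at e2
    by_cases h3 : p⁻¹ * w ∈ zpowers a
    · exact ⟨p, by simp, by simpa using h2 1 (one_mem _) (Commute.one_left y) _ h3 (mul_one _).symm⟩
    obtain ⟨q, hq, e4 | e4⟩ := b.dec h1 h3
    exacts [⟨_, by simp, h2 y hy (Commute.refl y) q hq e4⟩,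
      ⟨_, by simp, h2 _ (inv_mem hy) (Commute.refl y).inv_left q hq e4⟩]
  refine kap_le [y, p, p * y, p * y⁻¹] fun e he => ?_
  obtain ⟨w, hw, h1, h2⟩ := h.into c he
  rw [← clR_eq h2]
  rcases mem_zpowers_three b.cx (h.comm_mem c hw hy) with e3 | e3 | e3
  · obtain ⟨q, hq, rfl | rfl⟩ := b.dec (h.mem_EE c hy b.h2 hw (commutatorElement_eq_one_iff_commute.mp e3)) h1
    exacts [⟨y, by simp, h.coset' c hy b.h2 hq⟩, ⟨y, by simp, (h.coset' c (inv_mem hy) b.inv.h2 hq).trans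
      (clR_eq ⟨z, hz, k.zy⟩)⟩]
  · exact k1 w hw e3
  · rw [← clR_conj (mem_centralizer_singleton_iff.mpr t1)]
    refine k1 _ (conj_mem_syl e1 hw) ?_
    have h3 := conj_mem_syl e1 hw
    have h4 : t * w * t⁻¹ * (t * y * t⁻¹ * y * y⁻¹) * (t * w * t⁻¹)⁻¹ * (t * y * t⁻¹ * y * y⁻¹)⁻¹ = a⁻¹ := by
      calc _ = t * (w * y * w⁻¹ * y⁻¹) * t⁻¹ := by group
        _ = _ := by rw [e3, t1.inv_right.eq, mul_inv_cancel_right]
    generalize t * w * t⁻¹ = v at h3 h4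
    generalize t * y * t⁻¹ * y = q at t2 h4
    have c1 := mem_cent_zpowers.mpr (c.comm v h3) q t2
    calc _ = y * (q⁻¹ * ((v * q) * y⁻¹ * v⁻¹ * (q * y⁻¹)⁻¹) * q)⁻¹ * y⁻¹ := by rw [← c1]; group
      _ = _ := by
        rw [mul_assoc v q, h4, mul_assoc q⁻¹, ← mem_cent_zpowers.mpr (Commute.refl a).inv_left q t2,
          inv_mul_cancel_left, inv_inv, k.b.comm.eq, mul_inv_cancel_right]

theorem intoB (k : B7 y a z) (he : e ∈ XX y) : ∃ w ∈ EE y a, w ∉ zpowers y ∧ w ∈ clR (centralizer {y}) e := by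
  have b := b9_of_mem k.b.ox he
  have h1 : IsSylowIn 3 (EE y a) (centralizer {y}) := ⟨k.b.EE_le_CE.trans inf_le_left, k.b.three, fun e1 =>
    h.not27B k.b.ox k.y7 (by
      rw [cc, ← card_mul_relIndex (k.b.EE_le_CE.trans inf_le_left), k.b.card]; exact Nat.mul_dvd_mul_left 9 e1)⟩
  obtain ⟨r, hr, e1⟩ := h1.exists_le_conj b.three (b.EE_le_CE.trans inf_le_left)
  refine ⟨_, ?_, (b.conj' (mem_centralizer_singleton_iff.mp (inv_mem hr))).h2, r⁻¹, inv_mem hr, rfl⟩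
  simpa [conj_smul_conj_smul] using conj_mem_conj_smul r⁻¹ (e1 (right_mem_EE y e))

theorem kapB_le (k : B7 y a z) (h1 : Commute g y) (h2 : g * a * g⁻¹ = a⁻¹) : kap (centralizer {y}) (XX y) ≤ 3 := by
  refine kap_le [a, y * a, y⁻¹ * a] fun e he => ?_
  obtain ⟨w, hw, h3, h4⟩ := h.intoB k he
  rw [← clR_eq h4]
  have h5 : ∀ q ∈ zpowers y, ∃ v ∈ [a, y * a, y⁻¹ * a], clR (centralizer {y}) (q * a) = clR (centralizer {y}) v :=
    fun q hq => by
      rcases mem_zpowers_three k.b.cx hq with rfl | rfl | rfl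
      exacts [⟨a, by simp, by simp⟩, ⟨_, by simp, rfl⟩, ⟨_, by simp, rfl⟩]
  obtain ⟨q, hq, rfl | rfl⟩ := k.b.dec hw h3
  · exact h5 q hq
  · rw [← h2, show q * (g * a * g⁻¹) = g * (q * a) * g⁻¹ by
      rw [← mul_assoc, ← mul_assoc, mem_cent_zpowers.mpr h1 q hq, mul_assoc g], clR_conj
        (mem_centralizer_singleton_iff.mpr h1)]
    exact h5 q hq

theorem fix_line (k : B7 y a z) (hy : y ∈ S) (ha : a ∈ S) (h1 : g * a * g⁻¹ ∈ EE y a) :
    g * a * g⁻¹ = a ∨ g * a * g⁻¹ = a⁻¹ :=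
  have c := h.cenB k hy ha
  h.line c hy (h.not27B k.b.ox k.y7) (EE_swap y a ▸ h1) ((cc_conj g a).symm ▸ h.dvd_of_cen c)
    fun e => k.b.u1 (conj_eq_one_iff.mp e)

theorem kapB_ge (k : B7 y a z) (hy : y ∈ S) (ha : a ∈ S) (h1 : ∀ g, Commute g y → g * a * g⁻¹ ≠ a⁻¹) :
    6 ≤ kap (centralizer {y}) (XX y) := by
  have h2 := Set.ncard_le_ncard_sdiff_add_ncard (EE y a : Set G) (zpowers y)
  rw [ncard_coe, ncard_coe, k.b.card, Nat.card_zpowers, k.b.ox] at h2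
  refine le_trans (by omega) (Set.ncard_le_ncard_of_injOn (s := (EE y a : Set G) \ zpowers y) (clR (centralizer {y}))
    (fun e he => ⟨e, (k.b.of_mem he.1 he.2).mem_XX, rfl⟩) fun w hw e he e1 => ?_)
  obtain ⟨r, hr, rfl⟩ := mem_of_clR_eq e1
  have c : Commute r y := mem_centralizer_singleton_iff.mp hr
  have h3 := conj_mem_conj_smul r ((k.b.EE_eq he.1 he.2).ge (right_mem_EE y a))
  rw [conj_EE, c.eq, mul_inv_cancel_right, k.b.EE_eq hw.1 hw.2] at h3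
  rw [(k.b.commute c (mul_inv_eq_iff_eq_mul.mp ((h.fix_line k hy ha h3).resolve_right (h1 r c))) he.1).eq,
    mul_inv_cancel_right]

theorem adjust (k : B7 y a z) (hy : y ∈ S) (ha : a ∈ S) (he : e ∈ XX a) (h1 : IsConj y e) :
    ∃ g, g * y * g⁻¹ = e ∧ (g * a * g⁻¹ = a ∨ g * a * g⁻¹ = a⁻¹) := by
  obtain ⟨c, rfl⟩ := isConj_iff.mp h1
  have b := ((b9_of_mem k.b.ou he).conj c⁻¹).swap
  rw [show c⁻¹ * (c * y * c⁻¹) * c⁻¹⁻¹ = y by group] at b
  obtain ⟨w, hw, h2, r, hr, rfl⟩ := h.intoB k b.mem_XX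
  have h3 := h.line (h.cenB k hy ha) hy (h.not27B k.b.ox k.y7) (EE_swap y a ▸ hw) (by
    rw [cc_conj, cc_conj]; exact h.dvd_of_cen (h.cenB k hy ha)) fun e => h2 (by rw [e]; exact one_mem _)
  refine ⟨c * r⁻¹, ?_, h3.imp (fun e => ?_) fun e => ?_⟩
  · rw [mul_inv_rev, inv_inv, mul_assoc c, mem_centralizer_singleton_iff.mp (inv_mem hr)]; group
  · nth_rw 1 [← e]; group
  · rw [← inv_inj, conj_inv (a := a), inv_inv a, ← e]; group

theorem real_of (hx : Cen S x) (he : e ∈ S) (hn : e ∉ zpowers x) (h1 : 27 ∣ cc e) :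
    ∃ g g', L9 x e g (1, 0) (1, 1) ∧ L9 x e g' (1, 1) (0, 1) := by
  have b := h.b9 hx he hn
  obtain ⟨g, hg, e1⟩ := h.transv hx he hn
  obtain ⟨P, hP, h2⟩ := h.cen_of_dvd b.ou h1 b.three (b.EE_le_CE.trans inf_le_right)
  obtain ⟨g', hg', e2⟩ := h.transv hP (h2 (left_mem_EE x e)) b.swap.h2
  exact ⟨g, g', b.l9 (by rw [ee_x, (hx.comm g hg).eq, mul_inv_cancel_right]) (e1.trans b.ee_s.symm),
    b.l9 (by rw [e2, b.ee_s, b.comm.eq]) (by rw [ee_u, (hP.comm g' hg').eq, mul_inv_cancel_right])⟩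

theorem classes (k : B7 y a z) (hy : y ∈ S) (ha : a ∈ S) : (∃ g, Commute g y ∧ g * a * g⁻¹ = a⁻¹) ∧
    rm (rm (ordS G 3) y) a = ∅ ∧ kap (centralizer {a}) (XX a) = 2 ∧ 5 ∣ cc a := by
  have c := h.cenB k hy ha
  have o3 := k.b.ox
  have n5 := h.not5 o3 k.y7
  have n27 := h.not27B o3 k.y7
  have n7 : ¬ 7 ∣ cc a := fun e => h.not27B c.ord e (h.dvd_of_cen c)
  have e1 := h.cnt' o3
  rw [h.nnB o3 k.y7, h.kkB o3 k.y7, kk_zero n5] at e1
  have e2 := h.dvd_nn (x := y) (d := 3795) (k := 63) (by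
    obtain ⟨n, hn, -⟩ := h.ccB o3 k.y7
    have h2 := h.cc_dvd' (.inr o3)
    rw [mul_right_comm] at h2
    have h3 := dvd_of_not 1 Nat.prime_five n5 h2
    rw [hn] at h3 n27
    rw [hn, mul_comm]
    exact Nat.mul_dvd_mul_right (dvd_of_not 1 Nat.prime_three (fun e => n27 (Nat.mul_dvd_mul (by decide : 9 ∣ 63) e))
      (Nat.dvd_of_mul_dvd_mul_left (by decide : 0 < 63) h3)) _)
  have m1 : a ∈ rm (ordS G 3) y := mem_rm.mpr ⟨mem_ordS.mpr c.ord, fun e => n27 (e.cc ▸ h.dvd_of_cen c)⟩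
  have e3 := (cls_ordS 3).sum (mem_ordS.mpr o3) (iv_conj (2 ^ 10)) (iv_inv _)
  have cR := ((cls_ordS 3).rm y).rm a
  rw [h.sum_iv3, ((cls_ordS 3).rm y).sum m1 (iv_conj (2 ^ 10)) (iv_inv _)] at e3
  have m2 : ∀ w ∈ rm (rm (ordS G 3) y) a, orderOf w = 3 ∧ ¬ 27 ∣ cc w ∧ cc w ∣ 2 ^ 10 * 45 := fun w hw => by
    have h1 := mem_ordS.mp (mem_rm.mp (mem_rm.mp hw).1).1
    have h2 : ¬ 27 ∣ cc w := fun e => (mem_rm.mp hw).2 (h.conj_cen c h1 e)
    obtain ⟨l, hl⟩ := h.nine_dvd h1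
    have h3 := dvd_of_not 1 Nat.prime_seven (fun e => (mem_rm.mp (mem_rm.mp hw).1).2 (.inl (h.conjB o3 k.y7 h1 e)))
      (h.cc_dvd' (.inr h1))
    refine ⟨h1, h2, ?_⟩
    rw [hl] at h2 h3 ⊢
    exact Nat.mul_dvd_mul_left 9 (dvd_of_not (a := 5120) 1 Nat.prime_three (fun e => h2 (Nat.mul_dvd_mul_left 9 e))
      (Nat.dvd_of_mul_dvd_mul_left (by decide : 0 < 9) h3))
  have e4 := h.cnt' c.ord
  have e5 := h.kap0_le k hy ha
  have e6 := nn_cases a
  rw [kk_zero n7] at e4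
  rw [h.card] at e6
  have n5a : 5 ∣ cc a := by
    by_contra h5
    obtain ⟨x, hx, x5⟩ := h.exists_A
    have m3 : x ∈ rm (rm (ordS G 3) y) a := mem_rm.mpr ⟨mem_rm.mpr ⟨mem_ordS.mpr hx, fun e => n5 (e.cc ▸ x5)⟩,
      fun e => h5 (e.cc ▸ x5)⟩
    rw [cR.sum m3 (iv_conj (2 ^ 10)) (iv_inv _)] at e3
    have f1 := h.dvd_nn (d := 5313) (m2 x m3).2.2
    have f2 := h.dvd_sum (cR.rm x) (d := 26565) (k := 9) fun w hw => dvd_of_not 1 Nat.prime_five
      (fun e => (mem_rm.mp hw).2 (h.conjA hx x5 (m2 w (mem_rm.mp hw).1).1 e)) (m2 w (mem_rm.mp hw).1).2.2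
    rw [kk_zero h5] at e4
    rcases e6 with ⟨-, e6⟩ | ⟨-, e6⟩ <;> rw [e6] at e4 <;> omega
  have e7 := h.dvd_sum cR (d := 26565) (k := 9) fun w hw => dvd_of_not 1 Nat.prime_five
    (fun e => (mem_rm.mp hw).2 (h.conjA c.ord n5a (m2 w hw).1 e)) (m2 w hw).2.2
  have e8 : ∑ w ∈ rm (rm (ordS G 3) y) a, iv (2 ^ 10) w = 0 → rm (rm (ordS G 3) y) a = ∅ := fun e =>
    Finset.eq_empty_of_forall_notMem fun w hw => Set.ncard_ne_zero_of_mem (s := {u | u ^ 2 ^ 10 = 1 ∧ Commute u w})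
      ⟨one_pow _, Commute.one_left w⟩ (Set.toFinite _) (Finset.sum_eq_zero_iff.mp e w hw)
  rw [h.kkA c.ord n5a] at e4
  by_cases h1 : ∃ g, Commute g y ∧ g * a * g⁻¹ = a⁻¹
  · obtain ⟨g, g1, g2⟩ := h1
    have f1 := h.kapB_le k g1 g2
    rw [(e6.resolve_right fun e => e.1 (isConj_iff.mpr ⟨g, g2⟩)).2] at e4
    exact ⟨⟨g, g1, g2⟩, e8 (by omega), by omega, n5a⟩
  exfalso
  have f1 := h.kapB_ge k hy ha fun g g1 g2 => h1 ⟨g, g1, g2⟩
  have by' := k.b.swap.mem_XX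
  rcases e6 with ⟨hr, e6⟩ | ⟨hr, e6⟩ <;> rw [e6] at e4
  · obtain ⟨g, hg⟩ := isConj_iff.mp hr
    obtain ⟨w, hw⟩ := Finset.nonempty_of_sum_ne_zero (s := rm (rm (ordS G 3) y) a) (f := iv (2 ^ 10)) (by omega)
    obtain ⟨P, hP⟩ := exists_sylow_mem (m2 w hw).1
    obtain ⟨d, rfl⟩ := exists_smul_eq G P S
    have f2 := cR.conj w hw d
    have f3 := conj_mem_smul d hP
    generalize d * w * d⁻¹ = r at f2 f3
    have f4 : ∀ v, IsConj y v → clR (centralizer {a}) v ≠ clR (centralizer {a}) r := fun v hv e => by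
      obtain ⟨t, -, rfl⟩ := mem_of_clR_eq e
      exact (mem_rm.mp (mem_rm.mp f2).1).2 (Rt.of_conj (.inl hv))
    have b := k.b.swap.conj g
    rw [hg] at b
    refine absurd ((Set.two_lt_ncard (s := clR (centralizer {a}) '' XX a) (Set.toFinite _)).mpr ⟨_, ⟨y, by', rfl⟩, _, ⟨_, mem_XX.mpr ⟨b.ou,
      Commute.inv_right_iff.mp b.comm.symm, zpowers_inv (G := G) ▸ b.h2⟩, rfl⟩, _,
      ⟨r, (h.b9 c f3 (h.not_mem c (m2 r f2).2.1)).mem_XX, rfl⟩, fun e => ?_, f4 y (IsConj.refl y),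
      f4 _ (isConj_iff.mpr ⟨g, rfl⟩)⟩) (by rw [← kap]; omega)
    obtain ⟨t, ht, e⟩ := mem_of_clR_eq e
    refine h1 ⟨t * g, mul_inv_eq_iff_eq_mul.mp (by nth_rw 2 [← e]; group), ?_⟩
    calc _ = t * (g * a * g⁻¹) * t⁻¹ := by group
      _ = _ := by
        rw [hg, (Commute.inv_right (mem_centralizer_singleton_iff.mp ht)).eq, mul_inv_cancel_right]
  · refine absurd (kap_le (R := centralizer {a}) (X := XX a) [y] fun e he => ⟨y, by simp, ?_⟩) (by
      rw [List.length_singleton]; omega)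
    obtain ⟨w, hw, h2, h3⟩ := h.into c he
    have b := h.b9 c hw h2
    have f2 : ¬ 27 ∣ cc w := fun e => by
      obtain ⟨g, g', l, l'⟩ := h.real_of c hw h2 e
      have l2 := (l.mul (l'.inv (1, 2) (0, 1))).mul l
      exact hr (isConj_iff.mpr ⟨_, b.neg (l2.mul l2) (by decide) a (left_mem_EE a w)⟩)
    have f3 : Rt y w := by_contra fun e => Finset.notMem_empty w (e8 (by omega) ▸ mem_rm.mpr ⟨mem_rm.mpr
      ⟨mem_ordS.mpr b.ou, e⟩, fun e => f2 (e.cc ▸ h.dvd_of_cen c)⟩)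
    obtain ⟨g, rfl, g2⟩ := h.adjust k hy ha b.mem_XX (f3.isConj (h.realB o3 k.y7))
    rw [← clR_eq h3, clR_conj (mem_centralizer_singleton_iff.mpr (mul_inv_eq_iff_eq_mul.mp
      (g2.resolve_right fun e => hr (isConj_iff.mpr ⟨g, e⟩))))]

end N24

end Cfsg.Agent.Mat
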