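import Cfsg.Agent.Mat.M24D
import Cfsg.Agent.Local.Coprime

/-! The classes of elements of order 2 and 3. -/

set_option autoImplicit false
set_option linter.unusedSectionVars false

namespace Cfsg.Agent.Mat

open Subgroup MulAction Cfsg.Agent.M11 Cfsg.Agent.Local
open scoped Pointwise

variable {G : Type*} [Group G] [Finite G]

/-- Matrices over the field with three elements. -/
abbrev M3 := (ZMod 3 × ZMod 3) × (ZMod 3 × ZMod 3)

/-- Product of matrices. -/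
def mm (p q : M3) : M3 := (q.1.1 • p.1 + q.1.2 • p.2, q.2.1 • p.1 + q.2.2 • p.2)

/-- Words in three matrices. -/
def evM : List ℕ → M3
  | [] => ((1, 0), (0, 1))
  | i :: w => mm (if i = 0 then ((1, 0), (1, 1)) else if i = 1 then ((1, 1), (0, 1)) else ((1, 0), (0, 2))) (evM w)

/-- The determinant. -/
def dt (a b : ZMod 3 × ZMod 3) : ZMod 3 := a.1 * b.2 - a.2 * b.1

theorem exists_evM : ∀ a b, dt a b ≠ 0 → ∃ w ∈ [[], [0], [1], [2], [0, 0], [1, 0], [2, 0], [0, 1], [1, 1], [2, 1],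
    [0, 2], [1, 2], [1, 0, 0], [0, 1, 0], [1, 1, 0], [2, 1, 0], [1, 2, 0], [0, 0, 1], [1, 0, 1], [2, 0, 1], [0, 1, 1],
    [0, 2, 1], [1, 0, 2], [0, 1, 2], [0, 1, 0, 0], [1, 1, 0, 0], [2, 1, 0, 0], [0, 0, 1, 0], [1, 0, 1, 0], [2, 0, 1, 0],
    [0, 1, 1, 0], [0, 2, 1, 0], [0, 1, 2, 0], [1, 0, 0, 1], [1, 1, 0, 1], [2, 1, 0, 1], [0, 0, 1, 1], [1, 0, 1, 1],
    [2, 0, 1, 1], [0, 1, 0, 2], [1, 0, 1, 2], [1, 0, 1, 0, 0], [2, 0, 1, 0, 0], [0, 2, 1, 0, 0], [1, 1, 0, 1, 0],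
    [2, 1, 0, 1, 0], [2, 0, 1, 1, 0], [2, 1, 0, 1, 1]], evM w = (a, b) := by
  decide +kernel

/-- A subgroup of order 9 whose normalizer induces the full linear group. -/
structure GLb (x u : G) : Prop extends B9 x u where
  cA : ∀ p ∈ EE x u, p ≠ 1 → cc p = 1080
  gl : ∀ a b, dt a b ≠ 0 → ∃ g, L9 x u g a b

theorem L9.one (x u : G) : L9 x u 1 (1, 0) (0, 1) := fun v => by simp

namespace N24

variable (h : N24 G) {S : Sylow 3 G} {x y e w a z g t : G}
include h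

theorem cc_ay (k : B7 y a z) (hy : y ∈ S) (ha : a ∈ S) : cc a = 1080 ∧ cc y = 504 := by
  obtain ⟨⟨g, -, g2⟩, h1, -, h5⟩ := h.classes k hy ha
  have c := h.cenB k hy ha
  have e1 := (cls_ordS 3).card (mem_ordS.mpr k.b.ox)
  rw [((cls_ordS 3).rm y).card (mem_rm.mpr ⟨mem_ordS.mpr c.ord, fun e => h.not27B k.b.ox k.y7
    (e.cc ▸ h.dvd_of_cen c)⟩), h1, card_ordS, h.m3, Finset.card_empty] at e1
  have e2 := ((nn_cases a).resolve_right fun e => e.1 (isConj_iff.mpr ⟨g, g2⟩)).2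
  have e3 := h.nnB k.b.ox k.y7
  obtain ⟨n, hn, h2⟩ := h.ccB k.b.ox k.y7
  obtain ⟨j, hj⟩ := Nat.Coprime.mul_dvd_of_dvd_of_dvd (by decide) (h.dvd_of_cen c) h5
  have h3 := h.cc_dvd' (.inr k.b.ox)
  rw [mul_right_comm] at h3
  have h4 := dvd_of_not 1 Nat.prime_five (h.not5 k.b.ox k.y7) h3
  rw [hn] at h4 e3
  rw [hj, h.card] at e2
  rw [hj, hn]
  rcases (by decide +kernel : ∀ d ∈ Nat.divisors 3072, d % 7 = 1 → d = 1 ∨ d = 8 ∨ d = 64 ∨ d = 512) n
    (Nat.mem_divisors.mpr ⟨Nat.dvd_of_mul_dvd_mul_left (by decide : 0 < 63) h4, by decide⟩) h2 with rfl | rfl | rfl | rfl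
  · omega
  · rw [show nn a = 226688 by omega] at e2; omega
  · rw [show nn a = 651728 by omega] at e2; omega
  · rw [show nn a = 704858 by omega] at e2; omega

theorem conj_ay (k : B7 y a z) (hy : y ∈ S) (ha : a ∈ S) (hw : orderOf w = 3) : IsConj a w ∨ IsConj y w := by
  obtain ⟨⟨g, -, g2⟩, h1, -⟩ := h.classes k hy ha
  by_contra! h2
  exact Finset.notMem_empty w (h1 ▸ mem_rm.mpr ⟨mem_rm.mpr ⟨mem_ordS.mpr hw, fun e =>
    h2.2 (e.isConj (h.realB k.b.ox k.y7))⟩, fun e => h2.1 (e.isConj (isConj_iff.mpr ⟨g, g2⟩))⟩)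

theorem cc3 (hx : orderOf x = 3) : cc x = 1080 ∨ cc x = 504 := by
  obtain ⟨y, a, z, k, hy, ha⟩ := h.exists_b7' (default : Sylow 3 G)
  exact (h.conj_ay k hy ha hx).imp (fun e => (cc_eq_of_isConj e).symm.trans (h.cc_ay k hy ha).1)
    fun e => (cc_eq_of_isConj e).symm.trans (h.cc_ay k hy ha).2

theorem realC (k : B7 y a z) (hy : y ∈ S) (ha : a ∈ S) (he : e ∈ XX a) : e⁻¹ ∈ clR (centralizer {a}) e := by
  have h1 : ∀ w, clR (centralizer {a}) w = clR (centralizer {a}) y →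
      clR (centralizer {a}) w⁻¹ = clR (centralizer {a}) y := fun w e => by
    obtain ⟨r, hr, rfl⟩ := mem_of_clR_eq e
    rw [conj_inv, clR_conj hr, ← k.zy, clR_conj (mem_centralizer_singleton_iff.mpr k.za)]
  refine mem_of_clR_eq (by_contra fun h2 => absurd ((Set.two_lt_ncard (s := clR (centralizer {a}) '' XX a)
    (Set.toFinite _)).mpr ⟨_, ⟨_, (b9_of_mem k.b.ou he).inv.mem_XX, rfl⟩, _, ⟨e, he, rfl⟩, _,
      ⟨y, k.b.swap.mem_XX, rfl⟩, h2, fun e1 => h2 (e1.trans ?_), fun e1 => h2 ((h1 e e1).trans e1.symm)⟩) ?_)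
  · simpa using (h1 _ e1).symm
  · rw [← kap, (h.classes k hy ha).2.2.1]; decide

theorem exists_e (k : B7 y a z) (hy : y ∈ S) (ha : a ∈ S) : ∃ e ∈ S, e ∉ zpowers a ∧ cc e = 1080 := by
  obtain ⟨⟨g, g1, g2⟩, -, h1, -⟩ := h.classes k hy ha
  have c := h.cenB k hy ha
  by_contra! h2
  refine absurd (kap_le (R := centralizer {a}) (X := XX a) [y] fun e he => ⟨y, by simp, ?_⟩) (by
    rw [h1, List.length_singleton]; decide)
  obtain ⟨w, hw, h3, h4⟩ := h.into c he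
  have b := h.b9 c hw h3
  obtain ⟨d, rfl, e1 | e1⟩ := h.adjust k hy ha b.mem_XX ((h.conj_ay k hy ha b.ou).resolve_left fun e =>
    h2 w hw h3 (cc_eq_of_isConj e ▸ (h.cc_ay k hy ha).1))
  · rw [← clR_eq h4, clR_conj (mem_centralizer_singleton_iff.mpr (mul_inv_eq_iff_eq_mul.mp e1))]
  · rw [← clR_eq h4, ← clR_conj (mem_centralizer_singleton_iff.mpr (comm_of_inv e1 g2)) y, mul_assoc d g, g1.eq]
    congr 1
    group

theorem no216 (hx : cc x = 1080) {L : Subgroup G} (hL : L ≤ centralizer {x}) : Nat.card L ≠ 216 := fun e => by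
  obtain ⟨N, h1, h2, h3, -⟩ := exists_core' hL (n := 5) (by rw [← cc, hx, e])
  obtain ⟨f, hf, h4⟩ := exists_mem_of_prime_dvd (R := centralizer {x}) Nat.prime_five (by rw [← cc, hx]; decide)
  have h5 := e ▸ card_dvd_of_le h1
  obtain ⟨R, hR, h6⟩ := exists_invariant_isSylowIn (zpowers_le.mpr (h2 hf)) (by
    rw [Nat.card_zpowers, h4]; exact Nat.Coprime.of_dvd_right h5 (by decide)) (.inl (isSolvable_zpowers f)) 3
  have h7 := ncard_modEq_commute Nat.prime_five h4 (X := R) fun u hu r hr => conj_mem_of_mem_normalizer (h6 hr) hu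
  change _ = FF R f % 5 at h7
  have h8 := card_mul_relIndex hR.le
  rw [← cc, hx] at h3
  have h9 : 3 ^ 2 ∣ Nat.card R := (Nat.Coprime.pow_left 2 ((Nat.Prime.coprime_iff_not_dvd Nat.prime_three).mpr
    hR.not_dvd)).dvd_of_dvd_mul_right (h8 ▸ Nat.dvd_of_mul_dvd_mul_left (by decide : 0 < 120) h3)
  obtain ⟨j, hj⟩ := IsPGroup.iff_card.mp hR.isPGroup
  have h10 : Nat.card R ∣ 27 := (hj ▸ Nat.Coprime.pow_left j (by decide)).dvd_of_dvd_mul_left
    (show _ ∣ 8 * 27 from (card_dvd_of_le hR.le).trans h5)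
  have h11 := Nat.dvd_gcd ((card_dvd_of_le (inf_le_left : R ⊓ centralizer {f} ≤ R)).trans h10)
    ((card_dvd_of_le inf_le_right).trans (h.cc5 h4).dvd)
  rw [ncard_coe, FF_eq] at h7
  exact (by decide : ∀ a ∈ Nat.divisors 27, ∀ b ∈ Nat.divisors 3, 3 ^ 2 ∣ a → a % 5 ≠ b % 5) _
    (Nat.mem_divisors.mpr ⟨h10, by decide⟩) _ (Nat.mem_divisors.mpr ⟨h11, by decide⟩) h9 h7

theorem card_CE' (b : B9 x e) : Nat.card (CE x e) = 9 * i2 x e ∧ i2 x e ∣ 2 ^ 10 := by
  have h1 := ((h.i2_facts b).2 (h.not27 b)).symm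
  have h2 := h.card_CE b
  have h3 := h.not27 b
  rw [h1] at h2 h3
  exact ⟨h1, dvd_of_not (p := 3) 1 Nat.prime_three (fun e => h3 (Nat.mul_dvd_mul_left 9 e))
    (Nat.dvd_of_mul_dvd_mul_left (by decide : 0 < 9) (h2.trans (by decide)))⟩

theorem norm_EE (hx : Cen S x) (he : e ∈ S) (hn : e ∉ zpowers x) : ↑S ≤ normalizer (EE x e : Set G) := fun p hp =>
  (h.b9 hx he hn).mem_norm' (by rw [(hx.comm p hp).eq, mul_inv_cancel_right]; exact left_mem_EE x e) (by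
    simpa using mul_mem (show _ ∈ EE x e from mem_sup_left (h.comm_mem hx hp he)) (right_mem_EE x e))

theorem i2_le (k : B7 y a z) (hy : y ∈ S) (ha : a ∈ S) (he : e ∈ S) (hn : e ∉ zpowers a) : i2 a e = 1 ∨ i2 a e = 2 := by
  have c := h.cenB k hy ha
  have b := h.b9 c he hn
  obtain ⟨h1, h2⟩ := h.card_CE' b
  set L := centralizer {a} ⊓ normalizer (EE a e : Set G)
  have h3 := card_clR L e
  have hS : ↑S ≤ L := le_inf c.le (h.norm_EE c he hn)
  have h4 : clR L e = (EE a e : Set G) \ zpowers a := Set.ext fun w => ⟨by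
      rintro ⟨r, hr, rfl⟩
      exact ⟨conj_mem_of_mem_normalizer (mem_inf.mp hr).2 (right_mem_EE a e),
        (b.conj' (mem_centralizer_singleton_iff.mp (mem_inf.mp hr).1)).h2⟩, fun hw => by
      obtain ⟨q, hq, rfl | rfl⟩ := b.dec hw.1 hw.2
      · exact (h.coset c he hn hq).imp fun r hr => ⟨hS hr.1, hr.2⟩
      · obtain ⟨r, hr, e1⟩ := h.realC k hy ha b.mem_XX
        refine (clR_eq ⟨r, mem_inf.mpr ⟨hr, b.mem_norm' ?_ (e1 ▸ inv_mem (right_mem_EE a e))⟩, e1⟩).le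
          ((h.coset c (inv_mem he) b.inv.h2 hq).imp fun r hr => ⟨hS hr.1, hr.2⟩)
        rw [mem_centralizer_singleton_iff.mp hr, mul_inv_cancel_right]
        exact left_mem_EE a e⟩
  rw [h4, Set.ncard_sdiff (show (zpowers a : Set G) ⊆ EE a e from le_sup_left (a := zpowers a)), ncard_coe, ncard_coe,
    b.card, Nat.card_zpowers, c.ord, inf_right_comm, inf_eq_left.mpr fun r hr => centralizer_le_normalizer _
      fun p hp => (b.commute (mem_CE.mp hr).1 (mem_CE.mp hr).2 hp).symm, h1] at h3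
  have h5 := card_dvd_of_le (inf_le_left : L ≤ _)
  have h6 := h.no216 (h.cc_ay k hy ha).1 (inf_le_left : L ≤ _)
  rw [← cc, (h.cc_ay k hy ha).1] at h5
  rw [← h3] at h5 h6
  exact (by decide +kernel : ∀ d ∈ Nat.divisors (2 ^ 10), 9 * d * (9 - 3) ∣ 1080 → 9 * d * (9 - 3) ≠ 216 →
    d = 1 ∨ d = 2) _ (Nat.mem_divisors.mpr ⟨h2, by decide⟩) h5 h6

theorem CE_y (k : B7 y a z) (hy : y ∈ S) (ha : a ∈ S) : CE a y ≤ EE a y := by
  obtain ⟨⟨g, g1, g2⟩, -⟩ := h.classes k hy ha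
  have b := k.b.swap
  have h1 := (h.card_CE' b).1
  refine (eq_of_le_of_card_ge b.EE_le_CE ?_).ge
  rcases h.i2_le k hy ha hy b.h2 with e | e <;> rw [e] at h1
  · rw [h1, b.card]
  exfalso
  have h2 : IsSylowIn 3 (EE y a) (centralizer {y}) := isSylowIn_of_card (k.b.EE_le_CE.trans inf_le_left) (by
    rw [← cc, (h.cc_ay k hy ha).2, k.b.card]; decide +kernel)
  have h3 := relIndex_normalizer_mod h2
  have h4 := card_inf_mul_relIndex (normalizer (EE y a : Set G)) (centralizer {y})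
  have h5 := card_clR (normalizer (EE y a : Set G) ⊓ centralizer {y}) a
  rw [show clR (normalizer (EE y a : Set G) ⊓ centralizer {y}) a = {a, a⁻¹} from Set.ext fun w => ⟨by
      rintro ⟨r, hr, rfl⟩
      exact h.fix_line k hy ha (conj_mem_of_mem_normalizer (mem_inf.mp hr).1 (right_mem_EE y a)), by
      rintro (rfl | rfl)
      exacts [mem_clR _ _, ⟨g, mem_inf.mpr ⟨k.b.mem_norm' (by
        rw [g1.eq, mul_inv_cancel_right]; exact left_mem_EE y a) (g2 ▸ inv_mem (right_mem_EE y a)),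
        mem_centralizer_singleton_iff.mpr g1⟩, g2⟩]⟩, Set.ncard_pair (ne_inv_of_three b.ox), inf_assoc,
    inf_eq_right.mpr fun r hr => centralizer_le_normalizer _
      fun p hp => (k.b.commute (mem_CE.mp hr).1 (mem_CE.mp hr).2 hp).symm, inf_comm, h1] at h5
  rw [← h5, ← cc, (h.cc_ay k hy ha).2] at h4
  omega

theorem CE_le (k : B7 y a z) (hy : y ∈ S) (ha : a ∈ S) (he : e ∈ S) (hn : e ∉ zpowers a) : CE a e ≤ EE a e := by
  have c := h.cenB k hy ha
  have b := h.b9 c he hn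
  have h1 := (h.card_CE' b).1
  refine (eq_of_le_of_card_ge b.EE_le_CE ?_).ge
  rcases h.i2_le k hy ha he hn with e1 | e1
  · rw [h1, e1, b.card]
  obtain ⟨u, hu, h2⟩ := exists_fixed_of_not_dvd Nat.prime_three S.isPGroup'
    (X := {u | u ^ 2 ^ 10 = 1 ∧ Commute u a ∧ Commute u e} \ {1}) (fun r hr u hu => ⟨⟨by
      rw [conj_pow, hu.1.1]; simp, ((c.comm r hr).mul_left hu.1.2.1).mul_left (c.comm r hr).inv_left, by
      simpa [mul_assoc] using commute_conj r (b.commute hu.1.2.1 hu.1.2.2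
        (inv_conj_mem_of_mem_normalizer (h.norm_EE c he hn hr) (right_mem_EE a e)))⟩,
      fun e => hu.2 (conj_eq_one_iff.mp e)⟩) (by
      rw [Set.ncard_sdiff_singleton_of_mem (s := {u | u ^ 2 ^ 10 = 1 ∧ Commute u a ∧ Commute u e})
        ⟨one_pow _, Commute.one_left a, Commute.one_left e⟩, ← i2, e1]; decide)
  exact absurd (eq_one_of_pow_eq_one_of_coprime (by decide) hu.1.1 (k.b.swap.cube (h.CE_y k hy ha
    (mem_CE.mpr ⟨hu.1.2.1, (h2 y hy).symm⟩)))) hu.2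

theorem no9 (ht : orderOf t = 2) : ¬ 9 ∣ cc t := fun h1 => by
  obtain ⟨x, hx, c1⟩ := exists_of_prime_dvd_cc Nat.prime_three (dvd_trans (by decide) h1)
  obtain ⟨K, -, k1, k2⟩ := Pres.exists_le_card_pow_succ (p := 3) (k := 1) (H := centralizer {t}) (P := zpowers x)
    (zpowers_le.mpr (mem_centralizer_singleton_iff.mpr c1)) (by rw [Nat.card_zpowers, hx]; rfl) h1
  obtain ⟨S, hS⟩ := (IsPGroup.of_card k2).exists_le_sylow
  obtain ⟨y, a, z, k, hy, ha⟩ := h.exists_b7' S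
  have c := h.cenB k hy ha
  obtain ⟨e, he, hn⟩ := SetLike.not_le_iff_exists.mp (show ¬ K ≤ zpowers a from fun e => by
    have := card_le_of_le e
    rw [k2, Nat.card_zpowers, c.ord] at this
    omega)
  have b := h.b9 c (hS he) hn
  have h2 := eq_of_le_of_card_ge (show K ≤ EE a e from fun w hw => h.mem_EE c (hS he) hn (hS hw)
    (comm_of_card_nine k2 hw he)) (by rw [k2, b.card]; rfl)
  have h3 := b.cube (h.CE_le k hy ha (hS he) hn (mem_CE.mpr ⟨(mem_centralizer_singleton_iff.mp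
    (k1 (h2.ge (left_mem_EE a e)))).symm, (mem_centralizer_singleton_iff.mp (k1 he)).symm⟩))
  exact absurd (ht ▸ orderOf_dvd_of_pow_eq_one h3) (by decide)

theorem centE (b : B9 x e) (h1 : Commute g x) (h2 : Commute g e) : g ∈ EE x e := by
  obtain ⟨h3, h4⟩ := h.card_CE' b
  refine le_of_no_involution b.EE_le_CE (k := 10) (by rw [h3, b.card, mul_comm]; exact Nat.mul_dvd_mul_right h4 9)
    (fun v hv h5 => h.no9 h5 (b.nine_dvd (mem_CE.mp hv).1 (mem_CE.mp hv).2)) (mem_CE.mpr ⟨h1, h2⟩)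

theorem eq_one_of_comm (b : B9 x e) (h0 : g * g = 1) (h1 : Commute g x) (h2 : Commute g e) : g = 1 :=
  eq_one_of_two_three h0 (b.cube (h.centE b h1 h2))

theorem exists_gl : ∃ x u : G, GLb x u := by
  obtain ⟨y, a, z, k, hy, ha⟩ := h.exists_b7' default
  have c := h.cenB k hy ha
  obtain ⟨e, he, hn, h1⟩ := h.exists_e k hy ha
  have b := h.b9 c he hn
  obtain ⟨g, g', l, l'⟩ := h.real_of c he hn (h1 ▸ by decide)
  obtain ⟨r, hr, e1⟩ := h.realC k hy ha b.mem_XX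
  have l2 : L9 a e r (1, 0) (0, 2) := b.l9 (by
    rw [ee_x, mem_centralizer_singleton_iff.mp hr, mul_inv_cancel_right]) (e1.trans b.ee_ui.symm)
  have h2 : ∀ w, ∃ g, L9 a e g (evM w).1 (evM w).2 := fun w => by
    induction w with
    | nil => exact ⟨1, L9.one a e⟩
    | cons i w ih =>
      obtain ⟨d, hd⟩ := ih
      rw [evM]
      split_ifs
      exacts [⟨_, l.mul hd⟩, ⟨_, l'.mul hd⟩, ⟨_, l2.mul hd⟩]
  refine ⟨a, e, b, fun p hp h3 => ?_, fun v w h3 => ?_⟩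
  · by_cases h4 : p ∈ zpowers a
    · rcases (mem_zpowers_three b.cx h4).resolve_left h3 with rfl | rfl
      exacts [(h.cc_ay k hy ha).1, (cc_inv a).trans (h.cc_ay k hy ha).1]
    · exact (h.rt_of_mem c he hn hp h4).cc.trans h1
  · obtain ⟨u, -, e2⟩ := exists_evM v w h3
    simpa [e2] using h2 u

theorem cc2_dvd (ht : orderOf t = 2) : cc t ∣ 107520 ∧ 5658 ≤ cc t := by
  refine ⟨?_, le_cc_of_mo (by rw [ht, h.m2, h.card]; decide)⟩
  have h1 := h.cc_dvd' (.inl ht)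
  have h2 := h.no9 ht
  by_cases h3 : 3 ∣ cc t
  · obtain ⟨k, hk⟩ := h3
    rw [hk] at h1 h2 ⊢
    exact Nat.mul_dvd_mul_left 3 (dvd_of_not (a := 35840) 2 Nat.prime_three (fun e => h2 (Nat.mul_dvd_mul_left 3 e))
      (Nat.dvd_of_mul_dvd_mul_left (by decide : 0 < 3) h1))
  · exact (dvd_of_not (a := 35840) 3 Nat.prime_three h3 h1).trans (by decide)

theorem cc2_7 (ht : orderOf t = 2) (h7 : 7 ∣ cc t) : cc t = 21504 := by
  obtain ⟨⟨j, hj⟩, h1⟩ := h.cc2_dvd ht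
  have h2 := nn_mul_kk (a := 7) (by decide) (by decide) ht fun _ hw e => .inl (h.conj2_7 ht h7 hw e)
  have h3 := ((nn_cases t).resolve_right fun e => e.1 (by rw [inv_of_two ht])).2
  have h4 := dvd_kk Nat.prime_seven h7
  rw [h.m14] at h2
  rw [h.card] at h3
  have h5 : cc t = 7 * kk 7 t := Nat.eq_of_mul_eq_mul_left (Nat.pos_of_ne_zero fun e => by simp [e] at h3)
    (by rw [mul_left_comm]; omega : nn t * cc t = nn t * (7 * kk 7 t))
  have h6 : j ≤ 19 := by by_contra; nlinarith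
  obtain ⟨s, hs, c1⟩ := exists_of_prime_dvd_cc Nat.prime_seven h7
  obtain ⟨a, ha, c2, -⟩ := h.exists_a hs ht (Commute.symm c1)
  have h8 := ha ▸ orderOf_dvd_cc c2
  interval_cases j <;> omega

theorem five_or (ht : orderOf t = 2) (h7 : ¬ 7 ∣ cc t) : 5 ∣ cc t ∧ cc t ≤ 15360 := by
  obtain ⟨h1, h2⟩ := h.cc2_dvd ht
  have h3 := dvd_of_not (a := 15360) 1 Nat.prime_seven h7 h1
  refine ⟨by_contra fun h5 => ?_, Nat.le_of_dvd (by decide) h3⟩
  have := Nat.le_of_dvd (by decide) (dvd_of_not (a := 3072) 1 Nat.prime_five h5 h3)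
  omega

theorem syl3 (ht : orderOf t = 2) (hx : orderOf x = 3) {D : Subgroup G} (h1 : x ∈ D) (hD : D ≤ centralizer {t}) :
    IsSylowIn 3 (zpowers x) D :=
  ⟨zpowers_le.mpr h1, IsPGroup.of_card (n := 1) (by rw [Nat.card_zpowers, hx]; rfl), fun e => h.no9 ht
    (dvd_trans (by rw [← card_mul_relIndex (zpowers_le.mpr h1), Nat.card_zpowers, hx]; exact Nat.mul_dvd_mul_left 3 e)
      (card_dvd_of_le hD))⟩

theorem conj_in (ht : orderOf t = 2) (hx : orderOf x = 3) (hw : orderOf w = 3) (h1 : Commute x t) (h2 : Commute w t) :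
    ∃ r, Commute r t ∧ (r * x * r⁻¹ = w ∨ r * x * r⁻¹ = w⁻¹) := by
  obtain ⟨r, hr, e⟩ := (h.syl3 ht hx (mem_centralizer_singleton_iff.mpr h1) le_rfl).exists_conj
    (h.syl3 ht hw (mem_centralizer_singleton_iff.mpr h2) le_rfl)
  exact ⟨r, mem_centralizer_singleton_iff.mp hr, (mem_zpowers_three (hw ▸ pow_orderOf_eq_one w)
    (e ▸ conj_mem_conj_smul r (mem_zpowers x))).resolve_left fun e => by simp [conj_eq_one_iff.mp e] at hx⟩

theorem same3 {t' : G} (ht : orderOf t = 2) (hc : IsConj t t') (hx : orderOf x = 3) (hw : orderOf w = 3)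
    (h1 : Commute x t) (h2 : Commute w t') : cc w = cc x := by
  obtain ⟨c, rfl⟩ := isConj_iff.mp hc
  obtain ⟨r, -, e | e⟩ := h.conj_in ((orderOf_conj' c t).trans ht) ((orderOf_conj' c x).trans hx) hw
    (commute_conj c h1) h2
  · rw [← e, cc_conj, cc_conj]
  · rw [← cc_inv, ← e, cc_conj, cc_conj]

theorem seven_dvd (ht : orderOf t = 2) (hx : orderOf x = 3) (hA : cc x = 1080) (hc : Commute x t) : 7 ∣ cc t := by
  obtain ⟨y, a, z, k, hy, ha⟩ := h.exists_b7' default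
  obtain ⟨c1, c2⟩ := h.cc_ay k hy ha
  obtain ⟨i, hi, c3⟩ := exists_of_prime_dvd_cc Nat.prime_two (g := y) (c2 ▸ by decide)
  by_contra h7
  have h1 : ¬ 7 ∣ cc i := fun e => by
    have := h.same3 k.oz (h.conj2_7 k.oz k.z7 hi e) k.b.ou k.b.ox k.za.symm c3.symm
    omega
  have := h.same3 ht (h.conj2_5 ht (h.five_or ht h7).1 hi (h.five_or hi h1).1) hx k.b.ox hc c3.symm
  omega

theorem cc2A (ht : orderOf t = 2) (hx : orderOf x = 3) (hA : cc x = 1080) (hc : Commute x t) : cc t = 21504 :=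
  h.cc2_7 ht (h.seven_dvd ht hx hA hc)

end N24

end Cfsg.Agent.Mat
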