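import Cfsg.Agent.Mat.M24E
import Cfsg.Agent.Mat.Data6
import Cfsg.Agent.Local.Fitting
import Cfsg.Agent.Char.Rec360

/-! The centralizer of an element of order 3 of the first kind. -/

set_option autoImplicit false
set_option linter.unusedSectionVars false

namespace Cfsg.Agent.Mat

open Subgroup MulAction Cfsg.Agent.M11 Cfsg.Agent.Local
open scoped Pointwise

/-- A central extension of the model. -/
structure Pi6 {K : Type*} [Group K] (π : K →* cl ms6) (x e : K) : Prop where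
  surj : Function.Surjective π
  ker : ∀ a, π a = 1 → a ∈ zpowers x
  cx : x ^ 3 = 1
  cen : ∀ a, Commute a x
  he : π e ∈ es6

namespace Pi6

variable {K : Type*} [Group K] [Finite K] {π : K →* cl ms6} {x e a b v w : K} (p : Pi6 π x e)
include p

theorem cube (ha : π a = 1) : a ^ 3 = 1 := by
  obtain ⟨k, rfl⟩ := mem_zpowers_iff.mp (p.ker a ha)
  rw [← zpow_natCast, ← zpow_mul, mul_comm, zpow_mul, zpow_natCast, p.cx, one_zpow]

theorem uniq (ha : a * a = 1) (hb : b * b = 1) (h : π a = π b) : a = b := by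
  have h1 : π (b⁻¹ * a) = 1 := by rw [map_mul, map_inv, h, inv_mul_cancel]
  have h2 : Commute (b⁻¹ * a) b := (mem_cent_zpowers.mpr (p.cen b) _ (p.ker _ h1))
  refine (inv_mul_eq_one.mp (eq_one_of_two_three ?_ (p.cube h1))).symm
  have h3 : b * (b⁻¹ * a) * (b * (b⁻¹ * a)) = 1 := by rwa [mul_inv_cancel_left]
  rwa [h2.mul_mul_mul_comm, hb, one_mul] at h3

theorem map (g : Good e v) : Good (π e) (π v) := by
  simp only [Good, ← map_inv, ← map_mul]
  exact ⟨by rw [g.1, map_one], fun h => g.2.1 (eq_one_of_two_three g.1 (p.cube h)), congrArg π g.2.2.1,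
    congrArg π g.2.2.2⟩

theorem exists_good : ∃ v, Good e v := by
  obtain ⟨m, h1, h2, h3, h4⟩ := fb1 _ p.he
  obtain ⟨a, rfl⟩ := p.surj m
  have e1 : π (a ^ 3) = π a := by rw [map_pow, pow_three, h1, mul_one]
  have e2 : a ^ 3 * a ^ 3 = 1 := by rw [← (Commute.refl a).mul_pow, p.cube ((map_mul π a a).trans h1)]
  rw [← e1] at h2 h3 h4
  generalize a ^ 3 = v at e2 h2 h3 h4
  have e3 : ∀ g w : K, w * w = 1 → g * w * g⁻¹ * (g * w * g⁻¹) = 1 := fun g w h => by
    rw [conj_mul, h, mul_one, mul_inv_cancel]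
  have e4 : v * (e * v * e⁻¹) = e * v * e⁻¹ * v := mul_inv_eq_iff_eq_mul.mp (p.uniq (e3 _ _ (e3 _ _ e2)) (e3 _ _ e2)
    (by simp only [map_mul, map_inv]; rw [h3, mul_inv_cancel_right]))
  refine ⟨v, e2, fun h => h2 (by rw [h, map_one]), e4, p.uniq (e3 _ _ (e3 _ _ e2)) ?_ (by simpa using h4)⟩
  rw [(show Commute (e * v * e⁻¹) v from e4.symm).mul_mul_mul_comm, e2, e3 _ _ e2, one_mul]

theorem trans (g : Good e v) (g' : Good e w) : ∃ q, q * e * q⁻¹ * e⁻¹ ∈ zpowers x ∧ q * v * q⁻¹ = w := by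
  obtain ⟨m, h1, h2⟩ := fb2 _ p.he _ (p.map g) _ (p.map g')
  obtain ⟨q, rfl⟩ := p.surj m
  exact ⟨q, p.ker _ (by simp only [map_mul, map_inv]; rw [h1, mul_inv_cancel]),
    p.uniq (by rw [conj_mul, g.1, mul_one, mul_inv_cancel]) g'.1 (by simpa using h2)⟩

theorem prod (g : Good e v) (ha : a * a = 1) (h1 : π (a * e * a⁻¹) = π e⁻¹) : a * v * a⁻¹ = v ∨
    a * v * a⁻¹ = e * v * e⁻¹ ∨ a * v * a⁻¹ = v * (e * v * e⁻¹) ∨ (a * v) ^ 9 = 1 ∨ (a * v) ^ 15 = 1 := by
  have e3 : ∀ r : K, r * v * r⁻¹ * (r * v * r⁻¹) = 1 := fun r => by rw [conj_mul, g.1, mul_one, mul_inv_cancel]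
  refine (fb3 _ p.he _ (p.map g) (π a) (by rw [← map_mul, ha, map_one]) (by simpa using h1)).imp
    (fun h => p.uniq (e3 a) g.1 (by simpa using h)) (Or.imp (fun h => p.uniq (e3 a) (e3 e) (by simpa using h))
      (Or.imp (fun h => p.uniq (e3 a) ?_ (by simpa using h)) (Or.imp (fun h => ?_) fun h => ?_)))
  · rw [(show Commute (e * v * e⁻¹) v from g.2.2.1.symm).mul_mul_mul_comm, g.1, e3, one_mul]
  · rw [show 9 = 3 * 3 from rfl, pow_mul, p.cube (by simpa using h)]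
  · rw [show 15 = 5 * 3 from rfl, pow_mul, p.cube (by simpa using h)]

end Pi6

variable {G : Type*} [Group G] [Finite G]

theorem card_cosK {x e : G} (hx : orderOf x = 3) (h : CE x e ≤ EE x e) (b : B9 x e) : Nat.card (cosK x e) ≤ 27 := by
  have h1 := card_clR (cosK x e) e
  have h2 := card_le_of_le (show cosK x e ⊓ centralizer {e} ≤ EE x e from fun g hg =>
    h (mem_CE.mpr ⟨(mem_inf.mp hg).1.1, mem_centralizer_singleton_iff.mp (mem_inf.mp hg).2⟩))
  have h3 := Set.ncard_le_ncard (s := clR (cosK x e) e) (t := (· * e) '' (zpowers x : Set G)) (by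
    rintro _ ⟨r, hr, rfl⟩; exact ⟨_, hr.2, by simp⟩)
  rw [Set.ncard_image_of_injective _ (mul_left_injective e), ncard_coe, Nat.card_zpowers, hx] at h3
  rw [b.card] at h2
  nlinarith

theorem alt6_quot {x : G} (ox : orderOf x = 3) (c : ∀ a, Commute a x) [(zpowers x).Normal] (hG : Nat.card G = 1080)
    (h9 : ∀ w, w ^ 27 = 1 → w ∉ zpowers x → Nat.card (cosK x w) ≤ 27) :
    Nonempty (G ⧸ zpowers x ≃* alternatingGroup (Fin 6)) := by
  have h1 : Nat.card (G ⧸ zpowers x) = 360 := by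
    have := card_eq_card_quotient_mul_card_subgroup (zpowers x)
    rw [hG, Nat.card_zpowers, ox] at this
    omega
  obtain ⟨P⟩ : Nonempty (Sylow 3 (G ⧸ zpowers x)) := inferInstance
  have h2 : Nat.card P = 9 := card_sylow_eq P 2 40 h1 (by decide)
  have h3 : ∀ s ∈ (P : Subgroup (G ⧸ zpowers x)), s ≠ 1 → centralizer {s} = P := fun s hs h0 => by
    refine (eq_of_le_of_card_ge (fun g hg => mem_centralizer_singleton_iff.mpr (comm_of_card_nine h2 hg hs)) ?_).symm
    obtain ⟨w, rfl⟩ := QuotientGroup.mk_surjective s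
    have h4 : w ^ 9 ∈ zpowers x := (QuotientGroup.eq_one_iff _).mp (by
      rw [QuotientGroup.mk_pow, ← h2]; exact orderOf_dvd_iff_pow_eq_one.mp (orderOf_dvd_natCard _ hs))
    have h5 := card_le_of_le (show (centralizer {(w : G ⧸ zpowers x)}).comap (QuotientGroup.mk' _) ≤ cosK x w from
      fun g hg => ⟨c g, (QuotientGroup.eq_one_iff _).mp (by
        have : (g : G ⧸ zpowers x) * w = w * g := mem_centralizer_singleton_iff.mp hg
        simp [this])⟩)
    rw [card_comap_mk', Nat.card_zpowers, ox] at h5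
    have h6 := h9 w (by
      rw [show 27 = 9 * 3 from rfl, pow_mul, ← orderOf_dvd_iff_pow_eq_one, ← ox]
      exact orderOf_dvd_of_mem_zpowers h4) fun e => h0 ((QuotientGroup.eq_one_iff _).mpr e)
    omega
  refine Char.alt6_of_360 P h2 h3 h1 fun hn => ?_
  obtain ⟨f, hf⟩ := exists_prime_orderOf_dvd_card' (G := G ⧸ zpowers x) 5 (h1 ▸ by decide)
  obtain ⟨s, hs, h4⟩ := exists_commute_of_not_dvd Nat.prime_five (hf ▸ pow_orderOf_eq_one f)
    (X := ((P : Subgroup (G ⧸ zpowers x)) : Set _) \ {1}) (fun u hu =>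
      ⟨hn.conj_mem u hu.1 f, fun e => hu.2 (conj_eq_one_iff.mp e)⟩)
    (by rw [Set.ncard_sdiff_singleton_of_mem (one_mem _), ncard_coe, h2]; decide)
  have := orderOf_dvd_natCard _ ((h3 s hs.1 hs.2).le (mem_centralizer_singleton_iff.mpr h4))
  rw [hf, h2] at this
  exact absurd this (by decide)

theorem exists_conj_hom {M : Type*} [Group M] {A : Subgroup M} {N : Subgroup G} [N.Normal] (F : G ⧸ N ≃* A) (d : A) :
    ∃ π : G →* A, Function.Surjective π ∧ (∀ a, π a = 1 ↔ a ∈ N) ∧ ∀ a, π a = d * F a * d⁻¹ :=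
  ⟨(F.trans (MulAut.conj d)).toMonoidHom.comp (QuotientGroup.mk' _), (F.trans (MulAut.conj d)).surjective.comp
    QuotientGroup.mk_surjective, fun a => conj_eq_one_iff.trans ((map_eq_one_iff F F.injective).trans
      (QuotientGroup.eq_one_iff a)), fun _ => rfl⟩

theorem exists_pi6 {x e : G} (ox : orderOf x = 3) (c : ∀ a, Commute a x) (hG : Nat.card G = 1080)
    (h9 : ∀ w, w ^ 27 = 1 → w ∉ zpowers x → Nat.card (cosK x w) ≤ 27) (he : e ^ 3 = 1) (hn : e ∉ zpowers x) :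
    ∃ π : G →* cl ms6, Pi6 π x e ∧ π x = 1 := by
  have hN : (zpowers x).Normal := ⟨fun n hn g => by
    rwa [← mem_cent_zpowers.mpr (c g) n hn, mul_inv_cancel_right]⟩
  obtain ⟨E⟩ := alt6_quot ox c hG h9
  obtain ⟨F⟩ : Nonempty (G ⧸ zpowers x ≃* cl ms6) := ⟨(E.trans ((alternatingGroup (Fin 6)).equivMapOfInjective
    (CP.equiv (n := 6)).toMonoidHom CP.equiv.injective)).trans (MulEquiv.subgroupCongr map_alt6.symm)⟩
  obtain ⟨d, hd⟩ := conj_es6 (F e) (by rw [← map_pow, ← QuotientGroup.mk_pow, he, QuotientGroup.mk_one, map_one])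
    fun e => hn ((QuotientGroup.eq_one_iff _).mp ((map_eq_one_iff F F.injective).mp e))
  obtain ⟨π, h1, h2, h3⟩ := exists_conj_hom F d
  rw [← h3] at hd
  exact ⟨π, ⟨h1, fun a => (h2 a).mp, by rw [← ox, pow_orderOf_eq_one], c, hd⟩, (h2 x).mpr (mem_zpowers x)⟩

namespace N24

variable (h : N24 G) {x e : G}
include h

theorem exists_pi (b : B9 x e) (hA : cc x = 1080) : ∃ π : centralizer {x} →* cl ms6,
    Pi6 π ⟨x, mem_centralizer_singleton_iff.mpr rfl⟩ ⟨e, mem_centralizer_singleton_iff.mpr b.comm.symm⟩ ∧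
      π ⟨x, mem_centralizer_singleton_iff.mpr rfl⟩ = 1 := by
  have m : ∀ a : centralizer {x}, a ∈ zpowers (⟨x, mem_centralizer_singleton_iff.mpr rfl⟩ : centralizer {x}) ↔
      a.1 ∈ zpowers x := fun a => by simp only [mem_zpowers_iff, Subtype.ext_iff, coe_zpow]
  refine exists_pi6 ((orderOf_mk x _).trans b.ox) (fun a => Subtype.ext (mem_centralizer_singleton_iff.mp a.2)) hA
    (fun w h1 h2 => ?_) (Subtype.ext b.cu) fun e => b.h2 ((m _).mp e)
  have b' : B9 x w := ⟨b.ox, h.cube' (congrArg Subtype.val h1), (mem_centralizer_singleton_iff.mp w.2).symm,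
    fun e => h2 ((m _).mpr e)⟩
  refine le_trans ?_ (card_cosK b.ox (fun g hg => h.centE b' (mem_CE.mp hg).1 (mem_CE.mp hg).2) b')
  rw [← card_map_of_injective (subtype_injective _)]
  refine card_le_of_le ?_
  rintro _ ⟨g, hg, rfl⟩
  exact ⟨mem_centralizer_singleton_iff.mp g.2, (m _).mp hg.2⟩

variable {v w a : G}

omit h in
theorem good_iff {K : Subgroup G} {e v : K} : Good e v ↔ Good e.1 v.1 := by
  simp only [Good, Subtype.ext_iff, ne_eq, coe_mul, coe_inv, coe_one]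

theorem exists_good (b : B9 x e) (hA : cc x = 1080) : ∃ v, Good e v ∧ Commute v x := by
  obtain ⟨π, p, -⟩ := h.exists_pi b hA
  obtain ⟨v, g⟩ := p.exists_good
  exact ⟨v, good_iff.mp g, mem_centralizer_singleton_iff.mp v.2⟩

theorem good_trans (b : B9 x e) (hA : cc x = 1080) (g : Good e v) (c : Commute v x) (g' : Good e w)
    (c' : Commute w x) : ∃ q i, L9 x e q (1, 0) (i, 1) ∧ q * v * q⁻¹ = w := by
  obtain ⟨π, p, -⟩ := h.exists_pi b hA
  obtain ⟨q, h1, h2⟩ := p.trans (v := ⟨v, mem_centralizer_singleton_iff.mpr c⟩)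
    (w := ⟨w, mem_centralizer_singleton_iff.mpr c'⟩) (good_iff.mpr g) (good_iff.mpr g')
  have h3 : Commute q.1 x := mem_centralizer_singleton_iff.mp q.2
  obtain ⟨k, hk⟩ := mem_zpowers_iff.mp h1
  obtain ⟨m, hm⟩ := b.exists_ee (zpow_mem (left_mem_EE x e) k)
  have h4 := b.mem_zpowers_iff.mp (hm ▸ zpow_mem (mem_zpowers x) k)
  refine ⟨q, m.1, b.l9 (by rw [h3.eq, mul_inv_cancel_right, ee_x]) ?_, congrArg Subtype.val h2⟩
  rw [← eq_mul_inv_iff_mul_eq.mp (show x ^ k = q.1 * e * q.1⁻¹ * e⁻¹ from congrArg Subtype.val hk), ← hm,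
    show (m.1, 1) = m + (0, 1) by ext <;> simp [h4], b.ee_add, ee_u]

theorem good_prod (b : B9 x e) (hA : cc x = 1080) (g : Good e v) (c : Commute v x) (ha : a * a = 1) (c' : Commute a x)
    (h1 : a * e * a⁻¹ * e ∈ zpowers x) : a * v * a⁻¹ = v ∨ a * v * a⁻¹ = e * v * e⁻¹ ∨
      a * v * a⁻¹ = v * (e * v * e⁻¹) ∨ (a * v) ^ 9 = 1 ∨ (a * v) ^ 15 = 1 := by
  obtain ⟨π, p, h2⟩ := h.exists_pi b hA
  obtain ⟨k, hk⟩ := mem_zpowers_iff.mp h1
  simpa only [Subtype.ext_iff, coe_mul, coe_inv, coe_one, coe_pow] using p.prod (a := ⟨a,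
    mem_centralizer_singleton_iff.mpr c'⟩) (v := ⟨v, mem_centralizer_singleton_iff.mpr c⟩) (good_iff.mpr g)
    (Subtype.ext ha) (by
      rw [← one_mul (π _⁻¹), ← one_zpow k, ← h2, ← map_zpow, ← map_mul]
      exact congrArg π (Subtype.ext (eq_mul_inv_of_mul_eq hk.symm)))

end N24

end Cfsg.Agent.Mat
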