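import Cfsg.Agent.Mat.M24F
import Cfsg.Agent.Mat.M23F

/-! Four-groups normalized by the group of order 9. -/

set_option autoImplicit false
set_option linter.unusedSectionVars false

namespace Cfsg.Agent.Mat

open Subgroup MulAction Cfsg.Agent.M11 Cfsg.Agent.Local
open scoped Pointwise

variable {G : Type*} [Group G] [Finite G]

/-- A four-group normalized by the group of order 9. -/
structure Vy (x u r : G) (V : Subgroup G) : Prop extends Four r V where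
  hr : r ∈ EE x u
  inv : EE x u ≤ normalizer (V : Set G)

theorem Vy.neg {x u r : G} {V : Subgroup G} (a : Vy x u r V) : Vy x u r⁻¹ V :=
  ⟨⟨(orderOf_inv r).trans a.ox, a.card, fun v hv => (a.cen v hv).inv_right⟩, inv_mem a.hr, a.inv⟩

theorem Vy.conj {x u r g : G} {V : Subgroup G} (a : Vy x u r V) (hg : g ∈ normalizer (EE x u : Set G)) :
    Vy x u (g * r * g⁻¹) (MulAut.conj g • V) :=
  ⟨a.toFour.conj g, conj_mem_of_mem_normalizer hg a.hr, fun p hp => by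
    rw [normalizer_conj_smul, mem_conj_smul_iff]
    exact a.inv (by simpa using inv_conj_mem_of_mem_normalizer hg hp)⟩

theorem Vy.r1 {x u r : G} {V : Subgroup G} (a : Vy x u r V) : r ≠ 1 := fun e => by simpa [e] using a.ox

theorem B9.exists_bas {x u r : G} (b : B9 x u) (hr : r ∈ EE x u) (h1 : r ≠ 1) : ∃ s ∈ EE x u, B9 r s := by
  by_contra! h2
  have h3 : ∀ s ∈ EE x u, s ∈ zpowers r := fun s hs => by_contra fun e =>
    h2 s hs ⟨b.ord hr h1, b.cube hs, b.comm' hr hs, e⟩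
  have := card_le_of_le (show EE x u ≤ zpowers r from h3)
  rw [b.card, Nat.card_zpowers, b.ord hr h1] at this
  omega

theorem pow_eq_one_of_two {B : Subgroup G} (hB : IsPGroup 2 B) {g : G} (hg : g ∈ B) : ∃ k, g ^ 2 ^ k = 1 :=
  (hB ⟨g, hg⟩).imp fun _ e => congrArg Subtype.val e

theorem eq_one_of_two {B : Subgroup G} (hB : IsPGroup 2 B) {g : G} (hg : g ∈ B) (h3 : g ^ 3 = 1) : g = 1 := by
  obtain ⟨k, hk⟩ := pow_eq_one_of_two hB hg
  exact eq_one_of_pow_eq_one_of_coprime (Nat.Coprime.pow_left k (by decide)) hk h3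

theorem four_of_good {e v : G} (g : Good e v) : Nat.card ↥(zpowers v ⊔ zpowers (e * v * e⁻¹)) = 4 ∧
    (e ^ 3 = 1 → e ∈ normalizer ((zpowers v ⊔ zpowers (e * v * e⁻¹) : Subgroup G) : Set G)) := by
  obtain ⟨h1, h2, h3, h4⟩ := g
  have h5 : e * v * e⁻¹ * (e * v * e⁻¹) = 1 := by rw [conj_mul, h1, mul_one, mul_inv_cancel]
  have h6 : orderOf v = 2 := orderOf_eq_prime ((pow_two v).trans h1) h2
  refine ⟨?_, fun _ => ?_⟩
  · rw [card_sup_of_disjoint (zpowers_le.mpr (centralizer_le_normalizer _ (mem_cent_zpowers.mpr h3.symm)))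
      (disjoint_def.mpr fun {b} e1 e2 => (mem_zpowers_two h1 e1).resolve_right fun e3 => ?_), Nat.card_zpowers,
      Nat.card_zpowers, orderOf_conj', h6]
    subst e3
    rcases mem_zpowers_two h5 e2 with e4 | e4
    · exact h2 e4
    · rw [← e4, ← e4, h1] at h4
      exact h2 h4
  · rw [mem_normalizer_iff_conj_smul_eq]
    refine eq_of_le_of_card_ge ?_ (card_conj_smul _ _).ge
    rw [smul_sup]
    refine sup_le ?_ ?_ <;> rintro _ ⟨_, ⟨k, rfl⟩, rfl⟩ <;> show e * _ ^ k * e⁻¹ ∈ _ <;> rw [← conj_zpow] <;>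
      refine zpow_mem ?_ k
    exacts [mem_sup_right (mem_zpowers _), h4 ▸ mul_mem (mem_sup_left (mem_zpowers _)) (mem_sup_right (mem_zpowers _))]

namespace N24

variable (h : N24 G) {x u r s v z g t a : G} {V V' Y B : Subgroup G} (k : GLb x u)
include h k

theorem eq_one2 (hB : IsPGroup 2 B) (hg : g ∈ B) (c : ∀ p ∈ EE x u, Commute p g) : g = 1 :=
  eq_one_of_two hB hg (k.cube (h.centE k.toB9 (c x (left_mem_EE x u)).symm (c u (right_mem_EE x u)).symm))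

theorem mod3 (hB : IsPGroup 2 B) {X : Set G} (hX : X ⊆ B) (h1 : 1 ∈ X)
    (hE : ∀ p ∈ EE x u, ∀ w ∈ X, p * w * p⁻¹ ∈ X) : X.ncard % 3 = 1 := by
  rw [ncard_modEq_fixed Nat.prime_three k.three hE, show {w | w ∈ X ∧ ∀ p ∈ EE x u, Commute p w} = {1} from
    Set.ext fun w => ⟨fun hw => h.eq_one2 k hB (hX hw.1) hw.2, by rintro rfl; exact ⟨h1, fun p _ => by simp⟩⟩,
    Set.ncard_singleton]

theorem card_cases (hB : IsPGroup 2 B) (hE : EE x u ≤ normalizer (B : Set G)) (hr : r ∈ EE x u) (h1 : r ≠ 1)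
    (hc : B ≤ centralizer {r}) : Nat.card B = 1 ∨ Nat.card B = 4 := by
  have h2 := h.mod3 k hB le_rfl (one_mem B) fun p hp w hw => conj_mem_of_mem_normalizer (hE hp) hw
  obtain ⟨n, hn⟩ := IsPGroup.iff_card.mp hB
  have h3 : Nat.card B ∣ 8 := (hn ▸ Nat.Coprime.pow_left n (by decide)).dvd_of_dvd_mul_right
    (show _ ∣ 8 * 135 from (card_dvd_of_le hc).trans (k.cA r hr h1).dvd)
  exact (by decide : ∀ d ∈ Nat.divisors 8, d % 3 = 1 → d = 1 ∨ d = 4) _ (Nat.mem_divisors.mpr ⟨h3, by decide⟩) h2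

theorem sqV (a : Vy x u r V) (hv : v ∈ V) : v * v = 1 := by
  have h1 := h.mod3 k a.two (X := {w | w ∈ V ∧ w * w = 1}) (fun w hw => hw.1) ⟨one_mem V, mul_one 1⟩
    fun p hp w hw => ⟨conj_mem_of_mem_normalizer (a.inv hp) hw.1, by rw [conj_mul, hw.2, mul_one, mul_inv_cancel]⟩
  obtain ⟨i, hi, h2⟩ := exists_mem_of_prime_dvd (R := V) Nat.prime_two (a.card ▸ by decide)
  have h3 : 1 < {w | w ∈ V ∧ w * w = 1}.ncard := (Set.one_lt_ncard (Set.toFinite _)).mpr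
    ⟨1, ⟨one_mem V, mul_one 1⟩, i, ⟨hi, sq_of_two h2⟩, fun e => by simp [← e] at h2⟩
  have h4 := Set.ncard_le_ncard (s := {w | w ∈ V ∧ w * w = 1}) (t := V) fun w hw => hw.1
  exact ((Set.eq_of_subset_of_ncard_le (s := {w | w ∈ V ∧ w * w = 1}) (t := V) (fun w hw => hw.1) (by
    rw [ncard_coe, a.card] at h4 ⊢; omega)).ge hv).2

theorem commV (a : Vy x u r V) (hv : v ∈ V) (hz : z ∈ V) : Commute v z :=
  comm_of_sq ((pow_two _).trans (h.sqV k a hv)) ((pow_two _).trans (h.sqV k a hz))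
    ((pow_two _).trans (h.sqV k a (mul_mem hv hz)))

theorem ordV (a : Vy x u r V) (hz : z ∈ V) (h1 : z ≠ 1) : orderOf z = 2 :=
  orderOf_eq_prime ((pow_two _).trans (h.sqV k a hz)) h1

theorem ccV (a : Vy x u r V) (hz : z ∈ V) (h1 : z ≠ 1) : cc z = 21504 :=
  h.cc2A (h.ordV k a hz h1) a.ox (k.cA r a.hr a.r1) (a.cen z hz).symm

theorem le_cent (a : Vy x u r V) : V ≤ centralizer (V : Set G) := fun _ hv _ hw => h.commV k a hw hv

theorem rot (a : Vy x u r V) (b : B9 r s) (hs : s ∈ EE x u) (hz : z ∈ V) (h3 : z ≠ 1) :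
    Good s z ∧ ∀ v ∈ V, v = 1 ∨ v = z ∨ v = s * z * s⁻¹ ∨ v = z * (s * z * s⁻¹) := by
  have h4 := conj_mem_of_mem_normalizer (a.inv hs) hz
  have h5 : ¬ Commute z s := fun e => h3 (h.eq_one_of_comm b (h.sqV k a hz) (a.cen z hz) e)
  have h6 : ∀ v ∈ V, _ := fun v hv => mem_four a.card hz h4 h3 (fun e => h3 (conj_eq_one_iff.mp e))
    (fun e => h5 (mul_inv_eq_iff_eq_mul.mp e).symm) (h.sqV k a hz) hv
  refine ⟨⟨h.sqV k a hz, h3, h.commV k a hz h4, ?_⟩, h6⟩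
  rcases h6 _ (conj_mem_of_mem_normalizer (a.inv hs) h4) with e | e | e | e
  · exact absurd (conj_eq_one_iff.mp (conj_eq_one_iff.mp e)) h3
  · have h7 : Commute z (s ^ 2) := (mul_inv_eq_iff_eq_mul.mp
      ((show s ^ 2 * z * (s ^ 2)⁻¹ = s * (s * z * s⁻¹) * s⁻¹ by rw [pow_two]; group).trans e)).symm
    have h8 := h7.pow_right 2
    rw [← pow_mul, pow_succ, b.cu, one_mul] at h8
    exact absurd h8 h5
  · exact absurd (mul_inv_eq_iff_eq_mul.mp (mul_left_cancel (mul_right_cancel e))).symm h5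
  · exact e

theorem rot' (a : Vy x u r V) (b : B9 r s) (hs : s ∈ EE x u) (hz : z ∈ V) (h3 : z ≠ 1) (hv : v ∈ V) (h1 : v ≠ 1) :
    ∃ j : ℕ, s ^ j * z * (s ^ j)⁻¹ = v := by
  obtain ⟨h4, h5⟩ := h.rot k a b hs hz h3
  rcases h5 v hv with rfl | rfl | rfl | rfl
  exacts [absurd rfl h1, ⟨0, by simp⟩, ⟨1, by simp⟩, ⟨2, by rw [← h4.2.2.2, pow_two]; group⟩]

theorem V_le (a : Vy x u r V) (hB : EE x u ≤ normalizer (B : Set G)) (hz : z ∈ V) (h3 : z ≠ 1) (h4 : z ∈ B) :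
    V ≤ B := fun v hv => by
  obtain ⟨s, hs, b⟩ := k.exists_bas a.hr a.r1
  by_cases h1 : v = 1
  · exact h1 ▸ one_mem _
  obtain ⟨j, rfl⟩ := h.rot' k a b hs hz h3 hv h1
  exact conj_mem_of_mem_normalizer (hB (pow_mem hs j)) h4

theorem exists_vy : ∃ V, Vy x u x V := by
  obtain ⟨v, g, c⟩ := h.exists_good k.toB9 (k.cA x (left_mem_EE x u) k.x1)
  have h1 : zpowers v ⊔ zpowers (u * v * u⁻¹) ≤ centralizer {x} := sup_le (zpowers_le.mpr
    (mem_centralizer_singleton_iff.mpr c)) (zpowers_le.mpr (mem_centralizer_singleton_iff.mpr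
      ((k.comm.symm.mul_left c).mul_left k.comm.symm.inv_left)))
  exact ⟨_, ⟨k.ox, (four_of_good g).1, fun w hw => mem_centralizer_singleton_iff.mp (h1 hw)⟩, left_mem_EE x u,
    EE_le (centralizer_le_normalizer _ fun w hw => mem_centralizer_singleton_iff.mp (h1 hw)) ((four_of_good g).2 k.cu)⟩

theorem trans0 (a : Vy x u x V) (a' : Vy x u x V') : ∃ q i, L9 x u q (1, 0) (i, 1) ∧ MulAut.conj q • V = V' := by
  obtain ⟨v, hv, h1, -⟩ := a.exists_ne 1
  obtain ⟨w, hw, h2, -⟩ := a'.exists_ne 1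
  obtain ⟨q, i, l, rfl⟩ := h.good_trans k.toB9 (k.cA x a.hr k.x1) (h.rot k a k.toB9 (right_mem_EE x u) hv h1).1
    (a.cen v hv) (h.rot k a' k.toB9 (right_mem_EE x u) hw h2).1 (a'.cen w hw)
  have a2 := a.conj (k.mem_norm l)
  exact ⟨q, i, l, (eq_of_le_of_card_ge (h.V_le k a' a2.inv hw h2 (conj_mem_conj_smul q hv))
    (a2.card.trans a'.card.symm).le).symm⟩

theorem transV {c d : ZMod 3 × ZMod 3} (a : Vy x u x V) (l : L9 x u g c d) (a' : Vy x u (ee x u c) Y) :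
    ∃ q i, L9 x u q (1, 0) (i, 1) ∧ MulAut.conj (g * q) • V = Y := by
  have a2 := a'.conj (inv_mem (k.mem_norm l))
  rw [← l.cx, show g⁻¹ * (g * x * g⁻¹) * g⁻¹⁻¹ = x by group] at a2
  obtain ⟨q, i, l', e⟩ := h.trans0 k a a2
  exact ⟨q, i, l', by rw [← conj_smul_conj_smul, e, map_inv, smul_inv_smul]⟩

theorem mem_of_l9 {c d : ZMod 3 × ZMod 3} (l : L9 x u g c d) (e : c = (1, 0) ∧ d = (0, 1) := by decide) :
    g ∈ EE x u :=
  h.centE k.toB9 (mul_inv_eq_iff_eq_mul.mp (l.cx.trans (e.1 ▸ ee_x x u)))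
    (mul_inv_eq_iff_eq_mul.mp (l.cu.trans (e.2 ▸ ee_u x u)))

theorem mem_of_l9' {c d : ZMod 3 × ZMod 3} (l : L9 x u g c d) (l' : L9 x u t c d) : t⁻¹ * g ∈ EE x u := by
  have e : ∀ v, Commute (t⁻¹ * g) (ee x u v) := fun v => mul_inv_eq_iff_eq_mul.mp (by
    calc _ = t⁻¹ * (g * ee x u v * g⁻¹) * t := by group
      _ = _ := by rw [l, ← l']; group)
  exact h.centE k.toB9 (ee_x x u ▸ e _) (ee_u x u ▸ e _)

theorem not_uni {j : ZMod 3} (a : Vy x u x V) (l : L9 x u g (1, 0) (j, 1)) (hg : g ∈ normalizer (V : Set G)) :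
    j = 0 := by
  obtain ⟨z, hz, h1, -⟩ := a.exists_ne 1
  obtain ⟨i, e⟩ := h.rot' k a k.toB9 (right_mem_EE x u) hz h1 (conj_mem_of_mem_normalizer hg hz)
    fun e => h1 (conj_eq_one_iff.mp e)
  have h2 := inv_mem (pow_mem (right_mem_EE x u) i)
  have c : Commute ((u ^ i)⁻¹ * g) z := mul_inv_eq_iff_eq_mul.mp (by
    calc _ = (u ^ i)⁻¹ * (g * z * g⁻¹) * u ^ i := by group
      _ = _ := by rw [← e]; group)
  have l2 : L9 x u ((u ^ i)⁻¹ * g) (1, 0) (j, 1) := ((k.l9 (a := (1, 0)) (c := (0, 1)) (by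
    rw [ee_x, (k.comm' h2 a.hr).eq, mul_inv_cancel_right]) (by
    rw [ee_u, (k.comm' h2 (right_mem_EE x u)).eq, mul_inv_cancel_right])).mul l).congr (by simp)
  generalize (u ^ i)⁻¹ * g = w at c l2
  have c' : Commute w x := mul_inv_eq_iff_eq_mul.mp (l2.cx.trans (ee_x x u))
  by_contra h3
  refine h.no9 (h.ordV k a hz h1) (B9.nine_dvd ⟨k.ox, h.cube' ?_, c'.symm, fun e => h3 ?_⟩ (a.cen z hz) c.symm)
  · rw [show 27 = 3 * 3 * 3 from rfl, pow_mul, pow_mul, k.cube (p := w ^ 3) (by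
      rw [pow_three]; exact h.mem_of_l9 k (l2.mul (l2.mul l2)) (by generalize j = m; revert m; decide)), one_pow]
  · have := l2.cu
    rw [(k.comm' (mem_sup_left e) (right_mem_EE x u)).eq, mul_inv_cancel_right] at this
    exact (congrArg Prod.fst (k.ee_inj ((ee_u x u).trans this))).symm

theorem exists_dg : ∃ V, Vy x u x V ∧ ∀ g c d, L9 x u g (c, 0) (0, d) → g ∈ normalizer (V : Set G) := by
  obtain ⟨V, a⟩ := h.exists_vy k
  obtain ⟨t, lt⟩ := k.gl (2, 0) (0, 2) (by decide)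
  obtain ⟨p, lp⟩ := k.gl (1, 0) (0, 2) (by decide)
  obtain ⟨q, i, lq, e⟩ := h.transV k a lt (by rw [k.ee_xi]; exact a.neg)
  obtain ⟨q', j, lq', e'⟩ := h.transV k a lp (by rw [ee_x]; exact a)
  obtain ⟨d, ld⟩ := k.gl (1, 0) (-j, 1) (by generalize j = m; revert m; decide)
  have l1 := lt.mul lq
  have ld' := ld.inv (1, 0) (j, 1) (by generalize j = m; revert m; decide)
  have l2 : L9 x u (d * (t * q) ^ 3 * d⁻¹) (2, 0) (0, 2) := by
    rw [pow_three]; exact ((ld.mul (l1.mul (l1.mul l1))).mul ld').congr (by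
      generalize i = n; generalize j = m; revert n m; decide)
  have l3 : L9 x u (d * (p * q') * d⁻¹) (1, 0) (0, 2) := ((ld.mul (lp.mul lq')).mul ld').congr (by generalize j = m; revert m; decide)
  have a2 := a.conj (k.mem_norm ld)
  rw [ld.cx, ee_x] at a2
  have n2 : d * (t * q) ^ 3 * d⁻¹ ∈ normalizer ((MulAut.conj d • V : Subgroup G) : Set G) :=
    normalizer_conj_smul d V ▸ conj_mem_conj_smul d (pow_mem (mem_normalizer_iff_conj_smul_eq.mpr e) 3)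
  have n3 : d * (p * q') * d⁻¹ ∈ normalizer ((MulAut.conj d • V : Subgroup G) : Set G) :=
    normalizer_conj_smul d V ▸ conj_mem_conj_smul d (mem_normalizer_iff_conj_smul_eq.mpr e')
  have m : ∀ {g n c d'}, L9 x u g c d' → L9 x u n c d' → n ∈ normalizer ((MulAut.conj d • V : Subgroup G) : Set G) →
      g ∈ normalizer ((MulAut.conj d • V : Subgroup G) : Set G) := fun l l' hn =>
    (mul_mem_cancel_left (inv_mem hn)).mp (a2.inv (h.mem_of_l9' k l l'))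
  refine ⟨_, a2, fun g c d l => ?_⟩
  rcases (by decide : ∀ c d : ZMod 3, c = 0 ∨ d = 0 ∨ c = 1 ∧ d = 1 ∨ c = 1 ∧ d = 2 ∨ c = 2 ∧ d = 2 ∨ c = 2 ∧ d = 1) c d
    with rfl | rfl | ⟨rfl, rfl⟩ | ⟨rfl, rfl⟩ | ⟨rfl, rfl⟩ | ⟨rfl, rfl⟩
  exacts [absurd (conj_eq_one_iff.mp (l.cx.trans (ee_zero x u))) k.x1,
    absurd (conj_eq_one_iff.mp (l.cu.trans (ee_zero x u))) k.u1, a2.inv (h.mem_of_l9 k l), m l l3 n3, m l l2 n2,
    m l (l2.mul l3).congr (mul_mem n2 n3)]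

theorem eq_one {c d : ZMod 3 × ZMod 3} (lt : L9 x u t (2, 0) (0, 2)) (l : L9 x u g c d) (hc : Commute g t)
    (e : c = (1, 0) ∧ d = (0, 1) := by decide) : g = 1 := by
  have h1 := h.mem_of_l9 k l e
  have h2 := k.neg lt ⟨rfl, rfl⟩ g h1
  rw [← hc.eq, mul_inv_cancel_right] at h2
  exact eq_one_of_two_three (mul_eq_one_iff_eq_inv.mpr h2) (k.cube h1)

theorem exists_comm (lt : L9 x u t (2, 0) (0, 2)) (c d : ZMod 3 × ZMod 3) (e : dt c d ≠ 0) :
    ∃ g, L9 x u g c d ∧ Commute g t := by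
  obtain ⟨g, lg⟩ := k.gl c d e
  have hg := k.mem_norm lg
  have t1 := k.neg lt
  have h1 : g * t * g⁻¹ * t⁻¹ ∈ EE x u := by
    have e : ∀ p ∈ EE x u, Commute (g * t * g⁻¹ * t⁻¹) p := fun p hp => comm_of_inv (by
      calc _ = g * (t * (g⁻¹ * p * g) * t⁻¹) * g⁻¹ := by group
        _ = _ := by rw [t1 _ (inv_conj_mem_of_mem_normalizer hg hp)]; group) (inv_inv_conj (t1 p hp))
    exact h.centE k.toB9 (e x (left_mem_EE x u)) (e u (right_mem_EE x u))
  have h3 := t1 _ (inv_mem h1)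
  have h4 := k.cube h1
  generalize hp : g * t * g⁻¹ * t⁻¹ = p at h1 h3 h4
  have lp : L9 x u p (1, 0) (0, 1) := k.l9 (by rw [ee_x, (k.comm' h1 (left_mem_EE x u)).eq, mul_inv_cancel_right])
    (by rw [ee_u, (k.comm' h1 (right_mem_EE x u)).eq, mul_inv_cancel_right])
  refine ⟨p * g, (lp.mul lg).congr (by simp), mul_inv_eq_iff_eq_mul.mp ?_⟩
  calc _ = p * (g * t * g⁻¹ * t⁻¹) * (t * p⁻¹ * t⁻¹) * t := by group
    _ = _ := by rw [hp, h3, inv_inv, ← pow_three', h4, one_mul]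

end N24

end Cfsg.Agent.Mat
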