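import Cfsg.Agent.Mat.M24G
import Cfsg.Agent.Local.Norm

/-! The centralizer of an involution of the first kind. -/

set_option autoImplicit false
set_option linter.unusedSectionVars false

namespace Cfsg.Agent.Mat

open Subgroup MulAction Cfsg.Agent.M11 Cfsg.Agent.Local
open scoped Pointwise

variable {G : Type*} [Group G] [Finite G]

theorem lift_conj {p : ℕ} [hp : Fact p.Prime] {Q : Subgroup G} [hQ : Q.Normal] (h : ¬ p ∣ Nat.card Q) {a b : G}
    (ha : orderOf a = p) (hb : orderOf b = p) (e : (a : G ⧸ Q) = b) :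
    ∃ n : G, (n : G ⧸ Q) ∈ zpowers (b : G ⧸ Q) ∧ n * a * n⁻¹ = b := by
  have h1 : Disjoint Q (zpowers b) := disjoint_of_coprime_natCard (by
    rw [Nat.card_zpowers, hb]; exact ((Nat.Prime.coprime_iff_not_dvd hp.out).mpr h).symm)
  have h2 := card_sup_of_disjoint (le_normalizer_of_normal' (zpowers b) Q) h1
  have h3 : ∀ c ∈ Q ⊔ zpowers b, orderOf c = p → IsSylowIn p (zpowers c) (Q ⊔ zpowers b) := fun c hc e =>
    ⟨zpowers_le.mpr hc, IsPGroup.of_card (n := 1) (by rw [Nat.card_zpowers, e, pow_one]), fun e' => h (by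
      have := card_mul_relIndex (zpowers_le.mpr hc)
      rw [h2, Nat.card_zpowers, Nat.card_zpowers, e, hb, mul_comm] at this
      exact Nat.eq_of_mul_eq_mul_right hp.out.pos this ▸ e')⟩
  obtain ⟨n, hn, e1⟩ := (h3 a (by
    rw [← mul_inv_cancel_left b a]
    exact mul_mem (mem_sup_right (mem_zpowers b)) (mem_sup_left (QuotientGroup.eq.mp e.symm))) ha).exists_conj
      (h3 b (mem_sup_right (mem_zpowers b)) hb)
  have h4 : (n : G ⧸ Q) ∈ zpowers (b : G ⧸ Q) := by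
    obtain ⟨q, hq, _, ⟨k, rfl⟩, rfl⟩ := (mem_sup_of_right_le_normalizer (le_normalizer_of_normal' _ Q)).mp hn
    exact ⟨k, by simp [(QuotientGroup.eq_one_iff q).mpr hq]⟩
  refine ⟨n, h4, mul_inv_eq_one.mp (disjoint_def.mp h1 ((QuotientGroup.eq_one_iff _).mp ?_)
    (mul_mem (e1 ▸ conj_mem_conj_smul n (mem_zpowers a)) (inv_mem (mem_zpowers b))))⟩
  obtain ⟨k, hk⟩ := mem_zpowers_iff.mp h4
  simp only [QuotientGroup.mk_mul, QuotientGroup.mk_inv, e, ← hk]
  group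

theorem orderOf_mk_eq {p : ℕ} [hp : Fact p.Prime] {Q : Subgroup G} [Q.Normal] (h : ¬ p ∣ Nat.card Q) {a : G}
    (ha : orderOf a = p) : orderOf (a : G ⧸ Q) = p :=
  orderOf_eq_prime (by rw [← QuotientGroup.mk_pow, ← ha, pow_orderOf_eq_one, QuotientGroup.mk_one])
    fun e => h (ha ▸ orderOf_dvd_natCard Q ((QuotientGroup.eq_one_iff a).mp e))

theorem cc_mk {p : ℕ} [hp : Fact p.Prime] {Q : Subgroup G} [Q.Normal] (h : ¬ p ∣ Nat.card Q) {a : G}
    (ha : orderOf a = p) : Nat.card ↥(Q ⊓ centralizer {a}) * cc (a : G ⧸ Q) ≤ cc a := by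
  rw [cc, cc, ← card_inf_mul_relIndex Q (centralizer {a})]
  refine Nat.mul_le_mul_left _ ?_
  conv_rhs => rw [← QuotientGroup.ker_mk' Q, relIndex_ker]
  refine card_le_of_le fun g hg => ?_
  obtain ⟨g, rfl⟩ := QuotientGroup.mk_surjective g
  obtain ⟨n, h1, h2⟩ := lift_conj h ((orderOf_conj' g a).trans ha) ha (by
    simpa using mul_inv_eq_iff_eq_mul.mpr (mem_centralizer_singleton_iff.mp hg))
  obtain ⟨k, hk⟩ := mem_zpowers_iff.mp h1
  refine ⟨(a ^ k)⁻¹ * (n * g), mul_mem (inv_mem (zpow_mem (mem_centralizer_singleton_iff.mpr rfl) k))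
    (mem_centralizer_singleton_iff.mpr (mul_inv_eq_iff_eq_mul.mp (Eq.trans (by group) h2))), by simp [hk]⟩

theorem exists_inverted (h : Cfsg.pCore 2 G = ⊥) {t : G} (ht : orderOf t = 2) :
    ∃ a y, IsConj t a ∧ (orderOf y).Prime ∧ orderOf y ≠ 2 ∧ a * y * a⁻¹ = y⁻¹ := by
  by_contra! h1
  obtain ⟨N, h2, h3, h4⟩ := baer_suzuki (p := 2) (x := t) fun a b ha hb => by
    have a2 := sq_of_two ((orderOf_eq_of_isConj ha).symm.trans ht)
    have b2 := sq_of_two ((orderOf_eq_of_isConj hb).symm.trans ht)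
    have h2 : a * (a * b) * a⁻¹ = (a * b)⁻¹ := by
      rw [← mul_assoc, a2, one_mul, mul_inv_rev, inv_eq_of_mul_eq_one_right b2]
    have h3 : IsPGroup 2 (zpowers (a * b)) := IsPGroup.of_card ((Nat.card_zpowers _).trans
      (Nat.eq_prime_pow_of_unique_prime_dvd (orderOf_pos _).ne' fun {d} hd e => by_contra fun h3 => by
        have h4 := orderOf_pow_orderOf_div (orderOf_pos (a * b)).ne' e
        exact h1 a _ ha (h4.symm ▸ hd) (h4.symm ▸ h3) (by rw [← conj_pow, h2, inv_pow])))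
    refine ((IsPGroup.of_card (n := 1) ((Nat.card_zpowers a).trans ((orderOf_eq_of_isConj ha).symm.trans
      ht))).to_sup_of_normal_right' h3 (zpowers_le.mpr (mem_normalizer_three (.inr h2)))).to_le
      (sup_le le_sup_left (zpowers_le.mpr ?_))
    exact (mul_mem_cancel_left (mem_sup_left (mem_zpowers a))).mp (mem_sup_right (mem_zpowers _))
  have := le_pCore h2 h3 h4
  rw [h, mem_bot] at this
  simp [this] at ht

theorem count3 (h : Cfsg.pCore 2 G = ⊥) {k : ℕ} (hG : Nat.card G = 2 ^ (k + 1) * 21)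
    (h7 : ∀ a s : G, orderOf s = 7 → a * s * a⁻¹ ≠ s⁻¹) : mo G 3 ≤ 147 := by
  obtain ⟨T⟩ : Nonempty (Sylow 2 G) := inferInstance
  have h1 := card_sylow_eq T _ 21 hG (by decide)
  obtain ⟨t, -, ht, h2⟩ := exists_central_involution h1
  have h3 := cc_mul t
  obtain ⟨j, hj⟩ := card_dvd_cc h2
  have h4 : {w | IsConj t w}.ncard ≤ 21 := by
    have := cc_pos t
    rw [hj, h1] at this h3
    rw [hG, mul_assoc, Nat.mul_right_inj (by positivity)] at h3
    exact Nat.le_of_dvd (by decide) (Dvd.intro_left _ h3)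
  obtain ⟨a, y, h5, h6, h8, h9⟩ := exists_inverted h ht
  have hy : orderOf y = 3 := by
    have h10 : orderOf y ∣ 21 := (Nat.Coprime.pow_right _ ((Nat.coprime_primes h6 Nat.prime_two).mpr
      h8)).dvd_of_dvd_mul_left (hG ▸ orderOf_dvd_natCard y)
    exact ((by decide : ∀ d ∈ Nat.divisors 21, d.Prime → d = 3 ∨ d = 7) _ (Nat.mem_divisors.mpr ⟨h10, by decide⟩)
      h6).resolve_right fun e => h7 a y e h9
  have h10 := ncard_mul_le (s := {g : G | orderOf g = 3}) (t := {w | IsConj t w} ×ˢ {w | IsConj t w})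
    (Set.toFinite _) (Set.toFinite _) (fun w q => q.1 * q.2 = w) (m := 3) (n := 1) (fun w hw => by
      obtain ⟨b, hb, h10⟩ : ∃ b, IsConj t b ∧ b * w * b⁻¹ = w⁻¹ := by
        obtain ⟨c, hc⟩ := exists_conj_zpowers (p := 3) (m := 2 ^ (k + 1) * 7) (by rw [hG]; ring) (fun e => absurd
          (((Nat.coprime_primes Nat.prime_three Nat.prime_two).mpr (by decide)).pow_right _ |>.dvd_of_dvd_mul_left e)
          (by decide)) hy hw
        obtain ⟨i, rfl⟩ := mem_zpowers_iff.mp (hc ▸ mem_zpowers w)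
        refine ⟨c * a * c⁻¹, h5.trans (isConj_iff.mpr ⟨c, rfl⟩), ?_⟩
        rw [← conj_zpow, ← inv_zpow, conj_inv (a := y), ← h9]
        congr 1
        group
      have b2 := sq_of_two ((orderOf_eq_of_isConj hb).symm.trans ht)
      have h11 : ∀ i : ℕ, (w ^ i * b * (w ^ i)⁻¹, w ^ (i + 1) * b * (w ^ (i + 1))⁻¹) ∈
          {q | q ∈ {w | IsConj t w} ×ˢ {w | IsConj t w} ∧ q.1 * q.2 = w} := fun i =>
        ⟨⟨hb.trans (isConj_iff.mpr ⟨_, rfl⟩), hb.trans (isConj_iff.mpr ⟨_, rfl⟩)⟩, by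
          calc _ = w ^ i * (b * w * b⁻¹) * (b * b) * w⁻¹ * (w ^ i)⁻¹ := by simp only; group
            _ = w * (w ^ 3)⁻¹ := by rw [h10, b2]; group
            _ = w := by rw [← show orderOf w = 3 from hw, pow_orderOf_eq_one, inv_one, mul_one]⟩
      have h12 : ¬ Commute w b := fun e => ne_inv_of_three hw (by rw [← h10, ← e.eq, mul_inv_cancel_right])
      have h13 : ∀ i : ℕ, w ^ i * b * (w ^ i)⁻¹ ≠ w ^ (i + 1) * b * (w ^ (i + 1))⁻¹ := fun i e =>
        h12 (mul_inv_eq_iff_eq_mul.mp (by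
          calc _ = (w ^ i)⁻¹ * (w ^ (i + 1) * b * (w ^ (i + 1))⁻¹) * w ^ i := by group
            _ = _ := by rw [← e]; group))
      refine (Set.two_lt_ncard (Set.toFinite _)).mpr ⟨_, h11 0, _, h11 1, _, h11 2, fun e => h13 0 (congrArg Prod.fst e),
        fun e => h13 2 ?_, fun e => h13 1 (congrArg Prod.fst e)⟩
      rw [show w ^ (2 + 1) = w ^ 0 by rw [pow_zero, ← show orderOf w = 2 + 1 from hw, pow_orderOf_eq_one]]
      exact (congrArg Prod.fst e).symm)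
    fun q _ => (Set.ncard_le_one (Set.toFinite _)).mpr fun a ha b hb => ha.2.symm.trans hb.2
  rw [Set.ncard_prod] at h10
  have := Nat.mul_le_mul h4 h4
  rw [mo]
  omega

theorem card_dvd_of_mul {K : Subgroup G} {X : Set G} (h : ∀ a ∈ X, ∀ k ∈ K, a * k ∈ X) : Nat.card K ∣ X.ncard :=
  dvd_ncard_of_fibers (Set.toFinite X) (fun a => (a : G ⧸ K)) fun a ha => by
    rw [show {x | x ∈ X ∧ (x : G ⧸ K) = a} = (a * ·) '' (K : Set G) from Set.ext fun x => ⟨fun hx =>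
      ⟨_, QuotientGroup.eq.mp hx.2.symm, by simp⟩, by
        rintro ⟨k, hk, rfl⟩; exact ⟨h a ha k hk, QuotientGroup.mk_mul_of_mem a hk⟩⟩,
      Set.ncard_image_of_injective _ (mul_right_injective a), ncard_coe]

/-- The data in the centralizer of the involution. -/
structure CZ (z x s τ v : G) (V : Subgroup G) : Prop where
  card : Nat.card G = 21504
  oz : orderOf z = 2
  cen : ∀ g, Commute g z
  ox : orderOf x = 3
  cx : cc x ∣ 24
  os : orderOf s = 7
  cs : cc s ∣ 42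
  xs : x ∈ normalizer (zpowers s : Set G)
  nc : ¬ Commute x s
  r7 : ∀ a w : G, orderOf w = 7 → a * w * a⁻¹ ≠ w⁻¹
  tx : τ * x * τ⁻¹ = x⁻¹
  cV : Nat.card V = 4
  Vx : V ≤ centralizer {x}
  zV : z ∈ V
  vV : v ∈ V
  v1 : v ≠ 1
  vz : v ≠ z
  mem : ∀ d ∈ Cfsg.pCore 2 G, Commute d x → Commute d v → d ∈ V

/-- The elements which are central involutions modulo `z`. -/
def K1 (z : G) [(zpowers z).Normal] (Q : Subgroup G) : Subgroup G where
  carrier := {q | q ∈ Q ∧ (q : G ⧸ zpowers z) * q = 1 ∧ ∀ r ∈ Q, Commute (q : G ⧸ zpowers z) r}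
  one_mem' := ⟨one_mem Q, by simp, fun r _ => by simp⟩
  mul_mem' := fun {a b} ha hb => ⟨mul_mem ha.1 hb.1, by
    rw [QuotientGroup.mk_mul, (hb.2.2 a ha.1).mul_mul_mul_comm, ha.2.1, hb.2.1, one_mul],
    fun r hr => (ha.2.2 r hr).mul_left (hb.2.2 r hr)⟩
  inv_mem' := fun {a} ha => ⟨inv_mem ha.1, by rw [QuotientGroup.mk_inv, ← mul_inv_rev, ha.2.1, inv_one],
    fun r hr => (ha.2.2 r hr).inv_left⟩

namespace CZ

variable {z x s τ v : G} {V : Subgroup G} (k : CZ z x s τ v V)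
include k

theorem z1 : z ≠ 1 := fun e => by simpa [e] using k.oz

theorem normal : (zpowers z).Normal := ⟨fun n hn g => by
  rwa [← mem_cent_zpowers.mpr (k.cen g) n hn, mul_inv_cancel_right]⟩

theorem zQ : zpowers z ≤ Cfsg.pCore 2 G :=
  le_pCore k.normal (IsPGroup.of_card (n := 1) ((Nat.card_zpowers z).trans k.oz))

theorem mod7 {X : Set G} (hX : X ⊆ Cfsg.pCore 2 G) (h1 : 1 ∈ X) (h2 : z ∈ X) (h3 : ∀ w ∈ X, ∀ g, g * w * g⁻¹ ∈ X) :
    X.ncard % 7 = 2 := by
  obtain ⟨n, hn⟩ := IsPGroup.iff_card.mp ((isPGroup_pCore (G := G) 2).to_inf_left (K := centralizer {s}))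
  have h4 : Nat.card ↥(Cfsg.pCore 2 G ⊓ centralizer {s}) ∣ 2 := (hn ▸ Nat.Coprime.pow_left n
    (by decide)).dvd_of_dvd_mul_right (show _ ∣ 2 * 21 from (card_dvd_of_le inf_le_right).trans k.cs)
  have h5 := eq_of_le_of_card_ge (le_inf k.zQ (zpowers_le.mpr (mem_centralizer_singleton_iff.mpr (k.cen s).symm)))
    ((Nat.le_of_dvd two_pos h4).trans ((Nat.card_zpowers z).trans k.oz).ge)
  rw [ncard_modEq_commute Nat.prime_seven k.os fun w hw r _ => h3 w hw r, show {w | w ∈ X ∧ Commute w s} = {1, z} from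
    Set.ext fun w => ⟨fun hw => mem_zpowers_two (sq_of_two k.oz) (h5.ge (mem_inf.mpr ⟨hX hw.1,
      mem_centralizer_singleton_iff.mpr hw.2⟩)), by
        rintro (rfl | rfl); exacts [⟨h1, Commute.one_left s⟩, ⟨h2, (k.cen s).symm⟩]⟩, Set.ncard_pair k.z1.symm]

theorem mod3 (N : Subgroup G) [hN : N.Normal] : Nat.card N % 3 = Nat.card ↥(N ⊓ centralizer {x}) % 3 := by
  rw [← FF_eq]
  exact ncard_modEq_commute Nat.prime_three k.ox (X := N) fun w hw r _ => hN.conj_mem w hw r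

theorem dvd8 : Nat.card ↥(Cfsg.pCore 2 G ⊓ centralizer {x}) ∣ 8 ∧ 2 ∣ Nat.card ↥(Cfsg.pCore 2 G ⊓ centralizer {x}) := by
  obtain ⟨n, hn⟩ := IsPGroup.iff_card.mp ((isPGroup_pCore (G := G) 2).to_inf_left (K := centralizer {x}))
  exact ⟨(hn ▸ Nat.Coprime.pow_left n (by decide)).dvd_of_dvd_mul_right
    (show _ ∣ 8 * 3 from (card_dvd_of_le inf_le_right).trans k.cx), k.oz.symm.dvd.trans (orderOf_dvd_natCard _
      (mem_inf.mpr ⟨k.zQ (mem_zpowers z), mem_centralizer_singleton_iff.mpr (k.cen x).symm⟩))⟩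

theorem cardQ : Nat.card (Cfsg.pCore 2 G) = 128 := by
  obtain ⟨n, hn⟩ := IsPGroup.iff_card.mp (isPGroup_pCore (G := G) 2)
  have h0 : ∀ p, p.Prime → p ≠ 2 → ¬ p ∣ Nat.card (Cfsg.pCore 2 G) := fun p hp h e =>
    h ((Nat.prime_dvd_prime_iff_eq hp Nat.prime_two).mp (hp.dvd_of_dvd_pow (hn ▸ e)))
  have h1 := k.mod7 (X := Cfsg.pCore 2 G) le_rfl (one_mem _) (k.zQ (mem_zpowers z))
    fun w hw g => (pCore_normal 2 G).conj_mem w hw g
  have h2 := card_eq_card_quotient_mul_card_subgroup (Cfsg.pCore 2 G)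
  have h3 : Nat.card (Cfsg.pCore 2 G) ∣ 1024 := (hn ▸ Nat.Coprime.pow_left n (by decide)).dvd_of_dvd_mul_right
    (show _ ∣ 1024 * 21 from (card_subgroup_dvd_card _).trans k.card.dvd)
  have h4 := orderOf_mk_eq (h0 3 Nat.prime_three (by decide)) k.ox
  have h5 := cc_mk (h0 3 Nat.prime_three (by decide)) k.ox
  have h6 := cc_mul (x : G ⧸ Cfsg.pCore 2 G)
  have h7 := Set.ncard_le_ncard (s := {w | IsConj (x : G ⧸ Cfsg.pCore 2 G) w}) (t := {g | orderOf g = 3})
    fun w hw => (orderOf_eq_of_isConj hw).symm.trans h4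
  have h8 : ∀ j, Nat.card (G ⧸ Cfsg.pCore 2 G) = 2 ^ (j + 1) * 21 → mo (G ⧸ Cfsg.pCore 2 G) 3 ≤ 147 := fun j e =>
    count3 (pCore_quotient_eq_bot 2) e fun a w hw e => by
      obtain ⟨a, rfl⟩ := QuotientGroup.mk_surjective a
      obtain ⟨y, rfl, hy⟩ : ∃ y : G, (y : G ⧸ Cfsg.pCore 2 G) = w ∧ orderOf y = 7 := by
        obtain ⟨c, hc⟩ := exists_conj_zpowers (p := 7) (m := 2 ^ (j + 1) * 3) (by rw [‹Nat.card _ = _ * 21›]; ring)
          (fun e => absurd (((Nat.coprime_primes Nat.prime_seven Nat.prime_two).mpr (by decide)).pow_right _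
            |>.dvd_of_dvd_mul_left e) (by decide)) (orderOf_mk_eq (h0 7 Nat.prime_seven (by decide)) k.os) hw
        obtain ⟨c, rfl⟩ := QuotientGroup.mk_surjective c
        obtain ⟨i, rfl⟩ := mem_zpowers_iff.mp (hc ▸ mem_zpowers w)
        refine ⟨(c * s * c⁻¹) ^ i, rfl, orderOf_eq_prime ?_ fun e => ?_⟩
        · rw [← zpow_natCast, ← zpow_mul, mul_comm, zpow_mul, zpow_natCast, conj_pow, ← k.os, pow_orderOf_eq_one]
          simp
        · rw [show ((c : G ⧸ Cfsg.pCore 2 G) * s * (c : G ⧸ Cfsg.pCore 2 G)⁻¹) ^ i = 1 from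
            congrArg (fun g : G => (g : G ⧸ Cfsg.pCore 2 G)) e] at hw
          simp at hw
      obtain ⟨m, -, hm⟩ := lift_conj (h0 7 Nat.prime_seven (by decide)) ((orderOf_conj' a y).trans hy)
        ((orderOf_inv y).trans hy) e
      exact k.r7 (m * a) y hy (Eq.trans (by group) hm)
  obtain ⟨h9, h10⟩ := k.dvd8
  have h11 := k.mod3 (Cfsg.pCore 2 G)
  have h12 := Nat.le_of_dvd (by decide) k.cx
  have h13 := Nat.le_of_dvd Nat.card_pos h10
  have h14 := Nat.le_of_dvd (by decide) h9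
  rw [ncard_coe] at h1
  rw [k.card] at h2
  rw [← mo] at h7
  rcases (by decide +kernel : ∀ d ∈ Nat.divisors 1024, d % 7 = 2 → d = 2 ∨ d = 16 ∨ d = 128 ∨ d = 1024) _
    (Nat.mem_divisors.mpr ⟨h3, by decide⟩) h1 with e | e | e | e <;> rw [e] at h2 h11
  · have := Nat.mul_le_mul_left (cc (x : G ⧸ Cfsg.pCore 2 G)) (h7.trans (h8 8 (by omega)))
    have := Nat.mul_le_mul_right (cc (x : G ⧸ Cfsg.pCore 2 G)) h13
    omega
  · have := Nat.mul_le_mul_left (cc (x : G ⧸ Cfsg.pCore 2 G)) (h7.trans (h8 5 (by omega)))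
    rw [show Nat.card ↥(Cfsg.pCore 2 G ⊓ centralizer {x}) = 4 by omega] at h5
    omega
  · exact e
  · have h15 : ((τ : G ⧸ Cfsg.pCore 2 G) * τ) ^ 11 = τ := by
      rw [← pow_two, ← pow_mul, pow_succ, ← show Nat.card (G ⧸ Cfsg.pCore 2 G) = 21 by omega, pow_card_eq_one', one_mul]
    have h16 : Commute (τ : G ⧸ Cfsg.pCore 2 G) x := h15 ▸ ((comm_of_inv k.tx k.tx).map
      (QuotientGroup.mk' _)).pow_left 11
    exact absurd (by rw [← QuotientGroup.mk_inv, ← k.tx]; simp [h16.eq]) (ne_inv_of_three h4)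

theorem cases7 {N : Subgroup G} (hN : N.Normal) (h1 : N ≤ Cfsg.pCore 2 G) (h2 : z ∈ N) :
    Nat.card N = 2 ∨ Nat.card N = 16 ∨ Nat.card N = 128 :=
  (by decide +kernel : ∀ d ∈ Nat.divisors 128, d % 7 = 2 → d = 2 ∨ d = 16 ∨ d = 128) _ (Nat.mem_divisors.mpr
    ⟨k.cardQ ▸ card_dvd_of_le h1, by decide⟩) (k.mod7 (X := N) h1 (one_mem N) h2 fun w hw g => hN.conj_mem w hw g)

variable [hz : (zpowers z).Normal]

theorem K1_normal : (K1 z (Cfsg.pCore 2 G)).Normal := ⟨fun n hn g => ⟨(pCore_normal 2 G).conj_mem n hn.1 g, by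
  simp only [QuotientGroup.mk_mul, QuotientGroup.mk_inv, conj_mul, hn.2.1, mul_one, mul_inv_cancel], fun r hr => by
    simpa [mul_assoc] using commute_conj (g : G ⧸ zpowers z) (hn.2.2 _ ((pCore_normal 2 G).conj_mem' r hr g))⟩⟩

theorem z_mem : z ∈ K1 z (Cfsg.pCore 2 G) := by
  have := (QuotientGroup.eq_one_iff z).mpr (mem_zpowers z)
  exact ⟨k.zQ (mem_zpowers z), by simp [this], fun r _ => by simp [this]⟩

theorem not_le : ¬ K1 z (Cfsg.pCore 2 G) ≤ zpowers z := fun h => by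
  have h1 := card_inf_mul_relIndex (zpowers z) (Cfsg.pCore 2 G)
  rw [inf_eq_left.mpr k.zQ, Nat.card_zpowers, k.oz, k.cardQ, ← QuotientGroup.ker_mk' (zpowers z), relIndex_ker] at h1
  obtain ⟨_, ⟨w, hw, rfl⟩, h2, h3⟩ := exists_central_involution (k := 5)
    (P := (Cfsg.pCore 2 G).map (QuotientGroup.mk' (zpowers z))) (by omega)
  have h4 := (QuotientGroup.eq_one_iff w).mpr (h ⟨hw, sq_of_two h2, fun r hr => (h3 _ (mem_map_of_mem _ hr)).symm⟩)
  rw [QuotientGroup.mk'_apply, h4, orderOf_one] at h2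
  omega

theorem cardD : Nat.card ↥(Cfsg.pCore 2 G ⊓ centralizer {x}) = 8 := by
  obtain ⟨h1, h2⟩ := k.dvd8
  have h3 := k.mod3 (Cfsg.pCore 2 G)
  have h4 := Nat.le_of_dvd (by decide) h1
  rw [k.cardQ] at h3
  by_contra h5
  have h6 := eq_of_le_of_card_ge (le_inf k.zQ (zpowers_le.mpr (mem_centralizer_singleton_iff.mpr (k.cen x).symm)))
    (by rw [Nat.card_zpowers, k.oz]; omega)
  have hK := k.K1_normal
  have h7 : Nat.card (K1 z (Cfsg.pCore 2 G)) ∣ 2 ^ 7 := (card_dvd_of_le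
    (show K1 z (Cfsg.pCore 2 G) ≤ Cfsg.pCore 2 G from fun _ h => h.1)).trans k.cardQ.dvd
  have h8 : (Nat.card (zpowers s)).Coprime (Nat.card (K1 z (Cfsg.pCore 2 G))) := by
    rw [Nat.card_zpowers, k.os]; exact Nat.Coprime.of_dvd_right h7 (by decide)
  have h9 := le_centralizer_of_commutator_le_of_coprime (le_normalizer_of_normal' _ _) h8
    (commutator_le_of_frobenius (K := K1 z (Cfsg.pCore 2 G)) (S := zpowers z) (F := zpowers s) (C := zpowers x)
      (commutator_le.mpr fun a ha b hb => (QuotientGroup.eq_one_iff _).mp (by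
        simpa [commutatorElement_def] using commutatorElement_eq_one_iff_commute.mpr (ha.2.2 b hb.1)))
      (le_normalizer_of_normal' _ _) (le_normalizer_of_normal' _ _) (le_normalizer_of_normal' _ _)
      (le_normalizer_of_normal' _ _) (zpowers_le.mpr k.xs) (fun c hc c1 y hy e => by_contra fun y1 => k.nc (by
        have e1 : Commute x y := by
          rcases (mem_zpowers_three (k.ox ▸ pow_orderOf_eq_one x) hc).resolve_left c1 with rfl | rfl
          exacts [e, Commute.inv_left_iff.mp e]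
        obtain ⟨i, rfl⟩ := mem_zpowers_iff.mp ((eq_zpowers_of_card ((Nat.card_zpowers s).trans k.os)
          (orderOf_eq_prime (orderOf_dvd_iff_pow_eq_one.mp (k.os ▸ orderOf_dvd_of_mem_zpowers hy)) y1) hy).ge
            (mem_zpowers s))
        exact e1.zpow_right i)) h8 (by rw [Nat.card_zpowers, k.ox]; exact Nat.Coprime.of_dvd_right h7 (by decide))
      (.inl (isSolvable_zpowers x)) fun w hw => h6.ge (mem_inf.mpr ⟨(mem_inf.mp hw).1.1,
        mem_centralizer_singleton_iff.mpr (mem_cent_zpowers.mp (mem_inf.mp hw).2)⟩))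
    (zpowers_le.mpr (mem_cent_zpowers.mpr (k.cen s))) (mem_zpowers s)
  have h10 := k.mod7 (X := K1 z (Cfsg.pCore 2 G)) (fun _ h => h.1) (one_mem _) k.z_mem fun w hw g => hK.conj_mem w hw g
  have h11 := (card_dvd_of_le (show K1 z (Cfsg.pCore 2 G) ≤ centralizer {s} from fun w hw =>
    mem_centralizer_singleton_iff.mpr (h9 w hw))).trans k.cs
  refine k.not_le (eq_of_le_of_card_ge (zpowers_le.mpr k.z_mem) ?_).ge
  rw [Nat.card_zpowers, k.oz]
  exact Nat.le_of_dvd two_pos (Nat.dvd_gcd h7 h11)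

theorem V_le : V ≤ Cfsg.pCore 2 G ⊓ centralizer {x} := by
  have h1 := k.cx
  rw [cc, ← card_mul_relIndex (inf_le_right : Cfsg.pCore 2 G ⊓ centralizer {x} ≤ _), k.cardD] at h1
  exact IsSylowIn.le_of_le_normalizer' ⟨inf_le_right, (isPGroup_pCore 2).to_inf_left, fun e => absurd
    ((Nat.mul_dvd_mul_left 8 e).trans h1) (by decide)⟩ (IsPGroup.of_card (n := 2) k.cV) k.Vx
    (le_normalizer_inf (le_normalizer_of_normal' _ _) (k.Vx.trans le_normalizer))

theorem commV {w : G} (hw : w ∈ V) : Commute w v := by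
  rcases mem_four k.cV k.zV k.vV k.z1 k.v1 k.vz (sq_of_two k.oz) hw with rfl | rfl | rfl | rfl
  exacts [Commute.one_left _, (k.cen _).symm, Commute.refl _, (k.cen v).symm.mul_left (Commute.refl v)]

theorem sqD {d : G} (hv : v * v = 1) (hd : d ∈ Cfsg.pCore 2 G ⊓ centralizer {x}) : d * d ∈ zpowers z := by
  have h1 := card_mul_relIndex k.V_le
  rw [k.cV, k.cardD] at h1
  have h2 : d * d ∈ V := mul_self_mem_of_index_two (H := V.subgroupOf (Cfsg.pCore 2 G ⊓ centralizer {x}))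
    (show V.relIndex _ = 2 by omega) ⟨d, hd⟩
  have h3 : Commute d v → d * d ∈ zpowers z := fun e => by
    rcases mem_four k.cV k.zV k.vV k.z1 k.v1 k.vz (sq_of_two k.oz) (k.mem d (mem_inf.mp hd).1
      (mem_centralizer_singleton_iff.mp (mem_inf.mp hd).2) e) with rfl | rfl | rfl | rfl
    · simp
    · exact mul_mem (mem_zpowers _) (mem_zpowers _)
    · exact hv ▸ one_mem _
    · rw [(k.cen v).mul_mul_mul_comm, hv, mul_one]; exact mul_mem (mem_zpowers _) (mem_zpowers _)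
  have h4 : Commute d (d * d) := (Commute.refl d).mul_right (Commute.refl d)
  rcases mem_four k.cV k.zV k.vV k.z1 k.v1 k.vz (sq_of_two k.oz) h2 with e | e | e | e
  exacts [e ▸ one_mem _, e ▸ mem_zpowers _, h3 (e ▸ h4), h3 (by
    have := (k.cen d).inv_right.mul_right (e ▸ h4)
    rwa [inv_mul_cancel_left] at this)]

theorem le_K1 (hv : v * v = 1) : ∀ a ∈ Cfsg.pCore 2 G, ∀ b ∈ Cfsg.pCore 2 G, a * b * a⁻¹ * b⁻¹ ∈ zpowers z := by
  have hK := k.K1_normal
  have h1 : ∀ q ∈ Cfsg.pCore 2 G, (q : G ⧸ zpowers z) * q = 1 := by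
    have h2 : (K1 z (Cfsg.pCore 2 G) : Set G) ⊆ {q | q ∈ Cfsg.pCore 2 G ∧ (q : G ⧸ zpowers z) * q = 1} :=
      fun q hq => ⟨hq.1, hq.2.1⟩
    have h3 : {q | q ∈ Cfsg.pCore 2 G ∧ (q : G ⧸ zpowers z) * q = 1} ⊆ Cfsg.pCore 2 G := fun q hq => hq.1
    have h4 := card_dvd_of_mul (K := K1 z (Cfsg.pCore 2 G)) (X := {q | q ∈ Cfsg.pCore 2 G ∧ (q : G ⧸ zpowers z) * q = 1})
      fun a ha b hb => ⟨mul_mem ha.1 hb.1, by
        rw [QuotientGroup.mk_mul, (hb.2.2 a ha.1).mul_mul_mul_comm, ha.2, hb.2.1, one_mul]⟩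
    have h5 := k.mod7 h3 (h2 (one_mem _)) (h2 k.z_mem) fun w hw g => ⟨(pCore_normal 2 G).conj_mem w hw.1 g, by
      simp only [QuotientGroup.mk_mul, QuotientGroup.mk_inv, conj_mul, hw.2, mul_one, mul_inv_cancel]⟩
    have h6 := Set.ncard_le_ncard h3
    have h7 := Set.ncard_le_ncard h2
    refine fun q hq => ((Set.eq_of_subset_of_ncard_le h3 ?_).ge hq).2
    rw [ncard_coe, k.cardQ] at h6 ⊢
    rw [ncard_coe] at h7
    rcases k.cases7 hK (fun _ h => h.1) k.z_mem with e | e | e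
    · exact absurd (eq_of_le_of_card_ge (zpowers_le.mpr k.z_mem) (by rw [e, Nat.card_zpowers, k.oz])).ge k.not_le
    · by_contra h8
      rw [e] at h4
      have h9 := Set.eq_of_subset_of_ncard_le h2 (by rw [ncard_coe]; omega)
      have h10 := k.mod3 (K1 z (Cfsg.pCore 2 G))
      rw [e, show K1 z (Cfsg.pCore 2 G) ⊓ centralizer {x} = Cfsg.pCore 2 G ⊓ centralizer {x} from le_antisymm
        (inf_le_inf_right _ fun _ h => h.1) (le_inf (fun d hd => h9.ge ⟨(mem_inf.mp hd).1,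
          (QuotientGroup.eq_one_iff (d * d)).mpr (k.sqD hv hd)⟩) inf_le_right), k.cardD] at h10
      omega
    · omega
  intro a ha b hb
  have := comm_of_sq ((pow_two _).trans (h1 a ha)) ((pow_two _).trans (h1 b hb)) ((pow_two _).trans (h1 _ (mul_mem ha hb)))
  exact (QuotientGroup.eq_one_iff _).mp (by simp [this.eq])

theorem half (hv : v * v = 1) {R : Subgroup G} (hR : R ≤ Cfsg.pCore 2 G) {d : G} (hd : d ∈ Cfsg.pCore 2 G) :
    Nat.card R ≤ Nat.card ↥(R ⊓ centralizer {d}) * 2 := by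
  rw [← card_clR R d]
  refine Nat.mul_le_mul_left _ ((Set.ncard_le_ncard (t := {d, z * d}) ?_).trans ((Set.ncard_insert_le _ _).trans (by simp)))
  rintro _ ⟨r, hr, rfl⟩
  exact (mem_zpowers_two (sq_of_two k.oz) (k.le_K1 hv r (hR hr) d hd)).imp mul_inv_eq_one.mp eq_mul_of_mul_inv_eq

theorem nonab (hv : v * v = 1) : ∃ a ∈ Cfsg.pCore 2 G ⊓ centralizer {v}, ∃ b ∈ Cfsg.pCore 2 G ⊓ centralizer {v},
    ¬ Commute a b := by
  by_contra! h1
  obtain ⟨d, hd, h2⟩ := SetLike.not_le_iff_exists.mp (show ¬ Cfsg.pCore 2 G ⊓ centralizer {x} ≤ V from fun e => by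
    have := card_le_of_le e
    rw [k.cV, k.cardD] at this
    omega)
  have h3 : d ∉ Cfsg.pCore 2 G ⊓ centralizer {v} := fun e => h2 (k.mem d (mem_inf.mp hd).1
    (mem_centralizer_singleton_iff.mp (mem_inf.mp hd).2) (mem_centralizer_singleton_iff.mp (mem_inf.mp e).2))
  have h4 := k.half hv le_rfl (mem_inf.mp (k.V_le k.vV)).1
  have h5 := k.half hv (R := Cfsg.pCore 2 G ⊓ centralizer {v}) inf_le_left (mem_inf.mp hd).1
  have h6 : Cfsg.pCore 2 G ⊓ centralizer {v} ⊔ zpowers d ≤ Cfsg.pCore 2 G :=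
    sup_le inf_le_left (zpowers_le.mpr (mem_inf.mp hd).1)
  have h7 := card_dvd_of_le (le_sup_left : _ ≤ Cfsg.pCore 2 G ⊓ centralizer {v} ⊔ zpowers d)
  have h9 := eq_of_le_of_card_ge h6 (by
    obtain ⟨j, hj⟩ := h7
    have h8 : j ≠ 1 := fun e => h3 ((eq_of_le_of_card_ge le_sup_left (by rw [hj, e, mul_one])).ge
      (mem_sup_right (mem_zpowers d)))
    have h0 : j ≠ 0 := fun e => Nat.card_pos.ne' (by rw [hj, e, mul_zero])
    exact h4.trans (hj ▸ Nat.mul_le_mul_left _ (by omega)))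
  have h10 := card_le_of_le (show Cfsg.pCore 2 G ⊓ centralizer {v} ⊓ centralizer {d} ≤
      Cfsg.pCore 2 G ⊓ centralizer (Cfsg.pCore 2 G : Set G) from le_inf (inf_le_left.trans inf_le_left)
    (le_centralizer_iff.mp (h9.ge.trans (sup_le (fun a ha b hb => h1 b (mem_inf.mp hb).1 a ha)
      (zpowers_le.mpr fun b hb => mem_centralizer_singleton_iff.mp (mem_inf.mp hb).2)))))
  have h11 := k.cases7 (N := Cfsg.pCore 2 G ⊓ centralizer (Cfsg.pCore 2 G : Set G)) inferInstance inf_le_left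
    (mem_inf.mpr ⟨k.zQ (mem_zpowers z), fun g _ => k.cen g⟩)
  rw [k.cardQ] at h4
  have h12 := eq_of_le_of_card_ge (inf_le_left : Cfsg.pCore 2 G ⊓ centralizer (Cfsg.pCore 2 G : Set G) ≤ _)
    (by rw [k.cardQ]; omega)
  exact h3 (mem_inf.mpr ⟨(mem_inf.mp hd).1, mem_centralizer_singleton_iff.mpr
    ((mem_inf.mp (h12.ge (mem_inf.mp (k.V_le k.vV)).1)).2 d (mem_inf.mp hd).1)⟩)

omit hz in
theorem exists_R (hv : v * v = 1) : ∃ R : Subgroup G, IsPGroup 2 R ∧ V ≤ R ∧ R ≤ centralizer {v} ∧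
    centralizer {v} ≤ normalizer (R : Set G) ∧ 64 ≤ Nat.card R ∧
    (∀ a ∈ R, ∀ b ∈ R, a * b * a⁻¹ * b⁻¹ ∈ zpowers z) ∧ ∃ a ∈ R, ∃ b ∈ R, ¬ Commute a b := by
  have := k.normal
  have h4 := k.half hv le_rfl (mem_inf.mp (k.V_le k.vV)).1
  rw [k.cardQ] at h4
  exact ⟨Cfsg.pCore 2 G ⊓ centralizer {v}, (isPGroup_pCore 2).to_inf_left, le_inf (k.V_le.trans inf_le_left)
    fun w hw => mem_centralizer_singleton_iff.mpr (k.commV hw), inf_le_right, le_normalizer_inf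
    (le_normalizer_of_normal' _ _) le_normalizer, by omega, fun a ha b hb => k.le_K1 hv a (mem_inf.mp ha).1 b
      (mem_inf.mp hb).1, k.nonab hv⟩

end CZ

end Cfsg.Agent.Mat
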