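import Cfsg.Agent.Mat.M24H

/-! The largest normal 2-subgroup of the centralizer of the four-group. -/

set_option autoImplicit false
set_option linter.unusedSectionVars false

namespace Cfsg.Agent.Mat

open Subgroup MulAction Cfsg.Agent.M11 Cfsg.Agent.Local
open scoped Pointwise

variable {G : Type*} [Group G] [Finite G]

theorem cc_coe {K : Subgroup G} (a : K) : cc a = Nat.card ↥(centralizer {a.1} ⊓ K) := by
  rw [← subgroupOf_map_subtype, card_map_of_injective (subtype_injective K)]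
  exact congrArg (fun H : Subgroup K => Nat.card H) (Subgroup.ext fun g => by
    simp only [mem_subgroupOf, mem_centralizer_singleton_iff, Subtype.ext_iff, coe_mul])

/-- The largest normal 2-subgroup of the centralizer. -/
structure W4 (x : G) (V W : Subgroup G) : Prop where
  cen : W ≤ centralizer (V : Set G)
  two : IsPGroup 2 W
  card : Nat.card W = 256
  norm : normalizer (V : Set G) ≤ normalizer (W : Set G)
  max : ∀ B : Subgroup G, IsPGroup 2 B → B ≤ centralizer (V : Set G) → x ∈ normalizer (B : Set G) → B ≤ W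
  nonab : ¬ W ≤ centralizer (W : Set G)

namespace N24

variable (h : N24 G) {x u r s v z g t τ : G} {V W B : Subgroup G} (k : GLb x u)
include h k

theorem dvd24 (a : Vy x u r V) (hz : z ∈ V) (h1 : z ≠ 1) : Nat.card ↥(centralizer {r} ⊓ centralizer {z}) ∣ 24 :=
  Nat.dvd_gcd ((card_dvd_of_le inf_le_left).trans (k.cA r a.hr a.r1).dvd)
    ((card_dvd_of_le inf_le_right).trans (h.ccV k a hz h1).dvd)

theorem cent_eq (a : Vy x u r V) (hz : z ∈ V) (h1 : z ≠ 1) (hv : v ∈ V) (h2 : v ≠ 1) (h3 : v ≠ z) (c1 : Commute g z)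
    (c2 : Commute g v) : g ∈ centralizer (V : Set G) := fun w hw => by
  rcases mem_four a.card hz hv h1 h2 h3 (h.sqV k a hz) hw with rfl | rfl | rfl | rfl
  exacts [by simp, c1.symm, c2.symm, (c1.mul_right c2).symm]

theorem le_V (a : Vy x u r V) (hB : IsPGroup 2 B) (h1 : B ≤ centralizer {r}) (h2 : B ≤ centralizer (V : Set G)) :
    B ≤ V := by
  have h0 : V ≤ centralizer {r} := fun w hw => mem_centralizer_singleton_iff.mpr (a.cen w hw)
  obtain ⟨P, hP, h3⟩ := exists_isSylowIn_ge (hB.to_sup_of_normal_right' a.two (h2.trans (centralizer_le_normalizer _)))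
    (sup_le (le_inf h1 h2) (le_inf h0 (h.le_cent k a)))
  obtain ⟨z, hz, h4, -⟩ := a.exists_ne 1
  have h5 := (card_dvd_of_le (inf_le_inf_left _ (centralizer_le (Set.singleton_subset_iff.mpr hz)))).trans
    (h.dvd24 k a hz h4)
  have h6 : zpowers r ≤ normalizer (P : Set G) := zpowers_le.mpr (centralizer_le_normalizer _ fun w hw =>
    mem_centralizer_singleton_iff.mp (mem_inf.mp (hP.le hw)).1)
  have h7 := card_sup_of_disjoint h6 (disjoint_def.mpr fun {w} e1 e2 =>
    eq_one_of_two hP.isPGroup e1 (k.cube (zpowers_le.mpr a.hr e2)))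
  have h8 := card_dvd_of_le (le_sup_right.trans h3)
  have h9 : P ⊔ zpowers r ≤ centralizer {r} ⊓ centralizer (V : Set G) := sup_le hP.le (zpowers_le.mpr (mem_inf.mpr
    ⟨mem_centralizer_singleton_iff.mpr rfl, a.cen⟩))
  rw [Nat.card_zpowers, a.ox] at h7
  rw [a.card] at h8
  refine le_sup_left.trans (h3.trans (eq_of_le_of_card_ge (le_sup_right.trans h3) (le_of_not_gt fun h10 => ?_)).ge)
  have h11 := Nat.le_of_dvd (by decide) h5
  rw [a.card] at h10
  have := h.card_cases k hP.isPGroup ((le_normalizer_inf (fun p hp => le_normalizer (mem_centralizer_singleton_iff.mpr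
    (k.comm' hp a.hr))) (a.inv.trans (normalizer_le_normalizer_centralizer V))).trans (hP.normalizer_le
      ((eq_of_le_of_card_ge h9 (by omega)).ge.trans (sup_le le_normalizer h6)))) a.hr a.r1 (hP.le.trans inf_le_left)
  omega

theorem dvd3072 (a : Vy x u r V) : Nat.card (centralizer (V : Set G)) ∣ 3072 := by
  obtain ⟨z, hz, h3, -⟩ := a.exists_ne 1
  exact dvd_of_not 1 Nat.prime_seven (fun e => by
    obtain ⟨y, hy, h7⟩ := exists_mem_of_prime_dvd Nat.prime_seven e
    have := card_dvd_cc (R := V) hy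
    rw [a.card, h.cc7 h7] at this
    exact absurd this (by decide))
    ((card_dvd_of_le (centralizer_le (Set.singleton_subset_iff.mpr hz))).trans (h.ccV k a hz h3).dvd)

theorem tau_cent (a : Vy x u x V) (l : L9 x u τ (2, 0) (0, 1)) (h1 : τ * τ = 1) (h2 : τ ∈ normalizer (V : Set G)) :
    τ ∈ centralizer (V : Set G) := fun v hv => by
  obtain ⟨z, hz, hc⟩ := exists_commute_of_not_dvd Nat.prime_two (y := τ) (X := (V : Set G) \ {1})
    ((pow_two _).trans h1) (fun v hv => ⟨conj_mem_of_mem_normalizer h2 hv.1, fun e => hv.2 (conj_eq_one_iff.mp e)⟩)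
    (by rw [Set.ncard_sdiff_singleton_of_mem (one_mem _), ncard_coe, a.card]; decide)
  by_cases h3 : v = 1
  · simp [h3]
  obtain ⟨j, rfl⟩ := h.rot' k a k.toB9 (right_mem_EE x u) hz.1 hz.2 hv h3
  have c : Commute τ u := mul_inv_eq_iff_eq_mul.mp (l.cu.trans (ee_u x u))
  exact (((c.pow_right j).mul_right hc).mul_right (c.pow_right j).inv_right).symm

variable (a : Vy x u x V) (t1 : τ ∈ centralizer (V : Set G)) (t2 : τ * x * τ⁻¹ = x⁻¹)
include a t1 t2

theorem card_inv (hB : IsPGroup 2 B) (h1 : B ≤ centralizer (V : Set G)) (hn : x ∈ normalizer (B : Set G))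
    (hV : V ≤ B) : Nat.card B ≤ 64 ∨ Nat.card B = 256 := by
  have h2 : _ = FF B x % 3 := ncard_modEq_commute Nat.prime_three a.ox (X := B) fun u hu r hr =>
    conj_mem_of_mem_normalizer (zpowers_le.mpr hn hr) hu
  rw [FF_eq, le_antisymm (h.le_V k a hB.to_inf_left inf_le_right (inf_le_left.trans h1)) (le_inf hV fun w hw =>
    mem_centralizer_singleton_iff.mpr (a.cen w hw)), ncard_coe, a.card] at h2
  have h4 := h.dvd3072 k a
  obtain ⟨n, hn'⟩ := IsPGroup.iff_card.mp hB
  have h5 : Nat.card B ∣ 1024 := (hn' ▸ Nat.Coprime.pow_left n (by decide)).dvd_of_dvd_mul_right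
    (show _ ∣ 1024 * 3 from (card_dvd_of_le h1).trans h4)
  refine (by decide +kernel : ∀ d ∈ Nat.divisors 1024, d % 3 = 4 % 3 → d ≠ 1024 → d ≤ 64 ∨ d = 256) _
    (Nat.mem_divisors.mpr ⟨h5, by decide⟩) h2 fun e => k.x1 (eq_one_of_two hB ?_ k.cx)
  have h6 := card_sup_of_disjoint (zpowers_le.mpr hn) (disjoint_def.mpr fun {w} e1 e2 =>
    eq_one_of_two hB e1 (k.cube (mem_sup_left e2)))
  rw [e, Nat.card_zpowers, a.ox] at h6
  obtain ⟨b, hb, _, ⟨i, rfl⟩, rfl⟩ := (mem_sup_of_right_le_normalizer (zpowers_le.mpr hn)).mp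
    ((eq_of_le_of_card_ge (sup_le h1 (zpowers_le.mpr a.cen)) (h6 ▸ Nat.le_of_dvd (by decide) h4)).ge t1)
  have h7 := mul_mem hb (conj_mem_of_mem_normalizer hn (inv_mem hb))
  rwa [show b * (x * b⁻¹ * x⁻¹) = b * x ^ i * x * (b * x ^ i)⁻¹ * x⁻¹ by group, t2, k.sq (inv_mem a.hr), inv_inv] at h7

theorem exists_R (hz : z ∈ V) (h1 : z ≠ 1) : ∃ R : Subgroup G, IsPGroup 2 R ∧ V ≤ R ∧ R ≤ centralizer (V : Set G) ∧
    centralizer (V : Set G) ≤ normalizer (R : Set G) ∧ 64 ≤ Nat.card R ∧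
    (∀ a ∈ R, ∀ b ∈ R, a * b * a⁻¹ * b⁻¹ ∈ zpowers z) ∧ ¬ R ≤ centralizer (R : Set G) := by
  obtain ⟨v, hv, h2, h3⟩ := a.exists_ne z
  have oz := h.ordV k a hz h1
  have hC : centralizer (V : Set G) ≤ centralizer {z} := centralizer_le (Set.singleton_subset_iff.mpr hz)
  have hV := (h.le_cent k a).trans hC
  obtain ⟨s, hs, c1, n1, n2⟩ : ∃ s, orderOf s = 7 ∧ Commute s z ∧ x ∈ normalizer (zpowers s : Set G) ∧
      ¬ Commute x s := by
    obtain ⟨s, hs, c1⟩ := exists_of_prime_dvd_cc Nat.prime_seven (g := z) (h.ccV k a hz h1 ▸ by decide)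
    obtain ⟨y, hy, c2, n1, n2⟩ := h.exists_a hs oz c1.symm
    obtain ⟨r, c3, e⟩ := h.conj_in oz a.ox hy (a.cen z hz).symm c2
    have e1 : zpowers (r⁻¹ * s * r⁻¹⁻¹) = MulAut.conj r⁻¹ • zpowers s := 
      (MonoidHom.map_zpowers (MulAut.conj r⁻¹).toMonoidHom s).symm
    refine ⟨r⁻¹ * s * r⁻¹⁻¹, (orderOf_conj' _ s).trans hs, (c3.inv_left.mul_left c1).mul_left c3.inv_left.inv_left, ?_,
      fun e' => n2 ?_⟩
    · rw [e1, normalizer_conj_smul, mem_conj_smul_iff, inv_inv]
      rcases e with e | e <;> rw [e]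
      exacts [n1, inv_mem n1]
    · have := commute_conj r e'
      rw [show r * (r⁻¹ * s * r⁻¹⁻¹) * r⁻¹ = s by group] at this
      rcases e with e | e <;> rw [e] at this
      exacts [this, Commute.inv_left_iff.mp this]
  have m : ∀ w y : centralizer {z}, w ∈ zpowers y ↔ w.1 ∈ zpowers y.1 := fun w y => by
    simp only [mem_zpowers_iff, Subtype.ext_iff, coe_zpow]
  have q : CZ (G := centralizer {z}) ⟨z, hV hz⟩ ⟨x, hC a.cen⟩ ⟨s, mem_centralizer_singleton_iff.mpr c1⟩ ⟨τ, hC t1⟩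
      ⟨v, hV hv⟩ (V.subgroupOf _) :=
    ⟨h.ccV k a hz h1, (orderOf_mk z _).trans oz, fun g => Subtype.ext (mem_centralizer_singleton_iff.mp g.2),
      (orderOf_mk x _).trans a.ox, (cc_coe _).dvd.trans (h.dvd24 k a hz h1), (orderOf_mk s _).trans hs,
      (cc_coe _).dvd.trans ((card_dvd_of_le inf_le_left).trans (h.cc7 hs).dvd),
      mem_normalizer_of_conj_mem fun w hw => (m _ _).mpr (conj_mem_of_mem_normalizer n1 ((m _ _).mp hw)),
      fun e => n2 (congrArg Subtype.val e), fun b w hw e => h.not_real7 ((orderOf_coe w).trans hw)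
        (isConj_iff.mpr ⟨b, congrArg Subtype.val e⟩), Subtype.ext t2,
      (Nat.card_congr (subgroupOfEquivOfLe hV).toEquiv).trans a.card,
      fun w hw => mem_centralizer_singleton_iff.mpr (Subtype.ext (a.cen w hw)), hz, hv,
      fun e => h2 (congrArg Subtype.val e), fun e => h3 (congrArg Subtype.val e), fun d hd e1 e2 =>
        h.le_V k a (two_zpowers ((isPGroup_pCore 2).map _) (mem_map_of_mem (centralizer {z}).subtype hd))
          (zpowers_le.mpr (mem_centralizer_singleton_iff.mpr (congrArg Subtype.val e1))) (zpowers_le.mpr (h.cent_eq k a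
            hz h1 hv h2 h3 (mem_centralizer_singleton_iff.mp d.2) (congrArg Subtype.val e2))) (mem_zpowers _)⟩
  obtain ⟨R, r1, r2, r3, r4, r5, r6, b, hb, c, hc, r7⟩ := q.exists_R (Subtype.ext (h.sqV k a hv))
  refine ⟨R.map (centralizer {z}).subtype, r1.map _, fun w hw => ⟨⟨w, hV hw⟩, r2 hw, rfl⟩, ?_, fun g hg =>
    mem_normalizer_of_conj_mem ?_, by rwa [card_map_of_injective (subtype_injective _)], ?_,
    fun e => r7 (Subtype.ext (e (mem_map_of_mem _ hc) _ (mem_map_of_mem _ hb)))⟩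
  · rintro _ ⟨w, hw, rfl⟩
    exact h.cent_eq k a hz h1 hv h2 h3 (mem_centralizer_singleton_iff.mp w.2)
      (congrArg Subtype.val (mem_centralizer_singleton_iff.mp (r3 hw)))
  · rintro _ ⟨w, hw, rfl⟩
    exact ⟨_, conj_mem_of_mem_normalizer (g := (⟨g, hC hg⟩ : centralizer {z})) (r4 (mem_centralizer_singleton_iff.mpr
      (Subtype.ext (hg v hv).symm))) hw, rfl⟩
  · rintro _ ⟨b, hb, rfl⟩ _ ⟨c, hc, rfl⟩
    exact (m _ _).mp (r6 b hb c hc)

theorem exists_W : ∃ W, W4 x V W := by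
  obtain ⟨z, hz, h1, -⟩ := a.exists_ne 1
  obtain ⟨R, r1, r2, r3, r4, r5, r6, r7⟩ := h.exists_R k a t1 t2 hz h1
  have c1 : ∀ {g} {Y : Subgroup G}, g ∈ normalizer (V : Set G) → Y ≤ centralizer (V : Set G) →
      MulAut.conj g • Y ≤ centralizer (V : Set G) := fun {g _} hg hY => by
    have := adj_conj hY g
    rwa [mem_normalizer_iff_conj_smul_eq.mp hg] at this
  have c2 : ∀ {g} {Y : Subgroup G}, g ∈ normalizer (V : Set G) → centralizer (V : Set G) ≤ normalizer (Y : Set G) →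
      centralizer (V : Set G) ≤ normalizer ((MulAut.conj g • Y : Subgroup G) : Set G) := fun hg hY => by
    rw [normalizer_conj_smul, ← mem_normalizer_iff_conj_smul_eq.mp (normalizer_le_normalizer_centralizer V hg)]
    exact pointwise_smul_le_pointwise_smul_iff.mpr hY
  have hu := a.inv (right_mem_EE x u)
  have w1 := sup_le r3 (c1 hu r3)
  have w2 : IsPGroup 2 ↥(R ⊔ MulAut.conj u • R) := r1.to_sup_of_normal_right' (r1.map _) (r3.trans (c2 hu r4))
  have w3 := le_normalizer_sup r4 (c2 hu r4)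
  have w4 := (h.card_inv k a t1 t2 w2 w1 (w3 a.cen) (r2.trans le_sup_left)).resolve_left fun e => r7 fun b hb c hc => by
    have e1 := eq_of_le_of_card_ge (le_sup_left : R ≤ R ⊔ MulAut.conj u • R) (e.trans r5)
    have e2 := eq_of_le_of_card_ge (le_sup_right : _ ≤ R ⊔ MulAut.conj u • R) (e.trans (r5.trans (card_conj_smul u R).ge))
    have hn := mem_normalizer_iff_conj_smul_eq.mpr (e2.trans e1.symm)
    have e3 := r6 _ (inv_conj_mem_of_mem_normalizer hn hc) _ (inv_conj_mem_of_mem_normalizer hn hb)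
    rw [show u⁻¹ * c * u * (u⁻¹ * b * u) * (u⁻¹ * c * u)⁻¹ * (u⁻¹ * b * u)⁻¹ = u⁻¹ * (c * b * c⁻¹ * b⁻¹) * u⁻¹⁻¹ by
      group] at e3
    refine commutatorElement_eq_one_iff_commute.mp ((mem_zpowers_two (h.sqV k a hz) (r6 c hc b hb)).resolve_right
      fun e4 => ?_)
    rw [e4] at e3
    exact h1 ((mem_zpowers_two (h.sqV k a hz) e3).elim conj_eq_one_iff.mp fun e5 => h.eq_one_of_comm k.toB9
      (h.sqV k a hz) (a.cen z hz) (Commute.inv_left_iff.mp (mul_inv_eq_iff_eq_mul.mp e5)).symm)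
  have w5 : ∀ B : Subgroup G, IsPGroup 2 B → B ≤ centralizer (V : Set G) → x ∈ normalizer (B : Set G) →
      B ≤ R ⊔ MulAut.conj u • R := fun B hB h2 h3 => le_sup_left.trans (eq_of_le_of_card_ge le_sup_right (by
    have := h.card_inv k a t1 t2 (hB.to_sup_of_normal_right' w2 (h2.trans w3)) (sup_le h2 w1)
      (normalizer_inf_normalizer_le_normalizer_sup _ _ (mem_inf.mpr ⟨h3, w3 a.cen⟩))
      ((r2.trans le_sup_left).trans le_sup_right)
    omega)).ge
  exact ⟨_, w1, w2, w4, fun g hg => mem_normalizer_of_conj_mem fun w hw => w5 _ (w2.map _) (c1 hg w1)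
    (c2 hg w3 a.cen) (conj_mem_conj_smul g hw), w5,
    fun e => r7 (le_sup_left.trans (e.trans (centralizer_le (le_sup_left : R ≤ _))))⟩

end N24

end Cfsg.Agent.Mat
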