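import Cfsg.Agent.Mat.M24I

/-! The neighbours of the four-group. -/

set_option autoImplicit false
set_option linter.unusedSectionVars false

namespace Cfsg.Agent.Mat

open Subgroup MulAction Cfsg.Agent.M11 Cfsg.Agent.Local
open scoped Pointwise

variable {G : Type*} [Group G] [Finite G]

/-- The configuration. -/
structure C4 (x u c g τ a : G) (V W : Subgroup G) : Prop where
  k : GLb x u
  v : Vy x u x V
  dg : ∀ g c d, L9 x u g (c, 0) (0, d) → g ∈ normalizer (V : Set G)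
  w : W4 x V W
  lc : L9 x u c (0, 1) (2, 0)
  lg : L9 x u g (1, 2) (0, 2)
  lt : L9 x u τ (2, 0) (0, 1)
  gt : Commute g (c * c)
  tt : Commute τ (c * c)
  tV : τ ∈ centralizer (V : Set G)
  ha : a ∈ V
  a1 : a ≠ 1
  ta : Commute (c * c) a

theorem cent_inv (r : G) : centralizer {r⁻¹} = centralizer {r} := Subgroup.ext fun _ => by
  simp only [mem_centralizer_singleton_iff]; exact Commute.inv_right_iff

theorem conj_inf_cent {W : Subgroup G} {g : G} (hg : g ∈ normalizer (W : Set G)) (r : G) :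
    MulAut.conj g • (W ⊓ centralizer {r}) = W ⊓ centralizer {g * r * g⁻¹} := by
  rw [smul_inf, mem_normalizer_iff_conj_smul_eq.mp hg]
  congr 1
  ext w
  rw [mem_conj_smul_iff, mem_centralizer_singleton_iff, mem_centralizer_singleton_iff]
  exact ⟨fun e => by simpa [mul_assoc] using (commute_conj g e).eq, fun e => by
    simpa [mul_assoc] using (commute_conj g⁻¹ e).eq⟩

theorem inv_smul_eq_iff_eq_smul_aux {V : Subgroup G} {n m : G} :
    n⁻¹ * m ∈ normalizer (V : Set G) ↔ MulAut.conj n • V = MulAut.conj m • V := by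
  rw [mem_normalizer_iff_conj_smul_eq, ← conj_smul_conj_smul, map_inv, inv_smul_eq_iff, eq_comm]

theorem B9.gen {x u : G} (b : B9 x u) {Y H : Subgroup G} (hY : IsPGroup 2 Y) (hE : EE x u ≤ normalizer (Y : Set G))
    (h1 : Y ⊓ centralizer {x} ≤ H) (h2 : Y ⊓ centralizer {u} ≤ H) (h3 : Y ⊓ centralizer {x * u} ≤ H)
    (h4 : Y ⊓ centralizer {x * u⁻¹} ≤ H) : Y ≤ H := by
  obtain ⟨n, hn⟩ := IsPGroup.iff_card.mp hY
  refine le_of_centralizer_le_of_rank_two Nat.prime_three (hE (right_mem_EE x u)) (hE (left_mem_EE x u)) b.comm.symm b.cu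
    b.ox b.h2 (fun e => absurd (Nat.prime_three.dvd_of_dvd_pow (hn ▸ e)) (by decide)) fun e he h0 => ?_
  obtain ⟨v, rfl⟩ := b.exists_ee ((closure_le (EE x u)).mpr (by
    rintro _ (rfl | rfl); exacts [right_mem_EE _ _, left_mem_EE _ _]) he)
  rcases (by decide : ∀ v : ZMod 3 × ZMod 3, v = 0 ∨ ∃ w ∈ [((1, 0) : ZMod 3 × ZMod 3), (0, 1), (1, 1), (1, 2)],
    v = w ∨ v = -w) v with rfl | ⟨w, hw, e⟩
  · exact absurd (ee_zero x u) h0
  have : centralizer {ee x u v} = centralizer {ee x u w} := by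
    rcases e with rfl | rfl
    exacts [rfl, by rw [b.ee_neg, cent_inv]]
  simp only [List.mem_cons, List.not_mem_nil, or_false] at hw
  rcases hw with rfl | rfl | rfl | rfl <;> rw [this]
  exacts [(ee_x x u).symm ▸ h1, (ee_u x u).symm ▸ h2, b.ee_s.symm ▸ h3, b.ee_w.symm ▸ h4]

namespace N24

variable (h : N24 G) {x u c g τ a r n m : G} {V W Y : Subgroup G}
include h

theorem exists_c4 : ∃ (x u c g τ a : G) (V W : Subgroup G), C4 x u c g τ a V W := by
  obtain ⟨x, u, k⟩ := h.exists_gl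
  obtain ⟨V, v, dg⟩ := h.exists_dg k
  obtain ⟨c, lc⟩ := k.gl (0, 1) (2, 0) (by decide)
  have l : L9 x u (c * c) (2, 0) (0, 2) := (lc.mul lc).congr
  obtain ⟨g, lg, gt⟩ := h.exists_comm k l (1, 2) (0, 2) (by decide)
  obtain ⟨τ, lt, tt⟩ := h.exists_comm k l (2, 0) (0, 1) (by decide)
  have tV := h.tau_cent k v lt (h.eq_one k l (lt.mul lt) (tt.mul_left tt)) (dg _ _ _ lt)
  obtain ⟨W, w⟩ := h.exists_W k v tV (lt.cx.trans k.ee_xi)
  obtain ⟨a, ha, h2⟩ := exists_commute_of_not_dvd Nat.prime_two (y := c * c) (X := (V : Set G) \ {1})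
    ((pow_two _).trans (h.eq_one k l (l.mul l) ((Commute.refl _).mul_left (Commute.refl _)))) (fun v hv =>
      ⟨conj_mem_of_mem_normalizer (dg _ _ _ l) hv.1, fun e => hv.2 (conj_eq_one_iff.mp e)⟩)
    (by rw [Set.ncard_sdiff_singleton_of_mem (one_mem _), ncard_coe, v.card]; decide)
  exact ⟨x, u, c, g, τ, a, V, W, k, v, dg, w, lc, lg, lt, gt, tt, tV, ha.1, ha.2, h2⟩

theorem FF_cases (k : GLb x u) (hY : IsPGroup 2 Y) (hE : EE x u ≤ normalizer (Y : Set G)) (hr : r ∈ EE x u)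
    (h1 : r ≠ 1) : Nat.card ↥(Y ⊓ centralizer {r}) = 1 ∨ Vy x u r (Y ⊓ centralizer {r}) := by
  have h2 : EE x u ≤ normalizer ((Y ⊓ centralizer {r} : Subgroup G) : Set G) := le_normalizer_inf hE
    fun p hp => le_normalizer (mem_centralizer_singleton_iff.mpr (k.comm' hp hr))
  exact (h.card_cases k hY.to_inf_left h2 hr h1 inf_le_right).imp_right fun e =>
    ⟨⟨k.ord hr h1, e, fun v hv => mem_centralizer_singleton_iff.mp (mem_inf.mp hv).2⟩, hr, h2⟩

variable (q : C4 x u c g τ a V W)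
include q

theorem EW : EE x u ≤ normalizer (W : Set G) := q.v.inv.trans q.w.norm

theorem V_le_W : V ≤ W := q.w.max V q.v.two (h.le_cent q.k q.v) (q.v.inv q.v.hr)

theorem inf_x (hY : Y ≤ W) : Y ⊓ centralizer {x} ≤ V :=
  h.le_V q.k q.v (q.w.two.to_le hY).to_inf_left inf_le_right (inf_le_left.trans (hY.trans q.w.cen))

theorem tau_inf (ht : τ ∈ normalizer (Y : Set G)) :
    MulAut.conj τ • (Y ⊓ centralizer {x * u⁻¹}) = Y ⊓ centralizer {x * u} := by
  rw [conj_inf_cent ht, ← q.k.ee_w, q.lt, ← cent_inv, ← q.k.ee_neg, ← q.k.ee_s]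
  rfl

theorem tW : τ ∈ normalizer (W : Set G) := q.w.norm (centralizer_le_normalizer _ q.tV)

theorem tA : MulAut.conj τ • (W ⊓ centralizer {u}) = W ⊓ centralizer {u} := by
  rw [conj_inf_cent (h.tW q), q.lt.cu, ee_u]

theorem vyAB : Vy x u u (W ⊓ centralizer {u}) ∧ Vy x u (x * u⁻¹) (W ⊓ centralizer {x * u⁻¹}) := by
  have b := q.k.toB9
  have h1 := nine_dvd_sum b.card (left_mem_EE x u) (right_mem_EE x u) b.ox b.cu b.h2 (h.EW q)
  have h2 := card_conj_smul τ (W ⊓ centralizer {x * u⁻¹})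
  rw [h.tau_inf q (h.tW q)] at h2
  rw [FF_eq, FF_eq, FF_eq, FF_eq, h2, le_antisymm (h.inf_x q le_rfl) (le_inf (h.V_le_W q) fun w hw =>
    mem_centralizer_singleton_iff.mpr (q.v.cen w hw)), q.v.card, q.w.card] at h1
  rcases h.FF_cases q.k q.w.two (h.EW q) (right_mem_EE x u) b.u1 with e | e <;>
    rcases h.FF_cases q.k q.w.two (h.EW q) (mul_mem (left_mem_EE x u) (inv_mem (right_mem_EE x u))) b.inv.mul.u1
      with e' | e'
  · have := card_le_of_le (b.gen q.w.two (h.EW q) (h.inf_x q le_rfl) ((eq_bot_of_card_eq _ e).le.trans bot_le)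
      ((eq_bot_of_card_eq _ (h2.trans e')).le.trans bot_le) ((eq_bot_of_card_eq _ e').le.trans bot_le))
    rw [q.v.card, q.w.card] at this
    omega
  · have := e'.card; omega
  · have := e.card; omega
  · exact ⟨e, e'⟩

theorem dich (hY : Y ≤ W) (hE : EE x u ≤ normalizer (Y : Set G)) (ht : τ ∈ normalizer (Y : Set G)) :
    W ⊓ centralizer {x * u⁻¹} ≤ Y ∨ Y ≤ V ⊔ W ⊓ centralizer {u} := by
  have h2 := card_conj_smul τ (Y ⊓ centralizer {x * u⁻¹})
  rw [h.tau_inf q ht] at h2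
  exact (h.FF_cases q.k (q.w.two.to_le hY) hE (mul_mem (left_mem_EE x u) (inv_mem (right_mem_EE x u)))
    q.k.inv.mul.u1).symm.imp (fun e => (eq_of_le_of_card_ge (inf_le_inf_right _ hY)
      ((h.vyAB q).2.card.trans e.card.symm).le).ge.trans inf_le_left) fun e => q.k.gen (q.w.two.to_le hY) hE
        ((h.inf_x q hY).trans le_sup_left) ((inf_le_inf_right _ hY).trans le_sup_right)
        ((eq_bot_of_card_eq _ (h2.trans e)).le.trans bot_le) ((eq_bot_of_card_eq _ e).le.trans bot_le)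

theorem ab_W (h1 : W ⊓ centralizer {u} ≤ centralizer ((W ⊓ centralizer {x * u⁻¹} : Subgroup G) : Set G))
    (h2 : W ⊓ centralizer {x * u} ≤ centralizer ((W ⊓ centralizer {x * u⁻¹} : Subgroup G) : Set G)) : False := by
  have h3 := adj_conj h1 τ
  rw [h.tA q, h.tau_inf q (h.tW q)] at h3
  have h0 : ∀ r, W ⊓ centralizer {x} ≤ centralizer ((W ⊓ centralizer {r} : Subgroup G) : Set G) := fun r =>
    (h.inf_x q le_rfl).trans (le_centralizer_iff.mp (inf_le_left.trans q.w.cen))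
  have h4 := q.k.gen q.w.two (h.EW q) (h0 _) h1 h2 (h.le_cent q.k (h.vyAB q).2)
  have h5 := adj_conj h4 τ
  rw [mem_normalizer_iff_conj_smul_eq.mp (h.tW q), h.tau_inf q (h.tW q)] at h5
  exact q.w.nonab (q.k.gen q.w.two (h.EW q) ((h.inf_x q le_rfl).trans (le_centralizer_iff.mp q.w.cen))
    (le_centralizer_iff.mp (q.k.gen q.w.two (h.EW q) (h0 _) (h.le_cent q.k (h.vyAB q).1) (le_centralizer_iff.mp h3)
      (le_centralizer_iff.mp h1))) (le_centralizer_iff.mp h5) (le_centralizer_iff.mp h4))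

omit h in
theorem same {i j : ZMod 3} (l : L9 x u (n⁻¹ * m) (i, 0) (0, j)) : MulAut.conj m • V = MulAut.conj n • V := by
  rw [← mul_inv_cancel_left n m, ← conj_smul_conj_smul, mem_normalizer_iff_conj_smul_eq.mp (q.dg _ _ _ l)]

theorem cV : MulAut.conj c • V = W ⊓ centralizer {u} := by
  obtain ⟨p, i, lp, e⟩ := h.transV q.k q.v q.lc (by rw [ee_u]; exact (h.vyAB q).1)
  obtain ⟨d, ld⟩ := q.k.gl (1, 0) (0, 2) (by decide)
  have l1 := q.lc.mul lp
  have h1 : (c * p)⁻¹ * (τ * (c * p)) ∈ normalizer (V : Set G) := by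
    rw [mem_normalizer_iff_conj_smul_eq, ← conj_smul_conj_smul, ← conj_smul_conj_smul, e, h.tA q, ← e, map_inv,
      inv_smul_smul]
  have h2 := h.not_uni q.k q.v (j := 2 * i) ((ld.mul ((l1.inv (i, 2) (1, 0) (by
    generalize i = m; revert m; decide)).mul (q.lt.mul l1))).congr (by generalize i = m; revert m; decide))
    (mul_mem (q.dg _ _ _ ld) h1)
  obtain rfl := (by decide : ∀ i : ZMod 3, 2 * i = 0 → i = 0) i h2
  rw [← e, ← conj_smul_conj_smul, mem_normalizer_iff_conj_smul_eq.mp (q.dg _ _ _ lp)]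

omit h in
theorem nb {s : G} (y : Vy x u s Y) (y' : Vy x u r (W ⊓ centralizer {r})) (hn : n ∈ normalizer (EE x u : Set G))
    (h1 : Y ≤ centralizer ((MulAut.conj n • V : Subgroup G) : Set G)) (h2 : Y ≤ centralizer {n * r * n⁻¹}) :
    Y = MulAut.conj n • (W ⊓ centralizer {r}) := by
  have y2 := y.conj (inv_mem hn)
  have h3 := adj_conj h1 n⁻¹
  rw [map_inv, inv_smul_smul, ← map_inv] at h3
  rw [← inv_smul_eq_iff, ← map_inv]
  refine eq_of_le_of_card_ge (le_inf (q.w.max _ y2.two h3 (y2.inv (left_mem_EE x u))) ?_) (y'.card.trans y2.card.symm).le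
  rintro _ ⟨w, hw, rfl⟩
  simpa [mul_assoc, mem_centralizer_singleton_iff] using (commute_conj n⁻¹ (mem_centralizer_singleton_iff.mp (h2 hw))).eq

theorem gV : MulAut.conj g • V = W ⊓ centralizer {x * u⁻¹} := by
  obtain ⟨p, i, lp, e⟩ := h.transV q.k q.v q.lg (by rw [q.k.ee_w]; exact (h.vyAB q).2)
  have l1 := q.lg.mul lp
  have h1 : V ≤ centralizer ((MulAut.conj (g * p) • V : Subgroup G) : Set G) :=
    e ▸ le_centralizer_iff.mp (inf_le_left.trans q.w.cen)
  rcases (by decide : ∀ i : ZMod 3, i = 0 ∨ i = 1 ∨ i = 2) i with rfl | rfl | rfl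
  · rw [← e, ← conj_smul_conj_smul, mem_normalizer_iff_conj_smul_eq.mp (q.dg _ _ _ lp)]
  · generalize g * p = n at e l1 h1
    refine (h.ab_W q ?_ ?_).elim
    · have h2 := adj_conj h1 (n * τ * n⁻¹)
      rwa [same q (n := c) (i := 1) (j := 2) ((q.lc.inv (0, 2) (1, 0)).mul ((l1.mul q.lt).mul
        (l1.inv (2, 2) (1, 2)))).congr, h.cV q, conj_smul_conj_smul, inv_mul_cancel_right, ← conj_smul_conj_smul,
        mem_normalizer_iff_conj_smul_eq.mp (q.dg _ _ _ q.lt), e] at h2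
    · have h2 := adj_conj (inf_le_left.trans q.w.cen : W ⊓ centralizer {u} ≤ _) n
      rwa [← h.cV q, conj_smul_conj_smul, same q (n := τ * n) (i := 2) (j := 1) (((q.lt.mul l1).inv (1, 1) (1, 2)).mul
        (l1.mul q.lc)).congr, ← conj_smul_conj_smul, e, h.tau_inf q (h.tW q)] at h2
  · generalize g * p = n at e l1 h1
    have h2 := nb q q.v (h.vyAB q).1 (q.k.mem_norm l1) h1 fun w hw => by
      rw [l1.cu.trans ((congrArg _ (by decide)).trans q.k.ee_xi), cent_inv]
      exact mem_centralizer_singleton_iff.mpr (q.v.cen w hw)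
    rw [← h.cV q, conj_smul_conj_smul] at h2
    exact absurd (h.not_uni q.k q.v (j := 1) (q.lt.mul (l1.mul q.lc)).congr (mul_mem (q.dg _ _ _ q.lt)
      (mem_normalizer_iff_conj_smul_eq.mpr h2.symm))) (by decide)

theorem not_tri : ¬ W ⊓ centralizer {u} ≤ centralizer ((W ⊓ centralizer {x * u⁻¹} : Subgroup G) : Set G) := fun e => by
  have h2 := nb q (h.vyAB q).1 (h.vyAB q).1 (q.k.mem_norm q.lg) (h.gV q ▸ e) (by
    rw [q.lg.cu, q.k.ee_ui, cent_inv]; exact inf_le_right)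
  rw [← h.cV q, conj_smul_conj_smul, ← inv_smul_eq_iff_eq_smul_aux] at h2
  exact absurd (h.not_uni q.k q.v (j := 2) (q.lt.mul ((q.lc.inv (0, 2) (1, 0)).mul (q.lg.mul q.lc))).congr
    (mul_mem (q.dg _ _ _ q.lt) h2)) (by decide)

theorem card_U : Nat.card ↥(V ⊔ W ⊓ centralizer {u}) = 16 := by
  rw [card_sup_of_disjoint ((inf_le_left.trans q.w.cen).trans (centralizer_le_normalizer _)) (disjoint_def.mpr
    fun h1 h2 => h.eq_one_of_comm q.k.toB9 (h.sqV q.k q.v h1) (q.v.cen _ h1) ((h.vyAB q).1.cen _ h2)), q.v.card,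
    (h.vyAB q).1.card]

theorem U_le : V ⊔ W ⊓ centralizer {u} ≤ centralizer ((V ⊔ W ⊓ centralizer {u} : Subgroup G) : Set G) :=
  le_centralizer_iff.mp (sup_le (le_centralizer_iff.mp (sup_le (h.le_cent q.k q.v) (inf_le_left.trans q.w.cen)))
    (le_centralizer_iff.mp (sup_le (le_centralizer_iff.mp (inf_le_left.trans q.w.cen)) (h.le_cent q.k (h.vyAB q).1))))

theorem EU : EE x u ≤ normalizer ((V ⊔ W ⊓ centralizer {u} : Subgroup G) : Set G) :=
  le_normalizer_sup q.v.inv (h.vyAB q).1.inv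

theorem tU : τ ∈ normalizer ((V ⊔ W ⊓ centralizer {u} : Subgroup G) : Set G) :=
  normalizer_inf_normalizer_le_normalizer_sup _ _ (mem_inf.mpr ⟨q.dg _ _ _ q.lt,
    mem_normalizer_iff_conj_smul_eq.mpr (h.tA q)⟩)

theorem norm_U : W ⊓ centralizer {x * u⁻¹} ≤ normalizer ((V ⊔ W ⊓ centralizer {u} : Subgroup G) : Set G) := by
  refine ((h.dich q inf_le_left (le_normalizer_inf (h.EW q) ((h.EU q).trans le_normalizer))
    (inf_normalizer_le_normalizer_inf (mem_inf.mpr ⟨h.tW q, le_normalizer (h.tU q)⟩))).resolve_right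
      fun e => ?_).trans inf_le_right
  have h1 := Nat.le_of_dvd Nat.card_pos (norm_grow (sup_le (h.V_le_W q) inf_le_left) (k := 4) (h.card_U q)
    (by rw [q.w.card]; decide))
  have h2 := card_le_of_le e
  rw [h.card_U q] at h2
  omega

theorem cent_U : centralizer ((V ⊔ W ⊓ centralizer {u} : Subgroup G) : Set G) ≤ V ⊔ W ⊓ centralizer {u} := by
  have h2 : centralizer ((V ⊔ W ⊓ centralizer {u} : Subgroup G) : Set G) ≤ centralizer (V : Set G) :=
    centralizer_le (le_sup_left : V ≤ V ⊔ W ⊓ centralizer {u})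
  have h3 := (h.EU q).trans (normalizer_le_normalizer_centralizer _)
  refine (h.dich q (q.w.max _ (two_of_dvd (k := 10) (dvd_of_not 1 Nat.prime_three (fun e => ?_)
    ((card_dvd_of_le h2).trans (h.dvd3072 q.k q.v)))) h2 (h3 (left_mem_EE x u))) h3
    (normalizer_le_normalizer_centralizer _ (h.tU q))).resolve_left fun e => h.not_tri q
      (le_centralizer_iff.mp (e.trans (centralizer_le (le_sup_right : _ ≤ V ⊔ W ⊓ centralizer {u}))))
  obtain ⟨y, hy, h3⟩ := exists_mem_orderOf_eq_of_dvd_card Nat.prime_three e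
  have := card_dvd_cc (R := V ⊔ W ⊓ centralizer {u}) hy
  rw [h.card_U q] at this
  rcases h.cc3 h3 with e | e <;> exact absurd (e ▸ this) (by decide)

end N24

end Cfsg.Agent.Mat
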